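import Cfsg.Agent.Lib.Phan.GaugeTwo
import Cfsg.Agent.Lib.Linear.AutPSU.Semilinear

/-!
# Consecutive maps of a weak Phan system agree after a change of gauge

The shared diagonal torus is recognised inside both neighbouring groups of dimension three, so the transition map fixes it
and extends to an automorphism of the next group preserving both blocks.
-/

set_option autoImplicit false
set_option linter.unusedSectionVars false
set_option linter.style.haveILetI false

namespace Cfsg.Lib.Phan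

open Cfsg Cfsg.Lib.Linear Cfsg.Lib.Linear.Herm
open scoped Matrix MatrixGroups

theorem mat_blk {F : Type*} [Field F] {q m n : ℕ} (ι : Fin m ↪ Fin n) (g : Cfsg.SU m F q) (i j : Fin m) :
    mat (blk ι g) (ι i) (ι j) = mat g i j := by
  show blkMat ι (mat g) (ι i) (ι j) = _
  rw [blkMat, Matrix.reindex_apply, Matrix.submatrix_apply, split_symm_app, split_symm_app]
  rfl

theorem mat_blk_off {F : Type*} [Field F] {q m n : ℕ} (ι : Fin m ↪ Fin n) (g : Cfsg.SU m F q) {x : Fin n}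
    (hx : x ∉ Set.range ι) (y : Fin n) :
    mat (blk ι g) x y = (1 : Matrix (Fin n) (Fin n) F) x y ∧
      mat (blk ι g) y x = (1 : Matrix (Fin n) (Fin n) F) y x := by
  classical
  constructor <;>
  · show blkMat ι (mat g) _ _ = _
    rw [blkMat, Matrix.reindex_apply, Matrix.submatrix_apply, split_symm_off ι hx]
    by_cases hy : y ∈ Set.range ι
    · obtain ⟨i, rfl⟩ := hy
      rw [split_symm_app]
      have : x ≠ ι i := fun e => hx ⟨i, e.symm⟩
      simp [Matrix.one_apply_ne this, Matrix.one_apply_ne (Ne.symm this)]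
    · rw [split_symm_off ι hy]
      simp [Matrix.one_apply, Subtype.ext_iff]

theorem mat_lo {F : Type*} [Field F] {q : ℕ} (g : Cfsg.SU 2 F q) :
    mat (lo g) = !![mat g 0 0, mat g 0 1, 0; mat g 1 0, mat g 1 1, 0; 0, 0, 1] := by
  have h2 : (2 : Fin 3) ∉ Set.range (sh (m := 2) (n := 3) 0 (by omega)) := by rw [range_sh01]; simp
  have e0 : sh (m := 2) (n := 3) 0 (by omega) 0 = 0 := rfl
  have e1 : sh (m := 2) (n := 3) 0 (by omega) 1 = 1 := rfl
  have hb := fun i j => mat_blk (sh (m := 2) (n := 3) 0 (by omega)) g i j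
  have hoff := fun y => mat_blk_off (sh (m := 2) (n := 3) 0 (by omega)) g h2 y
  have h00 := hb 0 0; have h01 := hb 0 1; have h10 := hb 1 0; have h11 := hb 1 1
  rw [e0] at h00 h01 h10; rw [e1] at h01 h10 h11
  ext i j
  fin_cases i <;> fin_cases j
  all_goals first
    | simpa using h00 | simpa using h01 | simpa using h10 | simpa using h11
    | simpa using (hoff 0).1 | simpa using (hoff 1).1 | simpa using (hoff 2).1
    | simpa using (hoff 0).2 | simpa using (hoff 1).2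

theorem mat_hi {F : Type*} [Field F] {q : ℕ} (g : Cfsg.SU 2 F q) :
    mat (hi g) = !![1, 0, 0; 0, mat g 0 0, mat g 0 1; 0, mat g 1 0, mat g 1 1] := by
  have h2 : (0 : Fin 3) ∉ Set.range (sh (m := 2) (n := 3) 1 (by omega)) := by rw [range_sh12]; simp
  have e0 : sh (m := 2) (n := 3) 1 (by omega) 0 = 1 := rfl
  have e1 : sh (m := 2) (n := 3) 1 (by omega) 1 = 2 := rfl
  have hb := fun i j => mat_blk (sh (m := 2) (n := 3) 1 (by omega)) g i j
  have hoff := fun y => mat_blk_off (sh (m := 2) (n := 3) 1 (by omega)) g h2 y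
  have h00 := hb 0 0; have h01 := hb 0 1; have h10 := hb 1 0; have h11 := hb 1 1
  rw [e0] at h00 h01 h10; rw [e1] at h01 h10 h11
  ext i j
  fin_cases i <;> fin_cases j
  all_goals first
    | simpa using h00 | simpa using h01 | simpa using h10 | simpa using h11
    | simpa using (hoff 0).1 | simpa using (hoff 1).1 | simpa using (hoff 2).1
    | simpa using (hoff 1).2 | simpa using (hoff 2).2

theorem mat_mul_three {F : Type*} [Field F] {q : ℕ} (g h : Cfsg.SU 3 F q) : mat (g * h) = mat g * mat h := rfl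

variable {F : Type*} [Field F] [Fintype F] {q : ℕ} {G : Type*} [Group G]

/-- A map realising a standard pair. -/
structure IsPairMap (V A B : Subgroup G) (ψ : ↥(Cfsg.SU 3 F q) →* G) : Prop where
  range_eq : ψ.range = V
  lo_eq : (ψ.comp lo).range = A
  hi_eq : (ψ.comp hi).range = B
  ker_le : ψ.ker ≤ Subgroup.center _

theorem exists_pairMap {V A B : Subgroup G} (h : Cfsg.IsStandardUnitaryPair V A B F q) :
    ∃ ψ : ↥(Cfsg.SU 3 F q) →* G, IsPairMap V A B ψ := by
  rcases h with ⟨e, hA, hB⟩ | ⟨e, hA, hB⟩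
  · refine ⟨V.subtype.comp e.toMonoidHom, ?_, ?_, ?_, ?_⟩
    · rw [MonoidHom.range_comp, MonoidHom.range_eq_top.2 e.surjective, ← MonoidHom.range_eq_map, Subgroup.range_subtype]
    · rw [MonoidHom.range_comp, range_lo, hA]
    · rw [MonoidHom.range_comp, range_hi, hB]
    · intro x hx
      have : e x = 1 := Subtype.ext hx
      rw [(MulEquiv.map_eq_one_iff e).1 this]
      exact one_mem _
  · refine ⟨V.subtype.comp (e.toMonoidHom.comp (QuotientGroup.mk' (Subgroup.center (Cfsg.SU 3 F q)))), ?_, ?_, ?_, ?_⟩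
    · rw [MonoidHom.range_comp, MonoidHom.range_eq_top.2
        (e.surjective.comp (QuotientGroup.mk'_surjective _)), ← MonoidHom.range_eq_map, Subgroup.range_subtype]
    · rw [MonoidHom.range_comp, range_lo, hA]
    · rw [MonoidHom.range_comp, range_hi, hB]
    · intro x hx
      have h1 : e (QuotientGroup.mk' (Subgroup.center (Cfsg.SU 3 F q)) x) = 1 := Subtype.ext hx
      exact (QuotientGroup.eq_one_iff x).1 ((MulEquiv.map_eq_one_iff e).1 h1)

variable (hF : Fintype.card F = q ^ 2)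
include hF

theorem exists_swap : ∃ w : Cfsg.SU 2 F q, mat w 0 0 = 0 ∧ mat w 0 1 = 1 ∧ mat w 1 0 = -1 ∧ mat w 1 1 = 0 := by
  have hq0 : q ≠ 0 := by have := two_le_q hF; omega
  obtain ⟨w, a, b, c, d⟩ := exists_su_two hF (a := (0 : F)) (b := 1) (by simp)
  exact ⟨w, a, b, by simpa using c, by simpa [zero_pow hq0] using d⟩

/-- Only the identity of a block is central. -/
theorem lo_central (g : Cfsg.SU 2 F q) (hg : lo g ∈ Subgroup.center (Cfsg.SU 3 F q)) : g = 1 := by
  have hq0 : q ≠ 0 := by have := two_le_q hF; omega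
  obtain ⟨w, w00, w01, w10, w11⟩ := exists_swap hF
  have h := congrArg (fun x => mat x 1 2) (Subgroup.mem_center_iff.1 hg (hi w))
  simp only [mat_mul_three, mat_lo, mat_hi, Matrix.mul_apply, Fin.sum_univ_three, w00, w01, w10, w11] at h
  simp at h
  have ha : mat g 0 0 = 1 := by
    rw [← pow_q_q hF (mat g 0 0), ← (su_two_entries hF g).1, ← h, one_pow]
  have hdet := su_two_det hF g
  rw [ha, one_pow, mul_one, add_eq_left, mul_eq_zero, pow_eq_zero_iff hq0, or_self] at hdet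
  exact su_two_ext hF (by rw [ha]; rfl) (by rw [hdet]; rfl)

theorem hi_central (g : Cfsg.SU 2 F q) (hg : hi g ∈ Subgroup.center (Cfsg.SU 3 F q)) : g = 1 := by
  have hq0 : q ≠ 0 := by have := two_le_q hF; omega
  obtain ⟨w, w00, w01, w10, w11⟩ := exists_swap hF
  have h := congrArg (fun x => mat x 1 0) (Subgroup.mem_center_iff.1 hg (lo w))
  simp only [mat_mul_three, mat_lo, mat_hi, Matrix.mul_apply, Fin.sum_univ_three, w00, w01, w10, w11] at h
  simp at h
  have ha : mat g 0 0 = 1 := h.symm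
  have hdet := su_two_det hF g
  rw [ha, one_pow, mul_one, add_eq_left, mul_eq_zero, pow_eq_zero_iff hq0, or_self] at hdet
  exact su_two_ext hF (by rw [ha]; rfl) (by rw [hdet]; rfl)

theorem IsPairMap.lo_injective {V A B : Subgroup G} {ψ : ↥(Cfsg.SU 3 F q) →* G} (h : IsPairMap V A B ψ) :
    Function.Injective (ψ.comp lo) :=
  (injective_iff_map_eq_one _).2 fun g hg => lo_central hF g (h.ker_le hg)

theorem IsPairMap.hi_injective {V A B : Subgroup G} {ψ : ↥(Cfsg.SU 3 F q) →* G} (h : IsPairMap V A B ψ) :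
    Function.Injective (ψ.comp hi) :=
  (injective_iff_map_eq_one _).2 fun g hg => hi_central hF g (h.ker_le hg)

/-- An element of the upper block normalising the lower one is diagonal. -/
theorem IsPairMap.dia_of_conj {V A B : Subgroup G} {ψ : ↥(Cfsg.SU 3 F q) →* G} (h : IsPairMap V A B ψ)
    (x : Cfsg.SU 2 F q) (hx : ∀ u ∈ A, ψ (hi x) * u * (ψ (hi x))⁻¹ ∈ A) : mat x 0 1 = 0 := by
  have hq0 : q ≠ 0 := by have := two_le_q hF; omega
  obtain ⟨w, w00, w01, w10, w11⟩ := exists_swap hF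
  have hwA : ψ (lo w) ∈ A := h.lo_eq ▸ ⟨w, rfl⟩
  obtain ⟨k, hk⟩ : ψ (hi x) * ψ (lo w) * (ψ (hi x))⁻¹ ∈ (ψ.comp lo).range := h.lo_eq.symm ▸ hx _ hwA
  set z := (lo k)⁻¹ * (hi x * lo w * (hi x)⁻¹) with hz
  have hzc : z ∈ Subgroup.center (Cfsg.SU 3 F q) := h.ker_le (by
    rw [MonoidHom.mem_ker, hz, map_mul, map_mul, map_mul, map_inv, map_inv]
    rw [MonoidHom.comp_apply] at hk
    rw [hk, inv_mul_eq_one])
  -- a central element has no entry (0, 2), (1, 2)
  obtain ⟨μ, hμ, hμ2⟩ := exists_unit hF (two_le_q hF)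
  have hμ' : μ * μ ^ q = 1 := by rw [← hμ, pow_succ, mul_comm]
  obtain ⟨d, d00, d01, d10, d11⟩ := exists_su_two hF (a := μ) (b := 0) (by simp [hμ', zero_pow hq0])
  rw [zero_pow hq0, neg_zero] at d10
  have hμ1 : μ ≠ 1 := fun e => hμ2 (by rw [e, one_mul])
  have hμq1 : μ ^ q ≠ 1 := fun e => hμ1 (by rw [← hμ', e, mul_one])
  have hz02 : mat z 0 2 = 0 ∧ mat z 1 2 = 0 := by
    have h0 := congrArg (fun y => mat y 0 2) (Subgroup.mem_center_iff.1 hzc (lo d))
    have h1 := congrArg (fun y => mat y 1 2) (Subgroup.mem_center_iff.1 hzc (lo d))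
    simp only [mat_mul_three, mat_lo, Matrix.mul_apply, Fin.sum_univ_three, d00, d01, d10, d11] at h0 h1
    simp at h0 h1
    exact ⟨(mul_eq_zero.1 (by linear_combination h0 : (μ - 1) * mat z 0 2 = 0)).resolve_left (sub_ne_zero.2 hμ1),
      (mul_eq_zero.1 (by linear_combination h1 : (μ ^ q - 1) * mat z 1 2 = 0)).resolve_left (sub_ne_zero.2 hμq1)⟩
  have e : hi x * lo w = lo k * z * hi x := by rw [hz]; group
  set y := (hi x)⁻¹ with hy
  have e2 : lo w * y = y * (lo k * z) := by rw [hy, eq_inv_mul_iff_mul_eq, ← mul_assoc, e]; group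
  have he := congrArg (fun y => mat y 0 2) e2
  have hy' : y = hi x⁻¹ := by rw [hy, map_inv]
  simp only [hy', mat_mul_three, mat_lo, mat_hi, Matrix.mul_apply, Fin.sum_univ_three, w00, w01, w10, w11] at he
  simp [hz02.1, hz02.2] at he
  have hinv : mat x⁻¹ 0 1 = -mat x 0 1 := by
    show ((x.1⁻¹ : SL(2, F))).1 0 1 = _
    rw [Matrix.SpecialLinearGroup.coe_inv, Matrix.adjugate_fin_two]
    simp
  rw [hinv, neg_eq_zero] at he
  exact he

/-- Conjugation of a block by the torus of the other one. -/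
theorem exists_torus_conj {t k : Cfsg.SU 2 F q} (ht : mat t 0 1 = 0) :
    ∃ k' : Cfsg.SU 2 F q, mat k' 0 0 = mat k 0 0 ∧ mat k' 0 1 = mat t 0 0 ^ q * mat k 0 1 ∧
      hi t * lo k = lo k' * hi t ∧ lo t * hi k = hi k' * lo t := by
  have hq0 : q ≠ 0 := by have := two_le_q hF; omega
  have hN : mat t 0 0 * mat t 0 0 ^ q = 1 := by
    have := su_two_det hF t
    rwa [ht, zero_mul, add_zero] at this
  obtain ⟨k', a, b, c, d⟩ := exists_su_two hF (a := mat k 0 0) (b := mat t 0 0 ^ q * mat k 0 1) (by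
    rw [mul_pow, pow_q_q hF]
    linear_combination su_two_det hF k + (mat k 0 1 * mat k 0 1 ^ q) * hN)
  obtain ⟨t11, t10⟩ := su_two_entries hF t
  rw [ht, zero_pow hq0, neg_zero] at t10
  obtain ⟨k11, k10⟩ := su_two_entries hF k
  rw [mul_pow, pow_q_q hF] at c
  refine ⟨k', a, b, ?_, ?_⟩
  · refine mat_ext ?_
    rw [mat_mul_three, mat_mul_three, mat_lo, mat_lo, mat_hi]
    ext i j
    fin_cases i <;> fin_cases j <;> simp [Matrix.mul_apply, Fin.sum_univ_three, a, b, c, d, ht, t10, t11, k10, k11] <;>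
      first
        | ring1
        | linear_combination (-mat k 0 1) * hN
        | linear_combination (mat k 0 1) * hN
        | linear_combination (-(mat k 0 1 ^ q)) * hN
        | linear_combination (mat k 0 1 ^ q) * hN
  · refine mat_ext ?_
    rw [mat_mul_three, mat_mul_three, mat_hi, mat_hi, mat_lo]
    ext i j
    fin_cases i <;> fin_cases j <;> simp [Matrix.mul_apply, Fin.sum_univ_three, a, b, c, d, ht, t10, t11, k10, k11] <;>
      first
        | ring1
        | linear_combination (-mat k 0 1) * hN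
        | linear_combination (mat k 0 1) * hN
        | linear_combination (-(mat k 0 1 ^ q)) * hN
        | linear_combination (mat k 0 1 ^ q) * hN

/-- A semilinear automorphism of the lower block extends to the group preserving both blocks. -/
theorem exists_extend {α : MulAut ↥(Cfsg.SU 2 F q)} {ν : F} {σ : F ≃+* F} (hν : ν ^ (q + 1) = 1)
    (hα : ∀ g, mat (α g) 0 0 = σ (mat g 0 0) ∧ mat (α g) 0 1 = ν * σ (mat g 0 1)) :
    ∃ β : MulAut ↥(Cfsg.SU 3 F q), (∀ g, β (lo g) = lo (α g)) ∧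
      (hi (F := F) (q := q)).range.map β.toMonoidHom = hi.range := by
  have hν1 : ν * ν ^ q = 1 := by rw [← hν, pow_succ, mul_comm]
  let T : GL (Fin 3) F := ⟨Matrix.diagonal ![1, ν ^ q, 1], Matrix.diagonal ![1, ν, 1],
    by rw [Matrix.diagonal_mul_diagonal, ← Matrix.diagonal_one]; congr 1; funext i; fin_cases i <;> simp [mul_comm (ν ^ q), hν1],
    by rw [Matrix.diagonal_mul_diagonal, ← Matrix.diagonal_one]; congr 1; funext i; fin_cases i <;> simp [hν1]⟩
  have hT : T ∈ Cfsg.GU 3 F q := fun u v => by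
    show Cfsg.hermForm 3 F q (Matrix.diagonal ![1, ν ^ q, 1] *ᵥ u) (Matrix.diagonal ![1, ν ^ q, 1] *ᵥ v) = _
    simp [Cfsg.hermForm, Fin.sum_univ_three, Matrix.mulVec_diagonal, mul_pow, pow_q_q hF]
    linear_combination (u 1 * v 1 ^ q) * hν1
  let β : MulAut ↥(Cfsg.SU 3 F q) := AutPSU.cnj ⟨T, hT⟩ * AutPSU.frobU σ
  have hβ : ∀ s, mat (β s) = Matrix.diagonal ![1, ν ^ q, 1] * (mat s).map σ * Matrix.diagonal ![1, ν, 1] :=
    fun s => rfl
  have hσq : ∀ x : F, σ (x ^ q) = σ x ^ q := fun x => map_pow σ x q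
  refine ⟨β, fun g => mat_ext ?_, ?_⟩
  · obtain ⟨g11, g10⟩ := su_two_entries hF g
    obtain ⟨a11, a10⟩ := su_two_entries hF (α g)
    rw [hβ, mat_lo, mat_lo]
    ext i j
    fin_cases i <;> fin_cases j <;>
      simp [Matrix.mul_diagonal, Matrix.diagonal_mul, (hα g).1, (hα g).2, g11, g10, a11, a10, map_neg,
        mul_pow] <;>
      first
        | ring1
        | linear_combination (σ (mat g 0 0) ^ q) * hν1
        | linear_combination (-(σ (mat g 0 0) ^ q)) * hν1
  · have key : ∀ g : Cfsg.SU 2 F q, ∃ g' : Cfsg.SU 2 F q, β (hi g) = hi g' := by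
      intro g
      have hdet := congrArg σ (su_two_det hF g)
      rw [map_add, map_mul, map_mul, hσq, hσq, map_one] at hdet
      obtain ⟨g', a, b, c, d⟩ := exists_su_two hF (a := σ (mat g 0 0)) (b := ν ^ q * σ (mat g 0 1)) (by
        rw [mul_pow, pow_q_q hF]
        linear_combination hdet + (σ (mat g 0 1) * σ (mat g 0 1) ^ q) * hν1)
      rw [mul_pow, pow_q_q hF] at c
      obtain ⟨g11, g10⟩ := su_two_entries hF g
      refine ⟨g', mat_ext ?_⟩
      rw [hβ, mat_hi, mat_hi]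
      ext i j
      fin_cases i <;> fin_cases j <;>
        simp [Matrix.mul_diagonal, Matrix.diagonal_mul, a, b, c, d, g11, g10, map_neg] <;>
        first
          | ring1
          | linear_combination (σ (mat g 0 0)) * hν1
          | linear_combination (-(σ (mat g 0 0))) * hν1
    refine Subgroup.eq_of_le_of_card_ge ?_ ?_
    · rintro _ ⟨_, ⟨g, rfl⟩, rfl⟩
      obtain ⟨g', hg'⟩ := key g
      exact ⟨g', hg'.symm⟩
    · exact (Nat.card_congr (Subgroup.equivMapOfInjective _ β.toMonoidHom β.injective).toEquiv).le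

/-- The second of two consecutive maps can be chosen to agree with the first one on the shared block. -/
theorem exists_step (hmon : ∀ α : MulAut ↥(Cfsg.SU 2 F q), (∀ g, mat g 0 1 = 0 → mat (α g) 0 1 = 0) →
      ∃ (ν : F) (σ : F ≃+* F), ν ^ (q + 1) = 1 ∧
        ∀ g, mat (α g) 0 0 = σ (mat g 0 0) ∧ mat (α g) 0 1 = ν * σ (mat g 0 1)) {U₀ U₁ U₂ V V' : Subgroup G} {ψ : ↥(Cfsg.SU 3 F q) →* G}
    (h : IsPairMap V U₀ U₁ ψ) (h' : Cfsg.IsStandardUnitaryPair V' U₁ U₂ F q)
    (hcomm : ∀ x ∈ U₀, ∀ y ∈ U₂, x * y = y * x) :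
    ∃ ψ' : ↥(Cfsg.SU 3 F q) →* G, IsPairMap V' U₁ U₂ ψ' ∧ ψ.comp hi = ψ'.comp lo := by
  obtain ⟨φ, hφ⟩ := exists_pairMap h'
  let e₁ := MonoidHom.ofInjective (h.hi_injective hF)
  let e₂ := MonoidHom.ofInjective (hφ.lo_injective hF)
  let α : MulAut ↥(Cfsg.SU 2 F q) :=
    e₁.trans ((MulEquiv.subgroupCongr (h.hi_eq.trans hφ.lo_eq.symm)).trans e₂.symm)
  have hα : ∀ s, φ (lo (α s)) = ψ (hi s) := by
    intro s
    have h1 : e₂ (α s) = MulEquiv.subgroupCongr (h.hi_eq.trans hφ.lo_eq.symm) (e₁ s) := e₂.apply_symm_apply _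
    exact congrArg Subtype.val h1
  obtain ⟨μ, hμ, hμ2⟩ := exists_unit hF (two_le_q hF)
  have hμ' : μ * μ ^ q = 1 := by rw [← hμ, pow_succ, mul_comm]
  obtain ⟨t, t00, t01, -, -⟩ := exists_su_two hF (a := μ) (b := 0) (by
    simp [hμ', zero_pow (show q ≠ 0 by have := two_le_q hF; omega)])
  have hdia : ∀ s, mat s 0 1 = 0 → mat (α s) 0 1 = 0 := by
    intro s hs
    obtain ⟨k', a, b, hconj, -⟩ := exists_torus_conj hF (k := α s) t01
    -- the conjugate is again in the image of the torus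
    obtain ⟨r, hr⟩ : φ (lo k') ∈ (ψ.comp hi).range := by rw [h.hi_eq, ← hφ.lo_eq]; exact ⟨k', rfl⟩
    have hd : φ (hi t) ∈ U₂ := hφ.hi_eq ▸ ⟨t, rfl⟩
    have hck : φ (lo k') = φ (hi t) * ψ (hi s) * (φ (hi t))⁻¹ := by
      rw [← hα, ← map_mul, hconj, map_mul, mul_inv_cancel_right]
    have hsA : ∀ u ∈ U₀, ψ (hi s) * u * (ψ (hi s))⁻¹ ∈ U₀ := by
      intro u hu
      obtain ⟨m, rfl⟩ : u ∈ (ψ.comp lo).range := h.lo_eq.symm ▸ hu
      obtain ⟨m', -, -, hm, -⟩ := exists_torus_conj hF (k := m) hs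
      rw [MonoidHom.comp_apply, ← map_mul, hm, map_mul, mul_inv_cancel_right, ← h.lo_eq]
      exact ⟨m', rfl⟩
    have hrd : mat r 0 1 = 0 := by
      refine h.dia_of_conj hF r fun u hu => ?_
      rw [MonoidHom.comp_apply] at hr
      rw [hr, hck]
      set d := φ (hi t)
      have e1 : d⁻¹ * u * d = u := by rw [mul_assoc, hcomm u hu d hd, ← mul_assoc, inv_mul_cancel, one_mul]
      have e2 := hsA u hu
      have e3 : d * (ψ (hi s) * u * (ψ (hi s))⁻¹) * d⁻¹ = ψ (hi s) * u * (ψ (hi s))⁻¹ := by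
        rw [← hcomm _ e2 d hd, mul_inv_cancel_right]
      rw [show d * ψ (hi s) * d⁻¹ * u * (d * ψ (hi s) * d⁻¹)⁻¹ = d * (ψ (hi s) * (d⁻¹ * u * d) * (ψ (hi s))⁻¹) * d⁻¹
        by group, e1, e3]
      exact e2
    -- diagonal elements commute
    have hsr : s * r = r * s := by
      refine su_two_ext hF ?_ ?_ <;>
      · show (mat s * mat r) 0 _ = (mat r * mat s) 0 _
        simp [Matrix.mul_apply, Fin.sum_univ_two, hs, hrd, mul_comm]
    have hkk : α s * k' = k' * α s := by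
      refine hφ.lo_injective hF ?_
      simp only [MonoidHom.comp_apply, map_mul, hα]
      rw [MonoidHom.comp_apply] at hr
      rw [← hr, ← map_mul, ← map_mul, ← map_mul, ← map_mul, hsr]
    have he := congrArg (fun y => mat y 0 0) hkk
    change (mat (α s) * mat k') 0 0 = (mat k' * mat (α s)) 0 0 at he
    obtain ⟨-, k10⟩ := su_two_entries hF k'
    obtain ⟨-, s10⟩ := su_two_entries hF (α s)
    rw [b, t00, mul_pow, pow_q_q hF] at k10
    rw [Matrix.mul_apply, Matrix.mul_apply, Fin.sum_univ_two, Fin.sum_univ_two, a, b, t00, k10, s10] at he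
    have : (μ ^ q - μ) * (mat (α s) 0 1 * mat (α s) 0 1 ^ q) = 0 := by linear_combination he
    rcases mul_eq_zero.1 this with h0 | h0
    · exact absurd (by linear_combination hμ' - μ * h0) hμ2
    · rcases mul_eq_zero.1 h0 with h0 | h0
      · exact h0
      · exact pow_eq_zero_iff (show q ≠ 0 by have := two_le_q hF; omega) |>.1 h0
  obtain ⟨ν, σ, hν, hmon⟩ := hmon α hdia
  obtain ⟨β, hβlo, hβhi⟩ := exists_extend hF hν hmon
  refine ⟨φ.comp β.toMonoidHom, ⟨?_, ?_, ?_, ?_⟩, ?_⟩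
  · rw [MonoidHom.range_comp, MonoidHom.range_eq_top.2 β.surjective, ← MonoidHom.range_eq_map, hφ.range_eq]
  · rw [← hφ.lo_eq]
    ext x
    simp only [MonoidHom.mem_range, MonoidHom.comp_apply, MulEquiv.coe_toMonoidHom, hβlo]
    exact ⟨fun ⟨g, hg⟩ => ⟨α g, hg⟩, fun ⟨g, hg⟩ => ⟨α.symm g, by rwa [MulEquiv.apply_symm_apply]⟩⟩
  · rw [MonoidHom.range_comp, ← Subgroup.map_map, hβhi, ← MonoidHom.range_comp, hφ.hi_eq]
  · intro x hx
    have h1 : β x ∈ Subgroup.center (Cfsg.SU 3 F q) := hφ.ker_le hx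
    rw [Subgroup.mem_center_iff] at h1 ⊢
    exact fun y => β.injective (by rw [map_mul, map_mul, h1])
  · refine MonoidHom.ext fun s => ?_
    show ψ (hi s) = φ (β (lo s))
    rw [hβlo, hα]

/-- Maps for all consecutive pairs, agreeing on the shared blocks. -/
theorem exists_agreeing_of_monomial (hmon : ∀ α : MulAut ↥(Cfsg.SU 2 F q), (∀ g, mat g 0 1 = 0 → mat (α g) 0 1 = 0) →
      ∃ (ν : F) (σ : F ≃+* F), ν ^ (q + 1) = 1 ∧
        ∀ g, mat (α g) 0 0 = σ (mat g 0 0) ∧ mat (α g) 0 1 = ν * σ (mat g 0 1)) {n : ℕ} (U : Fin n → Subgroup G) (V : Fin n → Fin n → Subgroup G)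
    (h1 : ∀ i j : Fin n, (i : ℕ) + 2 ≤ j → ∀ x ∈ U i, ∀ y ∈ U j, x * y = y * x)
    (h2 : ∀ i j : Fin n, (i : ℕ) + 1 = j → Cfsg.IsStandardUnitaryPair (V i j) (U i) (U j) F q) :
    ∃ ψ : ℕ → (↥(Cfsg.SU 3 F q) →* G),
      (∀ i, ∀ h : i + 1 < n, (ψ i).range = V ⟨i, by omega⟩ ⟨i + 1, h⟩ ∧
        ((ψ i).comp lo).range = U ⟨i, by omega⟩ ∧ ((ψ i).comp hi).range = U ⟨i + 1, h⟩) ∧
      (∀ i, i + 2 < n → (ψ i).comp hi = (ψ (i + 1)).comp lo) := by
  classical
  let P : ℕ → (↥(Cfsg.SU 3 F q) →* G) → Prop := fun i f =>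
    ∀ h : i + 1 < n, IsPairMap (V ⟨i, by omega⟩ ⟨i + 1, h⟩) (U ⟨i, by omega⟩) (U ⟨i + 1, h⟩) f
  have h0 : ∃ f, P 0 f := by
    by_cases h : 0 + 1 < n
    · obtain ⟨f, hf⟩ := exists_pairMap (h2 ⟨0, by omega⟩ ⟨0 + 1, h⟩ rfl)
      exact ⟨f, fun _ => hf⟩
    · exact ⟨1, fun h' => absurd h' h⟩
  have hs : ∀ (i : ℕ) (f : {f // P i f}), ∃ g, P (i + 1) g ∧ (i + 2 < n → f.1.comp hi = g.comp lo) := by
    intro i f
    by_cases h : i + 2 < n
    · obtain ⟨g, hg, hfg⟩ := exists_step hF hmon (f.2 (by omega))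
        (h2 ⟨i + 1, by omega⟩ ⟨i + 1 + 1, h⟩ rfl) (h1 ⟨i, by omega⟩ ⟨i + 1 + 1, h⟩ le_rfl)
      exact ⟨g, fun _ => hg, fun _ => hfg⟩
    · exact ⟨1, fun h' => absurd h' h, fun h' => absurd h' h⟩
  let f : (i : ℕ) → {f // P i f} := fun i =>
    Nat.rec ⟨h0.choose, h0.choose_spec⟩ (fun j fj => ⟨(hs j fj).choose, (hs j fj).choose_spec.1⟩) i
  exact ⟨fun i => (f i).1, fun i h => ⟨((f i).2 h).range_eq, ((f i).2 h).lo_eq, ((f i).2 h).hi_eq⟩,
    fun i h => (hs i (f i)).choose_spec.2 h⟩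

/-- Maps for all consecutive pairs, agreeing on the shared blocks, over fields with at least sixteen elements. -/
theorem exists_agreeing (hq : 4 ≤ q) {n : ℕ} (U : Fin n → Subgroup G) (V : Fin n → Fin n → Subgroup G)
    (h1 : ∀ i j : Fin n, (i : ℕ) + 2 ≤ j → ∀ x ∈ U i, ∀ y ∈ U j, x * y = y * x)
    (h2 : ∀ i j : Fin n, (i : ℕ) + 1 = j → Cfsg.IsStandardUnitaryPair (V i j) (U i) (U j) F q) :
    ∃ ψ : ℕ → (↥(Cfsg.SU 3 F q) →* G),
      (∀ i, ∀ h : i + 1 < n, (ψ i).range = V ⟨i, by omega⟩ ⟨i + 1, h⟩ ∧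
        ((ψ i).comp lo).range = U ⟨i, by omega⟩ ∧ ((ψ i).comp hi).range = U ⟨i + 1, h⟩) ∧
      (∀ i, i + 2 < n → (ψ i).comp hi = (ψ (i + 1)).comp lo) :=
  exists_agreeing_of_monomial hF (exists_monomial hF hq) U V h1 h2

end Cfsg.Lib.Phan
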