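import Cfsg.Agent.Lib.Phan.GaugeTwo

/-!
# The special unitary group of dimension two over the field with nine elements

It is generated by two elements of order four and one of order three; its automorphisms preserving the diagonal
torus are monomial.
-/

set_option autoImplicit false
set_option linter.unusedSectionVars false

namespace Cfsg.Lib.Phan.Quat

open Cfsg Cfsg.Lib.Linear Cfsg.Lib.Linear.Herm Cfsg.Lib.Phan
open scoped Matrix

variable {F : Type*} [Field F] [Fintype F]

set_option quotPrecheck false in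
local notation "G₂" => ↥(Cfsg.SU 2 F 3)

section

variable (hF : Fintype.card F = 3 ^ 2)
include hF

theorem three_zero : (3 : F) = 0 := by
  have h : ((3 ^ 2 : ℕ) : F) = 0 := by rw [← hF]; exact Nat.cast_card_eq_zero F
  push_cast at h
  exact mul_self_eq_zero.1 (by linear_combination h : (3 : F) * 3 = 0)

theorem two_ne : (2 : F) ≠ 0 := fun h => one_ne_zero (α := F) (by linear_combination three_zero hF - h)

theorem pow_nine (x : F) : (x ^ 3) ^ 3 = x := pow_q_q hF x

theorem add_cube (x y : F) : (x + y) ^ 3 = x ^ 3 + y ^ 3 := by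
  linear_combination (x ^ 2 * y + x * y ^ 2) * three_zero hF

theorem norm_two {a : F} (h : a * a ^ 3 ≠ 0) (h1 : a * a ^ 3 ≠ 1) : a * a ^ 3 = -1 := by
  have h3 : (a * a ^ 3) ^ 3 = a * a ^ 3 := by rw [mul_pow, pow_nine hF]; ring
  have : a * a ^ 3 * ((a * a ^ 3 - 1) * (a * a ^ 3 + 1)) = 0 := by linear_combination h3
  rcases mul_eq_zero.1 this with e | e
  · exact absurd e h
  rcases mul_eq_zero.1 e with e | e
  · exact absurd (sub_eq_zero.1 e) h1
  · linear_combination e

/-- A square root of minus one. -/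
theorem exists_sqrt : ∃ i : F, i * i = -1 := by
  obtain ⟨μ, hμ, hμ2⟩ := exists_unit hF (by norm_num : 2 ≤ 3)
  refine ⟨μ, ?_⟩
  have : (μ * μ - 1) * (μ * μ + 1) = 0 := by linear_combination hμ
  exact (mul_eq_zero.1 this).elim (fun h => absurd (sub_eq_zero.1 h) hμ2) fun h => by linear_combination h

/-- The chosen square root of minus one. -/
noncomputable def im : F := (exists_sqrt hF).choose

theorem im_sq : im hF * im hF = -1 := (exists_sqrt hF).choose_spec

theorem im_cube : im hF ^ 3 = -im hF := by linear_combination im hF * im_sq hF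

theorem im_ne : im hF ≠ 0 := fun h => by
  have := im_sq hF
  rw [h, mul_zero] at this
  exact one_ne_zero (α := F) (by linear_combination this)

theorem neg_im_ne : -im hF ≠ im hF := fun h => im_ne hF (mul_left_cancel₀ (two_ne hF) (by linear_combination -h))

/-- The scalars of norm one. -/
theorem circle {a : F} (h : a * a ^ 3 = 1) : a = 1 ∨ a = -1 ∨ a = im hF ∨ a = -im hF := by
  have : (a - 1) * ((a + 1) * ((a - im hF) * (a + im hF))) = 0 := by
    linear_combination h - (a ^ 2 - 1) * im_sq hF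
  simp only [mul_eq_zero, sub_eq_zero, add_eq_zero_iff_eq_neg] at this
  tauto

/-- A field automorphism is determined by the image of the square root. -/
theorem aut_eq {σ τ : F ≃+* F} (h : σ (im hF) = τ (im hF)) : σ = τ := by
  have hfix : ∀ (ρ : F ≃+* F) (x : F), x ^ 3 = x → ρ x = x := fun ρ x hx => by
    have : x * ((x - 1) * (x + 1)) = 0 := by linear_combination hx
    rcases mul_eq_zero.1 this with e | e
    · rw [e, map_zero]
    rcases mul_eq_zero.1 e with e | e
    · rw [sub_eq_zero.1 e, map_one]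
    · rw [add_eq_zero_iff_eq_neg.1 e, map_neg, map_one]
  refine RingEquiv.ext fun x => ?_
  obtain ⟨s, hs, r, hr, rfl⟩ : ∃ s, s ^ 3 = s ∧ ∃ r, r ^ 3 = r ∧ x = s + r * im hF := by
    have hneg : ∀ y : F, (-y) ^ 3 = -(y ^ 3) := fun y => by ring
    refine ⟨-(x + x ^ 3), ?_, (x - x ^ 3) * im hF, ?_, ?_⟩
    · rw [hneg, add_cube hF, pow_nine hF]; ring
    · rw [mul_pow, im_cube hF, sub_eq_add_neg, add_cube hF, hneg, pow_nine hF]; ring
    · linear_combination (x - x ^ 3) * (-(im_sq hF)) + x * three_zero hF - (x + x ^ 3) * 0 - 0 * x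
  rw [map_add, map_add, map_mul, map_mul, hfix σ s hs, hfix τ s hs, hfix σ r hr, hfix τ r hr, h]

theorem exists_w : ∃ g : G₂, mat g 0 0 = im hF ∧ mat g 0 1 = 0 := by
  obtain ⟨g, a, b, -, -⟩ := exists_su_two hF (a := im hF) (b := 0) (by rw [im_cube hF]; linear_combination -im_sq hF)
  exact ⟨g, a, b⟩

/-- The diagonal element of order four. -/
noncomputable def w : G₂ := (exists_w hF).choose

theorem exists_v : ∃ g : G₂, mat g 0 0 = 0 ∧ mat g 0 1 = 1 := by
  obtain ⟨g, a, b, -, -⟩ := exists_su_two hF (a := (0 : F)) (b := 1) (by ring)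
  exact ⟨g, a, b⟩

/-- The monomial element of order four. -/
noncomputable def v : G₂ := (exists_v hF).choose

theorem exists_u : ∃ g : G₂, mat g 0 0 = 1 + im hF ∧ mat g 0 1 = 1 + im hF := by
  obtain ⟨g, a, b, -, -⟩ := exists_su_two hF (a := 1 + im hF) (b := 1 + im hF) (by
    rw [add_cube hF, im_cube hF]; linear_combination -2 * im_sq hF + three_zero hF)
  exact ⟨g, a, b⟩

/-- The element of order three. -/
noncomputable def u : G₂ := (exists_u hF).choose

theorem exists_nu : ∃ g : G₂, mat g 0 0 = -1 ∧ mat g 0 1 = 0 := by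
  obtain ⟨g, a, b, -, -⟩ := exists_su_two hF (a := (-1 : F)) (b := 0) (by ring)
  exact ⟨g, a, b⟩

/-- The involution. -/
noncomputable def n1 : G₂ := (exists_nu hF).choose

theorem mat_w : mat (w hF) 0 0 = im hF ∧ mat (w hF) 0 1 = 0 := (exists_w hF).choose_spec

theorem mat_v : mat (v hF) 0 0 = 0 ∧ mat (v hF) 0 1 = 1 := (exists_v hF).choose_spec

theorem mat_u : mat (u hF) 0 0 = 1 + im hF ∧ mat (u hF) 0 1 = 1 + im hF := (exists_u hF).choose_spec

theorem mat_n1 : mat (n1 hF) 0 0 = -1 ∧ mat (n1 hF) 0 1 = 0 := (exists_nu hF).choose_spec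

/-- The entries of a product. -/
theorem mul_entries (g h : G₂) :
    mat (g * h) 0 0 = mat g 0 0 * mat h 0 0 - mat g 0 1 * mat h 0 1 ^ 3 ∧
      mat (g * h) 0 1 = mat g 0 0 * mat h 0 1 + mat g 0 1 * mat h 0 0 ^ 3 := by
  obtain ⟨h11, h10⟩ := su_two_entries hF h
  constructor <;>
  · show (mat g * mat h) 0 _ = _
    simp [Matrix.mul_apply, Fin.sum_univ_two, h11, h10]
    try ring

theorem one_entries : mat (1 : G₂) 0 0 = 1 ∧ mat (1 : G₂) 0 1 = 0 := by
  constructor <;> simp [mat]

theorem v_mul_w : v hF * w hF = n1 hF * (w hF * v hF) := by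
  refine su_two_ext hF ?_ ?_ <;>
    simp [(mul_entries hF _ _).1, (mul_entries hF _ _).2, mat_w hF, mat_v hF, mat_n1 hF, im_cube hF]

theorem v_sq : v hF * v hF = n1 hF := by
  refine su_two_ext hF ?_ ?_ <;>
    simp [(mul_entries hF _ _).1, (mul_entries hF _ _).2, mat_v hF, mat_n1 hF]

theorem u_mul_w : u hF * w hF = v hF * u hF := by
  refine su_two_ext hF ?_ ?_ <;>
    simp [(mul_entries hF _ _).1, (mul_entries hF _ _).2, mat_w hF, mat_v hF, mat_u hF, im_cube hF, add_cube hF] <;>
    first
      | ring1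
      | linear_combination im_sq hF
      | linear_combination -im_sq hF

theorem u_mul_v : u hF * v hF = w hF * v hF * u hF := by
  refine su_two_ext hF ?_ ?_ <;>
    simp [(mul_entries hF _ _).1, (mul_entries hF _ _).2, mat_w hF, mat_v hF, mat_u hF, im_cube hF, add_cube hF] <;>
    first
      | ring1
      | linear_combination im_sq hF
      | linear_combination -im_sq hF

theorem n1_central (g : G₂) : Commute (n1 hF) g := by
  refine su_two_ext hF ?_ ?_ <;>
    simp [(mul_entries hF _ _).1, (mul_entries hF _ _).2, mat_n1 hF] <;> ring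

theorem n1_ne_one : n1 hF ≠ 1 := fun h => by
  have := congrArg (fun g : G₂ => mat g 0 0) h
  simp only [mat_n1 hF, one_entries hF] at this
  exact two_ne hF (by linear_combination -this)

/-- Trace one less than zero means order three. -/
theorem cube_eq_one {g : G₂} (h : mat g 0 0 + mat g 0 0 ^ 3 = -1) : g ^ 3 = 1 := by
  have hd := su_two_det hF g
  have hg : mat g 0 0 ^ 3 = -1 - mat g 0 0 := by linear_combination h
  rw [hg] at hd
  have h9 : (mat g 0 1 ^ 3) ^ 3 = mat g 0 1 := pow_nine hF _
  refine su_two_ext hF ?_ ?_ <;> rw [pow_succ, pow_two]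
  · simp only [(mul_entries hF _ _).1, (mul_entries hF _ _).2, (one_entries hF).1, hg]
    linear_combination (1 - mat g 0 0) * hd
  · simp only [(mul_entries hF _ _).1, (mul_entries hF _ _).2, (one_entries hF).2, hg]
    linear_combination (-(mat g 0 1)) * hd

theorem u_cube : u hF ^ 3 = 1 :=
  cube_eq_one hF (by rw [(mat_u hF).1, add_cube hF, im_cube hF]; linear_combination three_zero hF)

/-- The group is generated by the three elements. -/
theorem closure_eq_top {S : Subgroup G₂} (hw : w hF ∈ S) (hv : v hF ∈ S)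
    (h3 : ∀ g, mat g 0 0 = 1 + im hF → g ∈ S) : S = ⊤ := by
  have hdiag : ∀ g : G₂, mat g 0 1 = 0 → g ∈ S := by
    intro g hg
    have hd := su_two_det hF g
    rw [hg, zero_mul, add_zero] at hd
    have hn : n1 hF ∈ S := v_sq hF ▸ mul_mem hv hv
    rcases circle hF hd with h | h | h | h
    · rw [show g = 1 from su_two_ext hF (h.trans (one_entries hF).1.symm) (hg.trans (one_entries hF).2.symm)]
      exact one_mem _
    · rw [show g = n1 hF from su_two_ext hF (h.trans (mat_n1 hF).1.symm) (hg.trans (mat_n1 hF).2.symm)]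
      exact hn
    · rw [show g = w hF from su_two_ext hF (h.trans (mat_w hF).1.symm) (hg.trans (mat_w hF).2.symm)]
      exact hw
    · rw [show g = n1 hF * w hF from su_two_ext hF (by simp [(mul_entries hF _ _).1, mat_n1 hF, mat_w hF, h])
        (by simp [(mul_entries hF _ _).2, mat_n1 hF, mat_w hF, hg])]
      exact mul_mem hn hw
  refine eq_top_iff.2 fun g _ => ?_
  by_cases ha : mat g 0 0 = 0
  · have := hdiag (g * v hF) (by simp [(mul_entries hF _ _).2, mat_v hF, ha])
    simpa using mul_mem this (inv_mem hv)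
  by_cases hb : mat g 0 1 = 0
  · exact hdiag g hb
  have hd := su_two_det hF g
  have hN : mat g 0 0 * mat g 0 0 ^ 3 = -1 := norm_two hF (mul_ne_zero ha (pow_ne_zero _ ha)) fun h => by
    rw [h] at hd
    exact mul_ne_zero hb (pow_ne_zero 3 hb) (by linear_combination hd)
  obtain ⟨t, ht, ht'⟩ : ∃ t, t * t ^ 3 = 1 ∧ t * mat g 0 0 = 1 + im hF := by
    refine ⟨(1 + im hF) / mat g 0 0, ?_, div_mul_cancel₀ _ ha⟩
    rw [div_pow, div_mul_div_comm, hN, add_cube hF, im_cube hF]
    field_simp
    linear_combination im_sq hF - three_zero hF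
  obtain ⟨d, d0, d1, -, -⟩ := exists_su_two hF (a := t) (b := 0) (by rw [ht]; ring)
  have := h3 (d * g) (by simp [(mul_entries hF _ _).1, d0, d1, ht'])
  simpa using mul_mem (inv_mem (hdiag d d1)) this

/-- The group is generated by the elements of order three. -/
theorem closure_three : Subgroup.closure {g : G₂ | g ^ 3 = 1} = ⊤ := by
  set S := Subgroup.closure {g : G₂ | g ^ 3 = 1}
  have h3 : ∀ g : G₂, g ^ 3 = 1 → g ∈ S := fun g h => Subgroup.subset_closure h
  have hu := h3 _ (u_cube hF)
  have hk : v hF * (w hF)⁻¹ ∈ S := by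
    rw [show v hF * (w hF)⁻¹ = u hF * (w hF * u hF * (w hF)⁻¹)⁻¹ by
      rw [show v hF = u hF * w hF * (u hF)⁻¹ by rw [u_mul_w, mul_inv_cancel_right]]; group]
    refine mul_mem hu (inv_mem (h3 _ ?_))
    rw [conj_pow, u_cube, mul_one, mul_inv_cancel]
  have hw : w hF ∈ S := by
    have := mul_mem (mul_mem hu hk) (inv_mem hu)
    rwa [show u hF * (v hF * (w hF)⁻¹) * (u hF)⁻¹ = u hF * v hF * (u hF * w hF)⁻¹ by group, u_mul_v, u_mul_w,
      show w hF * v hF * u hF * (v hF * u hF)⁻¹ = w hF by group] at this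
  refine closure_eq_top hF hw ?_ fun g hg => h3 g (cube_eq_one hF ?_)
  · have := mul_mem hk hw
    rwa [inv_mul_cancel_right] at this
  · rw [hg, add_cube hF, im_cube hF]
    linear_combination three_zero hF

/-- The commutant of two anticommuting invertible matrices is scalar. -/
theorem scalar_of_commute {A B M : Matrix (Fin 2) (Fin 2) F} (hBA : B * A = -(A * B)) (hA : A.det ≠ 0)
    (hB : B.det ≠ 0) (hMA : M * A = A * M) (hMB : M * B = B * M) :
    M 0 1 = 0 ∧ M 1 0 = 0 ∧ M 0 0 = M 1 1 := by
  have h2 := two_ne hF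
  have tr : ∀ {A B : Matrix (Fin 2) (Fin 2) F}, B * A = -(A * B) → A.det ≠ 0 → B.det ≠ 0 → A 1 1 = -A 0 0 := by
    intro A B h hA hB
    have e : (B * A) = (-A) * B := by rw [h, neg_mul]
    have e00 := congrFun (congrFun e 0) 0
    have e01 := congrFun (congrFun e 0) 1
    have e10 := congrFun (congrFun e 1) 0
    have e11 := congrFun (congrFun e 1) 1
    simp [Matrix.mul_apply, Fin.sum_univ_two] at e00 e01 e10 e11
    rw [Matrix.det_fin_two] at hB
    have : (2 * (A 0 0 + A 1 1)) * (B 0 0 * B 1 1 - B 0 1 * B 1 0) = 0 := by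
      linear_combination (B 1 1) * e00 - (B 1 0) * e01 - (B 0 1) * e10 + (B 0 0) * e11 
    linear_combination (mul_eq_zero.1 ((mul_eq_zero.1 this).resolve_right hB)).resolve_left h2
  have hA1 := tr hBA hA hB
  have hB1 := tr (A := B) (B := A) (by rw [hBA, neg_neg]) hB hA
  rw [Matrix.det_fin_two, hA1] at hA
  rw [Matrix.det_fin_two, hB1] at hB
  have p00 := congrFun (congrFun hBA 0) 0
  have m00 := congrFun (congrFun hMA 0) 0
  have m01 := congrFun (congrFun hMA 0) 1
  have m10 := congrFun (congrFun hMA 1) 0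
  have n00 := congrFun (congrFun hMB 0) 0
  have n01 := congrFun (congrFun hMB 0) 1
  have n10 := congrFun (congrFun hMB 1) 0
  simp [Matrix.mul_apply, Fin.sum_univ_two, hA1, hB1] at p00 m00 m01 m10 n00 n01 n10
  set a := A 0 0
  set b := A 0 1
  set c := A 1 0
  set a' := B 0 0
  set b' := B 0 1
  set c' := B 1 0
  set d := M 0 0 - M 1 1
  -- orthogonality of the two traceless matrices
  have horth : 2 * a * a' + b * c' + c * b' = 0 := by linear_combination p00
  -- a traceless matrix commuting with both is perpendicular to itself in the form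
  have hα : 4 * (a * a + b * c) * (M 0 1) = (2 * a * d + 2 * b * M 1 0 + 2 * c * M 0 1) * b ∧
      4 * (a * a + b * c) * (M 1 0) = (2 * a * d + 2 * b * M 1 0 + 2 * c * M 0 1) * c ∧
      2 * (a * a + b * c) * d = (2 * a * d + 2 * b * M 1 0 + 2 * c * M 0 1) * a := by
    refine ⟨?_, ?_, ?_⟩
    · linear_combination (-2 * a) * m01 + (2 * b) * m00
    · linear_combination (2 * a) * m10 - (2 * c) * m00
    · linear_combination c * m01 - b * m10
  have hβ : 4 * (a' * a' + b' * c') * (M 0 1) = (2 * a' * d + 2 * b' * M 1 0 + 2 * c' * M 0 1) * b' ∧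
      4 * (a' * a' + b' * c') * (M 1 0) = (2 * a' * d + 2 * b' * M 1 0 + 2 * c' * M 0 1) * c' ∧
      2 * (a' * a' + b' * c') * d = (2 * a' * d + 2 * b' * M 1 0 + 2 * c' * M 0 1) * a' := by
    refine ⟨?_, ?_, ?_⟩
    · linear_combination (-2 * a') * n01 + (2 * b') * n00
    · linear_combination (2 * a') * n10 - (2 * c') * n00
    · linear_combination c' * n01 - b' * n10
  set x := 2 * a * d + 2 * b * M 1 0 + 2 * c * M 0 1 with hx
  set y := 2 * a' * d + 2 * b' * M 1 0 + 2 * c' * M 0 1 with hy
  have hy0 : y = 0 := by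
    have e : 4 * (a * a + b * c) * y = 0 := by
      linear_combination (4 * (a * a + b * c)) * hy + 4 * a' * hα.2.2 + 2 * b' * hα.2.1 + 2 * c' * hα.1 + 2 * x * horth
    have h4 : (4 : F) ≠ 0 := fun h => h2 (mul_self_eq_zero.1 (by linear_combination h) |> fun e => e)
    exact (mul_eq_zero.1 e).resolve_left (mul_ne_zero h4 fun h => hA (by linear_combination -h))
  have hnz : a' * a' + b' * c' ≠ 0 := fun h => hB (by linear_combination -h)
  have h4 : (4 : F) ≠ 0 := by
    rw [show (4 : F) = 2 * 2 by norm_num]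
    exact mul_ne_zero h2 h2
  rw [hy0, zero_mul, zero_mul, zero_mul] at hβ
  exact ⟨(mul_eq_zero.1 hβ.1).resolve_left (mul_ne_zero h4 hnz),
    (mul_eq_zero.1 hβ.2.1).resolve_left (mul_ne_zero h4 hnz),
    sub_eq_zero.1 ((mul_eq_zero.1 hβ.2.2).resolve_left (mul_ne_zero h2 hnz))⟩

theorem det_mat (g : G₂) : (mat g).det = 1 := g.1.2

/-- Automorphisms preserving the diagonal torus are monomial. -/
theorem exists_monomial (α : MulAut G₂) (hD : ∀ g, mat g 0 1 = 0 → mat (α g) 0 1 = 0) :
    ∃ (ν : F) (σ : F ≃+* F), ν ^ (3 + 1) = 1 ∧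
      ∀ g, mat (α g) 0 0 = σ (mat g 0 0) ∧ mat (α g) 0 1 = ν * σ (mat g 0 1) := by
  -- the image of the diagonal element
  obtain ⟨σ, hσ⟩ : ∃ σ : F ≃+* F, mat (α (w hF)) 0 0 = σ (im hF) := by
    have h0 := hD _ (mat_w hF).2
    have hd := su_two_det hF (α (w hF))
    rw [h0, zero_mul, add_zero] at hd
    have hw2 : w hF * w hF = n1 hF := by
      refine su_two_ext hF ?_ ?_ <;>
        simp [(mul_entries hF _ _).1, (mul_entries hF _ _).2, mat_n1 hF, mat_w hF, im_sq hF]
    have hne : ∀ e : F, e * e = 1 → mat (α (w hF)) 0 0 ≠ e := fun e he h => by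
      refine n1_ne_one hF (hw2 ▸ α.injective ?_)
      rw [map_mul, map_one]
      refine su_two_ext hF ?_ ?_ <;>
        simp [(mul_entries hF _ _).1, (mul_entries hF _ _).2, one_entries hF, h, h0, he]
    rcases circle hF hd with h | h | h | h
    · exact absurd h (hne 1 (by ring))
    · exact absurd h (hne (-1) (by ring))
    · exact ⟨RingEquiv.refl F, h⟩
    · exact ⟨RingEquiv.ofBijective (frob hF) ⟨RingHom.injective _, Finite.surjective_of_injective (RingHom.injective _)⟩,
        h.trans ((im_cube hF).symm.trans (frob_apply hF _).symm)⟩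
  set ν := mat (α (v hF)) 0 1 with hν
  have hvw := congrArg α (v_mul_w hF)
  rw [map_mul, map_mul, map_mul] at hvw
  have hn : α (n1 hF) = n1 hF := by
    have h0 := hD _ (mat_n1 hF).2
    have hd := su_two_det hF (α (n1 hF))
    rw [h0, zero_mul, add_zero] at hd
    have hsq : mat (α (n1 hF)) 0 0 * mat (α (n1 hF)) 0 0 = 1 := by
      have h1 : n1 hF * n1 hF = 1 := by
        refine su_two_ext hF ?_ ?_ <;>
          simp [(mul_entries hF _ _).1, (mul_entries hF _ _).2, mat_n1 hF, one_entries hF]
      have := congrArg (fun g : G₂ => mat (α g) 0 0) h1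
      simpa [(mul_entries hF _ _).1, h0, one_entries hF] using this
    rcases mul_self_eq_one_iff.1 hsq with h | h
    · exact absurd (α.injective ((su_two_ext hF (h.trans (one_entries hF).1.symm)
        (h0.trans (one_entries hF).2.symm)).trans (map_one α).symm)) (n1_ne_one hF)
    · exact su_two_ext hF (h.trans (mat_n1 hF).1.symm) (h0.trans (mat_n1 hF).2.symm)
  have hσi : σ (im hF) ^ 3 = -σ (im hF) := by rw [← map_pow, im_cube hF, map_neg]
  have hw0 := hD _ (mat_w hF).2
  have hv0 : mat (α (v hF)) 0 0 = 0 := by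
    have := congrArg (fun g : G₂ => mat g 0 0) hvw
    simp [(mul_entries hF _ _).1, hn, mat_n1 hF, hσ, hw0] at this
    have h2 : (2 * σ (im hF)) * mat (α (v hF)) 0 0 = 0 := by linear_combination this
    exact (mul_eq_zero.1 h2).resolve_left (mul_ne_zero (two_ne hF) fun h => im_ne hF ((map_eq_zero σ).1 h))
  have hνN : ν * ν ^ 3 = 1 := by
    have := su_two_det hF (α (v hF))
    rwa [hv0, zero_mul, zero_add] at this
  have hνq : ν ^ (3 + 1) = 1 := by linear_combination hνN
  refine ⟨ν, σ, hνq, ?_⟩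
  -- the semilinear map
  have hex : ∀ g : G₂, ∃ g', mat g' 0 0 = σ (mat g 0 0) ∧ mat g' 0 1 = ν * σ (mat g 0 1) := fun g => by
    obtain ⟨g', a, b, -, -⟩ := exists_su_two hF (a := σ (mat g 0 0)) (b := ν * σ (mat g 0 1)) (by
      have hd := congrArg σ (su_two_det hF g)
      rw [map_add, map_mul, map_mul, map_pow, map_pow, map_one] at hd
      linear_combination hd + (σ (mat g 0 1) * σ (mat g 0 1) ^ 3) * hνN)
    exact ⟨g', a, b⟩
  choose θ hθ0 hθ1 using hex
  let Θ : G₂ →* G₂ :=
    { toFun := θ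
      map_one' := su_two_ext hF (by simp [hθ0, one_entries hF]) (by simp [hθ1, one_entries hF])
      map_mul' := fun g h => su_two_ext hF
        (by
          simp [hθ0, hθ1, (mul_entries hF _ _).1, mul_pow]
          linear_combination (-(σ (mat g 0 1) * σ (mat h 0 1) ^ 3)) * hνN)
        (by simp [hθ0, hθ1, (mul_entries hF _ _).2]; ring) }
  suffices h : ∀ g, α g = θ g from fun g => by rw [h g]; exact ⟨hθ0 g, hθ1 g⟩
  let S := MonoidHom.eqLocus α.toMonoidHom Θ
  have hwS : w hF ∈ S :=
    su_two_ext hF (hσ.trans (by show _ = mat (θ _) 0 0; rw [hθ0, (mat_w hF).1]))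
      (hw0.trans (by show _ = mat (θ _) 0 1; rw [hθ1, (mat_w hF).2, map_zero, mul_zero]))
  have hvS : v hF ∈ S :=
    su_two_ext hF (hv0.trans (by show _ = mat (θ _) 0 0; rw [hθ0, (mat_v hF).1, map_zero]))
      (by show mat (α _) 0 1 = mat (θ _) 0 1; rw [hθ1, (mat_v hF).2, map_one, mul_one])
  -- an element of order three inducing the same map
  have hu : u hF ∈ S := by
    show α (u hF) = Θ (u hF)
    set z := (Θ (u hF))⁻¹ * α (u hF) with hz
    have ew : α (w hF) = Θ (w hF) := hwS
    have ev : α (v hF) = Θ (v hF) := hvS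
    have e1 : Θ (w hF) * z = z * Θ (w hF) := by
      have h1 := congrArg α (u_mul_w hF)
      have h2 := congrArg Θ (u_mul_w hF)
      rw [map_mul, map_mul, ew, ev] at h1
      rw [map_mul, map_mul] at h2
      rw [hz, mul_assoc, h1, ← mul_assoc, ← mul_assoc]
      congr 1
      rw [eq_inv_mul_iff_mul_eq, ← mul_assoc, h2, mul_inv_cancel_right]
    have e2 : Θ (v hF) * z = z * Θ (v hF) := by
      have h1 := congrArg α (u_mul_v hF)
      have h2 := congrArg Θ (u_mul_v hF)
      rw [map_mul, map_mul, map_mul, ew, ev] at h1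
      rw [map_mul, map_mul, map_mul] at h2
      rw [hz, mul_assoc, h1, ← mul_assoc, ← mul_assoc]
      congr 1
      rw [eq_inv_mul_iff_mul_eq, ← mul_assoc, h2, mul_inv_cancel_right]
    have hN : mat (Θ (n1 hF)) = -1 := by
      have e : Θ (n1 hF) = n1 hF := su_two_ext hF (by show mat (θ _) 0 0 = _; simp [hθ0, mat_n1 hF])
        (by show mat (θ _) 0 1 = _; simp [hθ1, mat_n1 hF])
      rw [e]
      obtain ⟨h11, h10⟩ := su_two_entries hF (n1 hF)
      ext i j; fin_cases i <;> fin_cases j <;> simp [mat_n1 hF, h11, h10, neg_pow_q hF]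
    obtain ⟨z01, -, h00⟩ := scalar_of_commute hF (A := mat (Θ (w hF))) (B := mat (Θ (v hF))) (M := mat z)
      (by
        have h2 := congrArg (fun g => mat (Θ g)) (v_mul_w hF)
        simp only [map_mul] at h2
        change mat (Θ (v hF)) * mat (Θ (w hF)) = mat (Θ (n1 hF)) * (mat (Θ (w hF)) * mat (Θ (v hF))) at h2
        rw [h2, hN, neg_one_mul])
      (by rw [det_mat hF]; exact one_ne_zero) (by rw [det_mat hF]; exact one_ne_zero)
      (congrArg mat e1.symm) (congrArg mat e2.symm)
    have hz' : mat z 0 0 ^ 3 = mat z 0 0 := (h00.trans (su_two_entries hF z).1).symm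
    have hzall : ∀ x, Commute z x := fun x => by
      refine su_two_ext hF ?_ ?_ <;> simp [(mul_entries hF _ _).1, (mul_entries hF _ _).2, z01, hz'] <;> ring
    have hz3 : z ^ 3 = 1 := by
      have hc : Commute (Θ (u hF)) z := (hzall _).symm
      have h1 : α (u hF) ^ 3 = 1 := by rw [← map_pow, u_cube, map_one]
      have h2 : Θ (u hF) ^ 3 = 1 := by rw [← map_pow, u_cube, map_one]
      rw [show α (u hF) = Θ (u hF) * z by rw [hz, mul_inv_cancel_left], hc.mul_pow, h2, one_mul] at h1
      exact h1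
    have hz00 : mat z 0 0 = 1 := by
      have := congrArg (fun g : G₂ => mat g 0 0) hz3
      simp [pow_succ, (mul_entries hF _ _).1, (mul_entries hF _ _).2, one_entries hF, z01] at this
      exact sub_eq_zero.1 (eq_zero_of_pow_eq_zero (n := 3) (by
        linear_combination this + (mat z 0 0 - mat z 0 0 ^ 2) * three_zero hF))
    rw [show z = 1 from su_two_ext hF (hz00.trans (one_entries hF).1.symm) (z01.trans (one_entries hF).2.symm),
      eq_comm, inv_mul_eq_one] at hz
    exact hz.symm
  intro g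
  have : S = ⊤ := closure_eq_top hF hwS hvS fun g hg => by
    -- these are conjugates of `u` by diagonal elements
    have hd := su_two_det hF g
    rw [hg] at hd
    obtain ⟨e, he, he'⟩ : ∃ e, e * e ^ 3 = 1 ∧ mat g 0 1 = e * (1 + im hF) := by
      have hne : (1 + im hF) ≠ 0 := fun h => two_ne hF (by linear_combination im_sq hF - (im hF - 1) * h)
      refine ⟨mat g 0 1 / (1 + im hF), ?_, (div_mul_cancel₀ _ hne).symm⟩
      rw [div_pow, div_mul_div_comm, div_eq_one_iff_eq (mul_ne_zero hne (pow_ne_zero _ hne))]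
      rw [add_cube hF, im_cube hF] at hd ⊢
      linear_combination hd + 2 * im_sq hF - three_zero hF
    rcases circle hF he with rfl | rfl | rfl | rfl
    · rwa [show g = u hF from su_two_ext hF (hg.trans (mat_u hF).1.symm) (by rw [he', (mat_u hF).2, one_mul])]
    · rw [show g = w hF * u hF * (w hF)⁻¹ from eq_mul_inv_iff_mul_eq.2 (su_two_ext hF
        (by simp [(mul_entries hF _ _).1, mat_w hF, mat_u hF, hg, he']; ring)
        (by simp [(mul_entries hF _ _).2, mat_w hF, mat_u hF, hg, he', im_cube hF]; ring))]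
      exact mul_mem (mul_mem hwS hu) (inv_mem hwS)
    · rw [show g = v hF * (u hF)⁻¹ * (v hF)⁻¹ from eq_mul_inv_iff_mul_eq.2 (eq_mul_inv_iff_mul_eq.2 (su_two_ext hF
        (by
          simp [(mul_entries hF _ _).1, (mul_entries hF _ _).2, mat_v hF, mat_u hF, hg, he', add_cube hF, im_cube hF]
          linear_combination (-1 - im hF) * im_sq hF)
        (by
          simp [(mul_entries hF _ _).1, (mul_entries hF _ _).2, mat_v hF, mat_u hF, hg, he', add_cube hF, im_cube hF]
          linear_combination (-3 - im hF) * im_sq hF + three_zero hF)))]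
      exact mul_mem (mul_mem hvS (inv_mem hu)) (inv_mem hvS)
    · rw [show g = (w hF * v hF) * (u hF)⁻¹ * (w hF * v hF)⁻¹ from
        eq_mul_inv_iff_mul_eq.2 (eq_mul_inv_iff_mul_eq.2 (su_two_ext hF
        (by
          simp [(mul_entries hF _ _).1, (mul_entries hF _ _).2, mat_v hF, mat_w hF, mat_u hF, hg, he', add_cube hF,
            im_cube hF]
          linear_combination (-(im hF ^ 2) - im hF) * im_sq hF)
        (by
          simp [(mul_entries hF _ _).1, (mul_entries hF _ _).2, mat_v hF, mat_w hF, mat_u hF, hg, he', add_cube hF,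
            im_cube hF]
          linear_combination (-(im hF ^ 2) - 3 * im hF) * im_sq hF + im hF * three_zero hF)))]
      exact mul_mem (mul_mem (mul_mem hwS hvS) (inv_mem hu)) (inv_mem (mul_mem hwS hvS))
  exact DFunLike.congr_fun (MonoidHom.eq_of_eqOn_top fun x hx => (this ▸ hx : x ∈ S)) g

end

end Cfsg.Lib.Phan.Quat
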