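import Cfsg.Agent.Lib.Phan.Gen
import Cfsg.Agent.Lib.Phan.GaugeExt
import Cfsg.Agent.Lib.Phan.QuatThree
import Cfsg.Agent.Lib.Linear.PSUFourSeven

/-!
# Two neighbouring maps inside an image of `SU 4` over the field with nine elements

The involutions of the first two blocks lift canonically to `SU 4` as commutators; an orthonormal eigenframe of the
two lifts makes all three blocks standard, so the two maps come from one.
-/

set_option autoImplicit false
set_option linter.unusedSectionVars false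

namespace Cfsg.Lib.Phan.Base

open Cfsg Cfsg.Lib.Linear Cfsg.Lib.Linear.Herm Cfsg.Lib.UnitMult.Step Cfsg.Lib.Phan Cfsg.Lib.Phan.Quat
open scoped Matrix

variable {F : Type*} [Field F] [Fintype F] {G : Type*} [Group G] (hF : Fintype.card F = 3 ^ 2)

/-- The kernel consists of scalars. -/
def Scal (g : ↥(Cfsg.SU 4 F 3) →* G) : Prop := ∀ z, g z = 1 → ∃ c : F, c ^ 4 = 1 ∧ mat z = c • (1 : Matrix (Fin 4) (Fin 4) F)

variable {g : ↥(Cfsg.SU 4 F 3) →* G}

theorem Scal.commute (hg : Scal g) {z : ↥(Cfsg.SU 4 F 3)} (hz : g z = 1) (x : ↥(Cfsg.SU 4 F 3)) : Commute z x := by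
  obtain ⟨c, -, hc⟩ := hg z hz
  refine mat_ext ?_
  show mat z * mat x = mat x * mat z
  rw [hc, Matrix.smul_mul, Matrix.mul_smul, one_mul, mul_one]

theorem Scal.pow_four (hg : Scal g) {z : ↥(Cfsg.SU 4 F 3)} (hz : g z = 1) : z ^ 4 = 1 := by
  obtain ⟨c, hc4, hc⟩ := hg z hz
  refine mat_ext ?_
  show mat z ^ 4 = 1
  rw [hc, smul_pow, one_pow, hc4, one_smul]

theorem Scal.eq_smul (hg : Scal g) {a b : ↥(Cfsg.SU 4 F 3)} (h : g a = g b) :
    ∃ c : F, c ^ 4 = 1 ∧ mat a = c • mat b := by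
  obtain ⟨c, hc4, hc⟩ := hg (a * b⁻¹) (by rw [map_mul, map_inv, h, mul_inv_cancel])
  refine ⟨c, hc4, ?_⟩
  conv_lhs => rw [show a = a * b⁻¹ * b by rw [inv_mul_cancel_right]]
  show mat (a * b⁻¹) * mat b = _
  rw [hc, Matrix.smul_mul, one_mul]

section
include hF

theorem exists_lift_three (hg : Scal g) {β : ↥(Cfsg.SU 2 F 3) →* G} (hβ : ∀ s, ∃ y, g y = β s)
    {s : ↥(Cfsg.SU 2 F 3)} (hs : s ^ 3 = 1) : ∃ y, y ^ 3 = 1 ∧ g y = β s := by
  obtain ⟨y, hy⟩ := hβ s
  refine ⟨y ^ 4, ?_, ?_⟩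
  · rw [← pow_mul, show 4 * 3 = 3 * 4 from rfl, pow_mul, hg.pow_four (by rw [map_pow, hy, ← map_pow, hs, map_one])]
  · rw [map_pow, hy, ← map_pow, pow_succ, hs, one_mul]

/-- An element commuting with a block in the image commutes with its preimages. -/
theorem commute_lift (hg : Scal g) {β : ↥(Cfsg.SU 2 F 3) →* G} (hβ : ∀ s, ∃ y, g y = β s)
    {T : ↥(Cfsg.SU 4 F 3)} (hT : ∀ s, Commute (g T) (β s)) {y : ↥(Cfsg.SU 4 F 3)} {s : ↥(Cfsg.SU 2 F 3)}
    (hy : g y = β s) : Commute T y := by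
  let S : Subgroup ↥(Cfsg.SU 2 F 3) :=
    { carrier := {s | ∀ y, g y = β s → Commute T y}
      one_mem' := fun y hy => (hg.commute (hy.trans (map_one β)) T).symm
      mul_mem' := fun {a b} ha hb y hy => by
        obtain ⟨x, hx⟩ := hβ a
        have := (ha x hx).mul_right (hb (x⁻¹ * y) (by rw [map_mul, map_inv, hy, hx, map_mul, inv_mul_cancel_left]))
        rwa [mul_inv_cancel_left] at this
      inv_mem' := fun {a} ha y hy => by
        have := (ha y⁻¹ (by rw [map_inv, hy, map_inv, inv_inv])).inv_right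
        rwa [inv_inv] at this }
  refine (show s ∈ S from ?_) y hy
  refine (show Subgroup.closure {s : ↥(Cfsg.SU 2 F 3) | s ^ 3 = 1} ≤ S from (Subgroup.closure_le _).2 ?_)
    (by rw [closure_three hF]; exact Subgroup.mem_top s)
  intro s hs y hy
  set e := T * y * T⁻¹ * y⁻¹ with he
  have he1 : g e = 1 := by
    rw [he, map_mul, map_mul, map_mul, map_inv, map_inv, hy, (hT s).eq, mul_inv_cancel_right, mul_inv_cancel]
  have h3 : g (y ^ 3) = 1 := by rw [map_pow, hy, ← map_pow, show s ^ 3 = 1 from hs, map_one]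
  have h : (T * y * T⁻¹) ^ 3 = y ^ 3 := by
    rw [conj_pow, ← (hg.commute h3 T).eq, mul_inv_cancel_right]
  rw [show T * y * T⁻¹ = e * y by rw [he, inv_mul_cancel_right], (hg.commute he1 y).mul_pow, mul_eq_right] at h
  have he3 : e = 1 := by
    have := hg.pow_four he1
    rwa [pow_succ, h, one_mul] at this
  rw [he, mul_inv_eq_one, mul_inv_eq_iff_eq_mul] at he3
  exact he3

/-- The canonical lift of the involution of a block. -/
def IsInv (g : ↥(Cfsg.SU 4 F 3) →* G) (β : ↥(Cfsg.SU 2 F 3) →* G) (T : ↥(Cfsg.SU 4 F 3)) : Prop :=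
  ∃ W V, g W = β (w hF) ∧ g V = β (v hF) ∧ T = V * W * V⁻¹ * W⁻¹

variable {β : ↥(Cfsg.SU 2 F 3) →* G} (hg : Scal g) (hβ : ∀ s, ∃ y, g y = β s)
include hg hβ

theorem exists_isInv : ∃ T, IsInv hF g β T := by
  obtain ⟨W, hW⟩ := hβ (w hF)
  obtain ⟨V, hV⟩ := hβ (v hF)
  exact ⟨_, W, V, hW, hV, rfl⟩

theorem IsInv.image {T : ↥(Cfsg.SU 4 F 3)} (h : IsInv hF g β T) : g T = β (n1 hF) := by
  obtain ⟨W, V, hW, hV, rfl⟩ := h
  rw [map_mul, map_mul, map_mul, map_inv, map_inv, hW, hV, ← map_inv, ← map_inv, ← map_mul, ← map_mul, ← map_mul,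
    v_mul_w, ← mul_assoc, mul_inv_cancel_right, mul_inv_cancel_right]

theorem IsInv.commute {T : ↥(Cfsg.SU 4 F 3)} (h : IsInv hF g β T) {y : ↥(Cfsg.SU 4 F 3)}
    {s : ↥(Cfsg.SU 2 F 3)} (hy : g y = β s) : Commute T y :=
  commute_lift hF hg hβ (fun s => by rw [h.image hF hg hβ]; exact (n1_central hF s).map β) hy

theorem IsInv.sq {T : ↥(Cfsg.SU 4 F 3)} (h : IsInv hF g β T) : T * T = 1 := by
  have him := h.image hF hg hβ
  obtain ⟨W, V, hW, hV, hT⟩ := id h
  have cV := h.commute hF hg hβ hV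
  have c2 : Commute (V * V) W :=
    commute_lift hF hg hβ (fun s => by rw [map_mul, hV, ← map_mul, v_sq]; exact (n1_central hF s).map β) hW
  have e1 : V * W = T * (W * V) := by rw [hT]; group
  have e2 : V * V * W = T * T * (W * (V * V)) := by
    rw [mul_assoc, e1, ← mul_assoc, ← cV.eq, mul_assoc, ← mul_assoc V W, e1]
    simp only [mul_assoc]
  rw [c2.eq, right_eq_mul] at e2
  exact e2

theorem IsInv.commute_of_conj {T S : ↥(Cfsg.SU 4 F 3)} (h : IsInv hF g β T) (hw : Commute (g S) (β (w hF)))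
    (hv : g S * β (v hF) = β (n1 hF * v hF) * g S) : Commute S T := by
  have him := h.image hF hg hβ
  obtain ⟨W, V, hW, hV, hT⟩ := id h
  have cW := h.commute hF hg hβ hW
  have cV := h.commute hF hg hβ hV
  obtain ⟨z, hz, ez⟩ : ∃ z, g z = 1 ∧ S * W * S⁻¹ = z * W := ⟨S * W * S⁻¹ * W⁻¹, by
    rw [map_mul, map_mul, map_mul, map_inv, map_inv, hW, hw.eq, mul_inv_cancel_right, mul_inv_cancel],
    by rw [inv_mul_cancel_right]⟩
  obtain ⟨z', hz', ez'⟩ : ∃ z', g z' = 1 ∧ S * V * S⁻¹ = z' * (T * V) := ⟨S * V * S⁻¹ * (T * V)⁻¹, by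
    rw [map_mul, map_mul, map_mul, map_inv, map_inv, map_mul, him, hV, hv, mul_inv_cancel_right, ← map_mul,
      mul_inv_cancel], by rw [inv_mul_cancel_right]⟩
  have cz := hg.commute hz
  have cz' := hg.commute hz'
  have key : (S * V * S⁻¹) * (S * W * S⁻¹) = T * ((S * W * S⁻¹) * (S * V * S⁻¹)) := by
    rw [ez, ez']
    have e1 : V * W = T * (W * V) := by rw [hT]; group
    calc z' * (T * V) * (z * W) = z' * z * (T * (V * W)) := by
          rw [mul_assoc, ← mul_assoc (T * V) z, ← (cz (T * V)).eq]; simp only [mul_assoc]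
      _ = z' * z * (T * (T * (W * V))) := by rw [e1]
      _ = T * (z' * z * (W * (T * V))) := by
          rw [← mul_assoc W T V, ← cW.eq]
          simp only [mul_assoc]
          rw [← mul_assoc T z', ← (cz' T).eq, mul_assoc, ← mul_assoc T z, ← (cz T).eq]
          simp only [mul_assoc]
      _ = T * (z * W * (z' * (T * V))) := by
          congr 1
          rw [mul_assoc z W, ← mul_assoc W z', ← (cz' W).eq, (cz' z).eq]
          simp only [mul_assoc]
  have e2 : S * (V * W) * S⁻¹ = T * (S * (W * V) * S⁻¹) := by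
    calc S * (V * W) * S⁻¹ = (S * V * S⁻¹) * (S * W * S⁻¹) := by group
      _ = _ := key
      _ = T * (S * (W * V) * S⁻¹) := by group
  have e3 : S * T * S⁻¹ = T := by
    calc S * T * S⁻¹ = S * (V * W) * S⁻¹ * (S * (W * V) * S⁻¹)⁻¹ := by rw [hT]; group
      _ = T := by rw [e2, mul_inv_cancel_right]
  rwa [mul_inv_eq_iff_eq_mul] at e3

end

section Frame

/-- The sign of a boolean. -/
def sg (F : Type*) [Field F] (b : Bool) : F := if b then -1 else 1

theorem sg_sq (b : Bool) : sg F b * sg F b = 1 := by cases b <;> simp [sg]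

theorem sg_ne (b : Bool) : sg F b ≠ 0 := fun h => by simpa [h] using sg_sq (F := F) b

include hF

theorem sg_inj {a b : Bool} (h : sg F a = sg F b) : a = b := by
  cases a <;> cases b <;> simp [sg] at h ⊢
  · exact two_ne hF (by linear_combination h)
  · exact two_ne hF (by linear_combination -h)

theorem signs : ∀ s : Fin 4 → Bool × Bool,
    ((s 0).1 ^^ (s 1).1 ^^ (s 2).1 ^^ (s 3).1) = false → ((s 0).2 ^^ (s 1).2 ^^ (s 2).2 ^^ (s 3).2) = false →
    (∃ i j, (s i).1 ≠ (s j).1) → (∃ i j, (s i).2 ≠ (s j).2) → (∃ i j, ((s i).1 ^^ (s i).2) ≠ ((s j).1 ^^ (s j).2)) →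
    ∀ c, ∃ j, s j = c := by
  decide +kernel

theorem sg_parity {a b c d : Bool} (h : sg F a * sg F b * sg F c * sg F d = 1) : (a ^^ b ^^ c ^^ d) = false := by
  cases a <;> cases b <;> cases c <;> cases d <;> simp [sg] at h ⊢ <;>
    first
      | exact two_ne hF (by linear_combination h)
      | exact two_ne hF (by linear_combination -h)

/-- A joint orthonormal eigenframe of two commuting involutions. -/
theorem exists_eigen {T S : ↥(Cfsg.SU 4 F 3)} (hT : T * T = 1) (hS : S * S = 1) (hTS : Commute S T) :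
    ∀ k, k ≤ 4 → ∃ (x : Fin k → (Fin 4 → F)) (s : Fin k → Bool × Bool), ON hF x ∧
      ∀ i, act T (x i) = sg F (s i).1 • x i ∧ act S (x i) = sg F (s i).2 • x i := by
  intro k hk
  induction k with
  | zero => exact ⟨Fin.elim0, Fin.elim0, fun i => i.elim0, fun i => i.elim0⟩
  | succ k ih =>
    obtain ⟨x, s, hx, hxs⟩ := ih (by omega)
    obtain ⟨e, he, hxe⟩ := exists_common hF x x (fun l => Submodule.subset_span ⟨l, rfl⟩) (ON.gram hF hx) (by omega)
    let P : Bool → Bool → (Fin 4 → F) → (Fin 4 → F) := fun a b y =>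
      y + sg F a • act T y + sg F b • act S y + (sg F a * sg F b) • act (T * S) y
    have hTT : ∀ y, act T (act T y) = y := fun y => by rw [← act_mul, hT, act_one]
    have hSS : ∀ y, act S (act S y) = y := fun y => by rw [← act_mul, hS, act_one]
    have hST : ∀ y, act S (act T y) = act T (act S y) := fun y => by rw [← act_mul, ← act_mul, hTS.eq]
    have hPT : ∀ a b y, act T (P a b y) = sg F a • P a b y := fun a b y => by
      simp only [P, act_mul, act, Matrix.mulVec_add, Matrix.mulVec_smul, smul_add, smul_smul]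
      simp only [hTT, ← mul_assoc, sg_sq, one_smul, one_mul]
      abel
    have hPS : ∀ a b y, act S (P a b y) = sg F b • P a b y := fun a b y => by
      simp only [P, act_mul, act, Matrix.mulVec_add, Matrix.mulVec_smul, smul_add, smul_smul]
      simp only [hST, hSS]
      simp only [mul_comm (sg F b) (sg F a), mul_left_comm (sg F b) (sg F a), sg_sq, mul_one, one_smul]
      abel
    have hsa : ∀ (R : ↥(Cfsg.SU 4 F 3)), R * R = 1 → ∀ y z, hB hF 4 (act R y) z = hB hF 4 y (act R z) :=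
      fun R hR y z => by
        conv_lhs => rw [← act_one (q := 3) z, ← hR, act_mul, form_act]
    have hTS2 : (T * S) * (T * S) = 1 := by
      rw [mul_assoc, ← mul_assoc S T S, hTS.eq, mul_assoc, hS, mul_one, hT]
    have hPsa : ∀ a b y z, hB hF 4 (P a b y) z = hB hF 4 y (P a b z) := fun a b y z => by
      have hf : ∀ a, frob hF (sg F a) = sg F a := fun a => by cases a <;> simp [sg]
      simp only [P, map_add, LinearMap.add_apply, map_smul, LinearMap.map_smulₛₗ, LinearMap.smul_apply,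
        RingHom.id_apply, map_mul, hf, hsa T hT, hsa S hS, hsa _ hTS2]
    have hPP : ∀ a b, hB hF 4 (P a b e) (P a b e) = hB hF 4 e (P a b e) := fun a b => by
      rw [hPsa]
      congr 1
      set p := P a b e with hp
      show P a b p = p
      simp only [P, act_mul]
      rw [hPS, show act T (sg F b • p) = sg F b • act T p from Matrix.mulVec_smul _ _ _, hPT]
      simp only [smul_smul]
      rw [show sg F a * sg F b * (sg F b * sg F a) = 1 by rw [← mul_assoc, mul_assoc (sg F a), sg_sq, mul_one, sg_sq],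
        sg_sq, sg_sq, one_smul]
      calc p + p + p + p = (4 : F) • p := by simp only [show (4 : F) = 1 + 1 + 1 + 1 by norm_num, add_smul, one_smul]
        _ = p := by rw [show (4 : F) = 1 by linear_combination three_zero hF, one_smul]
    obtain ⟨a, b, hab⟩ : ∃ a b, hB hF 4 (P a b e) (P a b e) ≠ 0 := by
      by_contra hno
      push Not at hno
      have hsum : P false false e + P false true e + P true false e + P true true e = (4 : F) • e := by
        simp only [P, sg, Bool.false_eq_true, if_false, if_true]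
        module
      have := congrArg (hB hF 4 e) hsum
      simp only [map_add, ← hPP, hno, map_smul, he, smul_eq_mul] at this
      exact one_ne_zero (α := F) (by linear_combination -this - three_zero hF)
    obtain ⟨c, hc0, hc⟩ := exists_scale hF hab
    have hperp : ∀ i, hB hF 4 (x i) (c • P a b e) = 0 := fun i => by
      have hTx : hB hF 4 (x i) (act T e) = 0 := by
        rw [← hsa T hT, (hxs i).1, LinearMap.map_smulₛₗ, LinearMap.smul_apply, hxe i, smul_zero]
      have hSx : hB hF 4 (x i) (act S e) = 0 := by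
        rw [← hsa S hS, (hxs i).2, LinearMap.map_smulₛₗ, LinearMap.smul_apply, hxe i, smul_zero]
      have hTSx : hB hF 4 (x i) (act (T * S) e) = 0 := by
        rw [← hsa _ hTS2, act_mul, (hxs i).2, show act T (sg F (s i).2 • x i) = sg F (s i).2 • act T (x i) from
          Matrix.mulVec_smul _ _ _, (hxs i).1, smul_smul, LinearMap.map_smulₛₗ, LinearMap.smul_apply, hxe i, smul_zero]
      simp only [P, map_smul, map_add, hxe i, hTx, hSx, hTSx, smul_zero, add_zero]
    refine ⟨Fin.cons (c • P a b e) x, Fin.cons (a, b) s, fun i j => ?_, fun i => ?_⟩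
    · refine Fin.cases ?_ (fun i => ?_) i <;> refine Fin.cases ?_ (fun j => ?_) j
      · simpa using hc
      · simp only [Fin.cons_zero, Fin.cons_succ, if_neg (Fin.succ_ne_zero j).symm]
        exact swap0 hF (hperp j)
      · simp only [Fin.cons_zero, Fin.cons_succ, if_neg (Fin.succ_ne_zero i)]
        exact hperp i
      · simp only [Fin.cons_succ, Fin.succ_inj]
        exact hx i j
    · refine Fin.cases ?_ (fun i => ?_) i
      · simp only [Fin.cons_zero]
        constructor <;>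
          rw [act, Matrix.mulVec_smul]
        · rw [show mat T *ᵥ P a b e = _ from hPT a b e, smul_comm]
        · rw [show mat S *ᵥ P a b e = _ from hPS a b e, smul_comm]
      · simp only [Fin.cons_succ]
        exact hxs i

/-- The unitary matrix of an orthonormal frame. -/
theorem exists_gu {x : Fin 4 → (Fin 4 → F)} (hx : ON hF x) :
    ∃ γ : ↥(Cfsg.GU 4 F 3), ∀ j, γ.1.1 *ᵥ Pi.single j 1 = x j := by
  classical
  set M : Matrix (Fin 4) (Fin 4) F := Matrix.of fun i j => x j i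
  have hM : ∀ y, M *ᵥ y = ∑ j, y j • x j := fun y => funext fun i => by
    simp [M, Matrix.mulVec, dotProduct, mul_comm]
  have hform : ∀ y z, hB hF 4 (M *ᵥ y) (M *ᵥ z) = hB hF 4 y z := fun y z => by
    rw [hM, hM]
    simp only [map_sum, LinearMap.sum_apply, map_smul, LinearMap.map_smulₛₗ, LinearMap.smul_apply, hx _ _,
      smul_eq_mul, RingHom.id_apply]
    simp [hB_apply, Cfsg.hermForm, frob_apply, mul_comm]
  have hinj : Function.Injective M.mulVec := by
    intro y z h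
    funext i
    have h' : M *ᵥ y = M *ᵥ z := h
    have e1 := hform (Pi.single i 1) y
    have e2 := hform (Pi.single i 1) z
    rw [hB_single_left] at e1 e2
    rw [← e1, ← e2, h']
  have hu : IsUnit M := Matrix.mulVec_injective_iff_isUnit.1 hinj
  exact ⟨⟨hu.unit, fun y z => hform z y⟩, fun j => funext fun i => by simp [M, IsUnit.unit_spec]⟩

end Frame

section Blocks

theorem mat_mul' {n : ℕ} {q : ℕ} (a b : ↥(Cfsg.SU n F q)) : mat (a * b) = mat a * mat b := rfl

theorem off_zero {X D : ↥(Cfsg.SU 4 F 3)} {d : Fin 4 → F} (hD : mat D = Matrix.diagonal d) (h : Commute D X)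
    {i j : Fin 4} (hij : d i ≠ d j) : mat X i j = 0 := by
  have := congrFun (congrFun (congrArg mat h.eq) i) j
  rw [mat_mul', mat_mul', hD, Matrix.diagonal_mul, Matrix.mul_diagonal] at this
  exact (mul_eq_zero.1 (by linear_combination this : (d i - d j) * mat X i j = 0)).resolve_left (sub_ne_zero.2 hij)

theorem sub_mul' (ι : Fin 2 ↪ Fin 4) {A B : Matrix (Fin 4) (Fin 4) F}
    (hA : ∀ a k, k ∉ Set.range ι → A (ι a) k = 0) :
    (A * B).submatrix ι ι = A.submatrix ι ι * B.submatrix ι ι := by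
  classical
  ext a b
  simp only [Matrix.submatrix_apply, Matrix.mul_apply]
  rw [← Finset.sum_subset (Finset.subset_univ (Finset.univ.map ι)) fun k _ hk => by
    rw [hA a k (fun ⟨i, hi⟩ => hk (Finset.mem_map.2 ⟨i, Finset.mem_univ i, hi⟩)), zero_mul], Finset.sum_map]

/-- The injection onto the first and the last coordinate. -/
def e03 : Fin 2 ↪ Fin 4 := ⟨![0, 3], by decide⟩

/-- The standard first lift. -/
def dT (F : Type*) [Field F] : Fin 4 → F := ![-1, -1, 1, 1]

/-- The standard second lift. -/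
def dS (F : Type*) [Field F] : Fin 4 → F := ![1, -1, -1, 1]

include hF

theorem neg_one_ne : (-1 : F) ≠ 1 := fun h => two_ne hF (by linear_combination -h)

theorem hi_n1 (k : ↥(Cfsg.SU 2 F 3)) :
    hi (n1 hF) * lo k = lo (w hF * k * (w hF)⁻¹) * hi (n1 hF) ∧
      lo (n1 hF) * hi k = hi (w hF * k * (w hF)⁻¹) * lo (n1 hF) := by
  obtain ⟨k', a, b, h1, h2⟩ := exists_torus_conj hF (k := k) (mat_n1 hF).2
  have e : k' = w hF * k * (w hF)⁻¹ := eq_mul_inv_iff_mul_eq.2 (su_two_ext hF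
    (by simp [(mul_entries hF _ _).1, mat_w hF, a]; ring)
    (by simp [(mul_entries hF _ _).2, mat_w hF, b, mat_n1 hF, im_cube hF]; ring))
  exact ⟨e ▸ h1, e ▸ h2⟩

theorem w_v : w hF * v hF * (w hF)⁻¹ = n1 hF * v hF := mul_inv_eq_iff_eq_mul.2 (su_two_ext hF
  (by simp [(mul_entries hF _ _).1, (mul_entries hF _ _).2, mat_w hF, mat_v hF, mat_n1 hF])
  (by simp [(mul_entries hF _ _).1, (mul_entries hF _ _).2, mat_w hF, mat_v hF, mat_n1 hF, im_cube hF]))

theorem w_sq_conj (x : ↥(Cfsg.SU 2 F 3)) : w hF * (w hF * x * (w hF)⁻¹) * (w hF)⁻¹ = x := by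
  have h2 : w hF * w hF = n1 hF := su_two_ext hF
    (by simp [(mul_entries hF _ _).1, mat_n1 hF, mat_w hF, im_sq hF])
    (by simp [(mul_entries hF _ _).2, mat_n1 hF, mat_w hF])
  calc w hF * (w hF * x * (w hF)⁻¹) * (w hF)⁻¹ = (w hF * w hF) * x * (w hF * w hF)⁻¹ := by group
    _ = x := by rw [h2, (n1_central hF x).eq, mul_inv_cancel_right]

theorem inv_unique {x : ↥(Cfsg.SU 2 F 3)} (hx : x * x = 1) (h1 : x ≠ 1) : x = n1 hF := by
  have e : x = x⁻¹ := eq_inv_of_mul_eq_one_left hx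
  obtain ⟨h11, h10⟩ := su_two_entries hF x
  have hinv : mat x⁻¹ 0 0 = mat x 1 1 ∧ mat x⁻¹ 0 1 = -mat x 0 1 := by
    constructor <;>
    · show ((x.1⁻¹ : Matrix.SpecialLinearGroup (Fin 2) F)).1 0 _ = _
      rw [Matrix.SpecialLinearGroup.coe_inv, Matrix.adjugate_fin_two]
      simp
  have hb : mat x 0 1 = 0 := by
    have : mat x 0 1 = -mat x 0 1 := (congrArg (fun y : ↥(Cfsg.SU 2 F 3) => mat y 0 1) e).trans hinv.2
    exact (mul_eq_zero.1 (by linear_combination this : (2 : F) * mat x 0 1 = 0)).resolve_left (two_ne hF)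
  have ha : mat x 0 0 * mat x 0 0 = 1 := by
    have := congrArg (fun y : ↥(Cfsg.SU 2 F 3) => mat y 0 0) hx
    simpa [(mul_entries hF _ _).1, hb, one_entries hF] using this
  rcases mul_self_eq_one_iff.1 ha with h | h
  · exact absurd (su_two_ext hF (h.trans (one_entries hF).1.symm) (hb.trans (one_entries hF).2.symm)) h1
  · exact su_two_ext hF (h.trans (mat_n1 hF).1.symm) (hb.trans (mat_n1 hF).2.symm)

/-- A block whose elements of order three lift to standard elements is the standard one up to an automorphism. -/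
theorem exists_alpha (hg : Scal g) (ι : Fin 2 ↪ Fin 4) {β : ↥(Cfsg.SU 2 F 3) →* G} (hinj : Function.Injective β)
    (h : ∀ s, s ^ 3 = 1 → ∃ x, g (blk ι x) = β s) :
    ∃ α : MulAut ↥(Cfsg.SU 2 F 3), ∀ s, g (blk ι (α s)) = β s := by
  set h' := g.comp (blk ι) with hh'
  have hi' : Function.Injective h' := by
    rw [injective_iff_map_eq_one]
    intro x hx
    obtain ⟨c, -, hc⟩ := hg _ hx
    obtain ⟨k, hk⟩ : ∃ k, k ∉ Set.range ι := by
      by_contra hno
      push Not at hno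
      have := Fintype.card_le_of_surjective ι hno
      simp at this
    have e := congrFun (congrFun hc k) k
    rw [(mat_blk_off ι x hk k).1] at e
    simp at e
    refine blk_injective ι ((mat_ext ?_).trans (map_one (blk ι)).symm)
    rw [hc, ← e, one_smul]
    rfl
  have hle : β.range ≤ h'.range := by
    rw [MonoidHom.range_eq_map, ← closure_three hF, MonoidHom.map_closure, Subgroup.closure_le]
    rintro _ ⟨s, hs, rfl⟩
    exact h s hs
  haveI : Finite h'.range := Finite.of_surjective h'.rangeRestrict h'.rangeRestrict_surjective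
  have heq : β.range = h'.range := Subgroup.eq_of_le_of_card_ge hle (le_of_eq (by
    rw [← Nat.card_congr (MonoidHom.ofInjective hi').toEquiv, ← Nat.card_congr (MonoidHom.ofInjective hinj).toEquiv]))
  refine ⟨(MonoidHom.ofInjective hinj).trans ((MulEquiv.subgroupCongr heq).trans (MonoidHom.ofInjective hi').symm),
    fun s => ?_⟩
  have e := (MonoidHom.ofInjective hi').apply_symm_apply (MulEquiv.subgroupCongr heq (MonoidHom.ofInjective hinj s))
  exact congrArg Subtype.val e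

/-- Order three elements centralising an anticommuting pair on a block are trivial there. -/
theorem sub_eq_one (ι : Fin 2 ↪ Fin 4) {y : ↥(Cfsg.SU 4 F 3)} (hy3 : y ^ 3 = 1)
    (hy : ∀ a k, k ∉ Set.range ι → mat y (ι a) k = 0) {A B : ↥(Cfsg.SU 4 F 3)}
    (hA : ∀ a k, k ∉ Set.range ι → mat A (ι a) k = 0) (hB : ∀ a k, k ∉ Set.range ι → mat B (ι a) k = 0)
    (hAd : ((mat A).submatrix ι ι).det ≠ 0) (hBd : ((mat B).submatrix ι ι).det ≠ 0)
    (hBA : (mat B).submatrix ι ι * (mat A).submatrix ι ι = -((mat A).submatrix ι ι * (mat B).submatrix ι ι))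
    (cA : Commute A y) (cB : Commute B y) : (mat y).submatrix ι ι = 1 := by
  have com : ∀ X : ↥(Cfsg.SU 4 F 3), (∀ a k, k ∉ Set.range ι → mat X (ι a) k = 0) → Commute X y →
      (mat y).submatrix ι ι * (mat X).submatrix ι ι = (mat X).submatrix ι ι * (mat y).submatrix ι ι := by
    intro X hX c
    rw [← sub_mul' ι hy, ← sub_mul' ι hX, ← mat_mul', ← mat_mul', c.eq]
  obtain ⟨m01, m10, m11⟩ := scalar_of_commute hF hBA hAd hBd (com A hA cA) (com B hB cB)
  set M := (mat y).submatrix ι ι with hM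
  have hMc : M = M 0 0 • (1 : Matrix (Fin 2) (Fin 2) F) := by
    ext i j
    fin_cases i <;> fin_cases j <;> simp [m01, m10, m11]
  have h3 : M * (M * M) = 1 := by
    rw [hM, ← sub_mul' ι hy, ← sub_mul' ι hy, ← mat_mul', ← mat_mul', ← pow_two, ← pow_succ', hy3]
    exact Matrix.submatrix_one _ ι.injective
  have e := congrFun (congrFun h3 0) 0
  simp [Matrix.mul_apply, Fin.sum_univ_two, m01, m10] at e
  rw [hMc, show M 0 0 = 1 from sub_eq_zero.1 (eq_zero_of_pow_eq_zero (n := 3) (by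
    linear_combination e + (M 0 0 - M 0 0 ^ 2) * three_zero hF)), one_smul]

end Blocks

/-- The two maps and the given map from `SU 4`. -/
structure Data (F : Type*) [Field F] [Fintype F] (G : Type*) [Group G] where
  hF : Fintype.card F = 3 ^ 2
  g : ↥(Cfsg.SU 4 F 3) →* G
  hg : Scal g
  φ : ↥(Cfsg.SU 3 F 3) →* G
  ψ : ↥(Cfsg.SU 3 F 3) →* G
  agree : φ.comp hi = ψ.comp lo
  φlo : Function.Injective (φ.comp lo)
  φhi : Function.Injective (φ.comp hi)
  ψlo : Function.Injective (ψ.comp lo)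
  ψhi : Function.Injective (ψ.comp hi)
  φr : ∀ a, ∃ y, g y = φ a
  ψr : ∀ a, ∃ y, g y = ψ a
  comm : ∀ s t, Commute (φ (lo s)) (ψ (hi t))

namespace Data

variable (D : Data F G)

theorem r0 : ∀ s, ∃ y, D.g y = D.φ.comp lo s := fun s => D.φr (lo s)

theorem r1 : ∀ s, ∃ y, D.g y = D.φ.comp hi s := fun s => D.φr (hi s)

theorem r2 : ∀ s, ∃ y, D.g y = D.ψ.comp hi s := fun s => D.ψr (hi s)

theorem agree' (s : ↥(Cfsg.SU 2 F 3)) : D.φ (hi s) = D.ψ (lo s) := DFunLike.congr_fun D.agree s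

theorem not_commute : ¬ Commute (D.φ (hi (n1 D.hF))) (D.φ (lo (v D.hF))) ∧
    ¬ Commute (D.φ (lo (n1 D.hF))) (D.φ (hi (v D.hF))) := by
  have hne : n1 D.hF * v D.hF ≠ v D.hF := fun h => n1_ne_one D.hF (mul_eq_right.1 h)
  constructor <;> intro h
  · refine hne (D.φlo ?_)
    show D.φ (lo _) = D.φ (lo _)
    rw [← w_v D.hF]
    refine mul_right_cancel (b := D.φ (hi (n1 D.hF))) ?_
    rw [← map_mul, ← (hi_n1 D.hF _).1, map_mul, h.eq]
  · refine hne (D.φhi ?_)
    show D.φ (hi _) = D.φ (hi _)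
    rw [← w_v D.hF]
    refine mul_right_cancel (b := D.φ (lo (n1 D.hF))) ?_
    rw [← map_mul, ← (hi_n1 D.hF _).2, map_mul, h.eq]

/-- The lifts become standard after a change of basis. -/
theorem exists_std : ∃ (D' : Data F G) (T S : ↥(Cfsg.SU 4 F 3)), D'.φ = D.φ ∧ D'.ψ = D.ψ ∧
    (∃ γ, D'.g = D.g.comp (AutPSU.cnj γ).toMonoidHom) ∧ IsInv D'.hF D'.g (D'.φ.comp lo) T ∧
    IsInv D'.hF D'.g (D'.φ.comp hi) S ∧ mat T = Matrix.diagonal (dT F) ∧ mat S = Matrix.diagonal (dS F) := by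
  classical
  have hF := D.hF
  obtain ⟨T, hT⟩ := exists_isInv hF D.hg D.r0
  obtain ⟨S, hS⟩ := exists_isInv hF D.hg D.r1
  have gT : D.g T = D.φ (lo (n1 hF)) := hT.image hF D.hg D.r0
  have gS : D.g S = D.φ (hi (n1 hF)) := hS.image hF D.hg D.r1
  have hTS : Commute S T := hT.commute_of_conj hF D.hg D.r0
    (by
      rw [gS]
      refine Commute.map ?_ D.φ
      have := (hi_n1 hF (w hF)).1
      rwa [mul_inv_cancel_right] at this)
    (by
      rw [gS, ← w_v hF]
      show D.φ (hi _) * D.φ (lo _) = D.φ (lo _) * D.φ (hi _)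
      rw [← map_mul, ← map_mul, (hi_n1 hF _).1])
  obtain ⟨x, s, hx, hxs⟩ := exists_eigen hF (hT.sq hF D.hg D.r0) (hS.sq hF D.hg D.r1) hTS 4 le_rfl
  -- conjugation to a frame diagonalises the lifts
  have conj : ∀ (x : Fin 4 → (Fin 4 → F)) (γ : ↥(Cfsg.GU 4 F 3)), (∀ j, γ.1.1 *ᵥ Pi.single j 1 = x j) →
      ∀ (R : ↥(Cfsg.SU 4 F 3)) (d : Fin 4 → F), (∀ j, act R (x j) = d j • x j) →
        mat ((AutPSU.cnj γ).symm R) = Matrix.diagonal d := by
    intro x γ hγ R d hd
    refine Matrix.ext_of_mulVec_single fun j => ?_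
    show ((γ.1⁻¹).1 * mat R * (γ.1⁻¹⁻¹).1) *ᵥ Pi.single j 1 = _
    rw [inv_inv, ← Matrix.mulVec_mulVec, hγ, ← Matrix.mulVec_mulVec, show mat R *ᵥ x j = _ from hd j,
      Matrix.mulVec_smul, ← hγ, Matrix.mulVec_mulVec, Units.inv_mul, Matrix.one_mulVec]
    ext i
    by_cases h : i = j
    · subst h; simp [Matrix.mulVec_diagonal]
    · simp [Matrix.mulVec_diagonal, h]
  obtain ⟨γ₀, hγ₀⟩ := exists_gu hF hx
  have hTd := conj x γ₀ hγ₀ T _ fun j => (hxs j).1
  have hSd := conj x γ₀ hγ₀ S _ fun j => (hxs j).2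
  have par : ∀ (R : ↥(Cfsg.SU 4 F 3)) (b : Fin 4 → Bool),
      mat ((AutPSU.cnj γ₀).symm R) = Matrix.diagonal (fun j => sg F (b j)) → (b 0 ^^ b 1 ^^ b 2 ^^ b 3) = false := by
    intro R b h
    refine sg_parity hF ?_
    have hd := ((AutPSU.cnj γ₀).symm R).1.2
    change (mat ((AutPSU.cnj γ₀).symm R)).det = 1 at hd
    rwa [h, Matrix.det_diagonal, Fin.prod_univ_four] at hd
  -- scalar lifts are impossible
  have central : ∀ (R : ↥(Cfsg.SU 4 F 3)) (c : F), mat R = c • (1 : Matrix (Fin 4) (Fin 4) F) → ∀ y, Commute R y :=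
    fun R c h y => mat_ext (by rw [mat_mul', mat_mul', h, Matrix.smul_mul, Matrix.mul_smul, one_mul, mul_one])
  have back : ∀ (R : ↥(Cfsg.SU 4 F 3)) (c : F),
      mat ((AutPSU.cnj γ₀).symm R) = c • (1 : Matrix (Fin 4) (Fin 4) F) → ∀ y, Commute R y := by
    intro R c h y
    have := (central _ c h ((AutPSU.cnj γ₀).symm y)).map (AutPSU.cnj γ₀).toMonoidHom
    simpa using this
  have const : ∀ b : Fin 4 → Bool, (∀ i j, b i = b j) →
      (Matrix.diagonal (fun j => sg F (b j)) : Matrix (Fin 4) (Fin 4) F) = sg F (b 0) • 1 := fun b hb => by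
    rw [Matrix.smul_one_eq_diagonal]
    exact congrArg _ (funext fun j => by rw [hb j 0])
  obtain ⟨yv0, hyv0⟩ := D.r0 (v hF)
  obtain ⟨yv1, hyv1⟩ := D.r1 (v hF)
  have notT : ∃ i j, (s i).1 ≠ (s j).1 := by
    by_contra hno
    push Not at hno
    have := (back T _ (hTd.trans (const _ hno)) yv1).map D.g
    rw [gT, hyv1] at this
    exact D.not_commute.2 this
  have notS : ∃ i j, (s i).2 ≠ (s j).2 := by
    by_contra hno
    push Not at hno
    have := (back S _ (hSd.trans (const _ hno)) yv0).map D.g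
    rw [gS, hyv0] at this
    exact D.not_commute.1 this
  have notTS : ∃ i j, ((s i).1 ^^ (s i).2) ≠ ((s j).1 ^^ (s j).2) := by
    by_contra hno
    push Not at hno
    have e : mat ((AutPSU.cnj γ₀).symm (T * S)) = sg F ((s 0).1 ^^ (s 0).2) • (1 : Matrix (Fin 4) (Fin 4) F) := by
      rw [map_mul, mat_mul', hTd, hSd, Matrix.diagonal_mul_diagonal, ← const (fun j => (s j).1 ^^ (s j).2) hno]
      congr 1
      funext j
      rcases s j with ⟨a, b⟩
      cases a <;> cases b <;> simp [sg]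
    have h1 := back (T * S) _ e yv0
    have h2 := (hT.commute hF D.hg D.r0 hyv0).inv_left
    have := (h2.mul_left h1).map D.g
    rw [inv_mul_cancel_left, gS, hyv0] at this
    exact D.not_commute.1 this
  have hall := signs hF s (par T _ hTd) (par S _ hSd) notT notS notTS
  let tgt : Fin 4 → Bool × Bool := ![(true, false), (true, true), (false, true), (false, false)]
  choose π hπ using fun j => hall (tgt j)
  have hπi : Function.Injective π := fun i j h => by
    have e : tgt i = tgt j := by rw [← hπ i, ← hπ j, h]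
    revert e
    fin_cases i <;> fin_cases j <;> simp [tgt]
  obtain ⟨γ, hγ⟩ := exists_gu hF (x := x ∘ π) (fun i j => by
    show hB hF 4 (x (π i)) (x (π j)) = _
    rw [hx]
    by_cases h : i = j
    · subst h; simp
    · rw [if_neg h, if_neg fun e => h (hπi e)])
  let D' : Data F G :=
    { D with
      g := D.g.comp (AutPSU.cnj γ).toMonoidHom
      hg := fun z hz => by
        obtain ⟨c, hc4, hc⟩ := D.hg _ hz
        refine ⟨c, hc4, ?_⟩
        have : z = (AutPSU.cnj γ).symm (AutPSU.cnj γ z) := ((AutPSU.cnj γ).symm_apply_apply z).symm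
        rw [this]
        show (γ.1⁻¹).1 * mat (AutPSU.cnj γ z) * (γ.1⁻¹⁻¹).1 = _
        rw [show mat (AutPSU.cnj γ z) = _ from hc, inv_inv, Matrix.mul_smul, Matrix.smul_mul, mul_one, Units.inv_mul]
      φr := fun a => by
        obtain ⟨y, hy⟩ := D.φr a
        exact ⟨(AutPSU.cnj γ).symm y, by simpa using hy⟩
      ψr := fun a => by
        obtain ⟨y, hy⟩ := D.ψr a
        exact ⟨(AutPSU.cnj γ).symm y, by simpa using hy⟩ }
  refine ⟨D', (AutPSU.cnj γ).symm T, (AutPSU.cnj γ).symm S, rfl, rfl, ⟨γ, rfl⟩, ?_, ?_, ?_, ?_⟩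
  · obtain ⟨W, V, hW, hV, rfl⟩ := hT
    exact ⟨(AutPSU.cnj γ).symm W, (AutPSU.cnj γ).symm V, by simpa [D'] using hW, by simpa [D'] using hV,
      by simp [map_mul, map_inv]⟩
  · obtain ⟨W, V, hW, hV, rfl⟩ := hS
    exact ⟨(AutPSU.cnj γ).symm W, (AutPSU.cnj γ).symm V, by simpa [D'] using hW, by simpa [D'] using hV,
      by simp [map_mul, map_inv]⟩
  · refine (conj _ γ hγ T (fun j => sg F (s (π j)).1) fun j => (hxs _).1).trans (congrArg _ (funext fun j => ?_))
    rw [hπ]
    fin_cases j <;> simp [tgt, sg, dT]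
  · refine (conj _ γ hγ S (fun j => sg F (s (π j)).2) fun j => (hxs _).2).trans (congrArg _ (funext fun j => ?_))
    rw [hπ]
    fin_cases j <;> simp [tgt, sg, dS]

section Standard

variable {T S : ↥(Cfsg.SU 4 F 3)} (hT : IsInv D.hF D.g (D.φ.comp lo) T) (hS : IsInv D.hF D.g (D.φ.comp hi) S)
  (hTd : mat T = Matrix.diagonal (dT F)) (hSd : mat S = Matrix.diagonal (dS F))
include hT hS hTd hSd

/-- Elements commuting with the first lift preserve its two blocks. -/
theorem split_T {y : ↥(Cfsg.SU 4 F 3)} (h : Commute T y) :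
    (∀ a k, k ∉ Set.range (sh (m := 2) (n := 4) 0 (by omega)) → mat y (sh (m := 2) (n := 4) 0 (by omega) a) k = 0) ∧
      ∀ a k, k ∉ Set.range (sh (m := 2) (n := 4) 2 (by omega)) → mat y (sh (m := 2) (n := 4) 2 (by omega) a) k = 0 := by
  have a0 : sh (m := 2) (n := 4) 0 (by omega) 0 = (0 : Fin 4) := rfl
  have a1 : sh (m := 2) (n := 4) 0 (by omega) 1 = (1 : Fin 4) := rfl
  have b0 : sh (m := 2) (n := 4) 2 (by omega) 0 = (2 : Fin 4) := rfl
  have b1 : sh (m := 2) (n := 4) 2 (by omega) 1 = (3 : Fin 4) := rfl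
  constructor <;> intro a k hk <;> refine off_zero hTd h ?_ <;> rw [mem_range_sh] at hk <;>
    fin_cases a <;> fin_cases k <;>
      simp [dT, a0, a1, b0, b1, neg_one_ne D.hF, (neg_one_ne D.hF).symm] at hk ⊢

/-- The third block is standard. -/
theorem exists_alpha_two :
    ∃ α : MulAut ↥(Cfsg.SU 2 F 3), ∀ s, D.g (blk (sh 2 (by omega)) (α s)) = D.ψ (hi s) := by
  have hF := D.hF
  refine exists_alpha hF D.hg _ (β := D.ψ.comp hi) D.ψhi fun s hs => ?_
  obtain ⟨y, hy3, hy⟩ := exists_lift_three hF D.hg D.r2 hs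
  obtain ⟨W, V, hW, hV, hTe⟩ := id hT
  have cy : ∀ (R : ↥(Cfsg.SU 4 F 3)) r, D.g R = D.φ.comp lo r → Commute R y := fun R r hR =>
    commute_lift hF D.hg D.r2 (fun t => by rw [hR]; exact D.comm r t) hy
  have gT := hT.image hF D.hg D.r0
  obtain ⟨hy0, hy2⟩ := D.split_T hT hS hTd hSd (cy T _ gT)
  obtain ⟨hW0, -⟩ := D.split_T hT hS hTd hSd (hT.commute hF D.hg D.r0 hW)
  obtain ⟨hV0, -⟩ := D.split_T hT hS hTd hSd (hT.commute hF D.hg D.r0 hV)
  obtain ⟨hT0, -⟩ := D.split_T hT hS hTd hSd (Commute.refl T)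
  set ι : Fin 2 ↪ Fin 4 := sh 0 (by omega)
  have hinv : ∀ {R : ↥(Cfsg.SU 4 F 3)}, Commute T R → ((mat R).submatrix ι ι).det ≠ 0 := fun {R} c => by
    obtain ⟨hR, -⟩ := D.split_T hT hS hTd hSd c
    have e : (mat R).submatrix ι ι * (mat R⁻¹).submatrix ι ι = 1 := by
      rw [← sub_mul' ι hR, ← mat_mul', mul_inv_cancel]
      exact Matrix.submatrix_one _ ι.injective
    intro h0
    have := congrArg Matrix.det e
    rw [Matrix.det_mul, h0, zero_mul, Matrix.det_one] at this
    exact zero_ne_one this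
  have hsub := sub_eq_one hF ι hy3 hy0 hW0 hV0 (hinv (hT.commute hF D.hg D.r0 hW))
    (hinv (hT.commute hF D.hg D.r0 hV)) (by
      have e1 : V * W = T * (W * V) := by rw [hTe]; group
      have hTsub : (mat T).submatrix ι ι = -1 := by
        rw [hTd]
        ext i j
        fin_cases i <;> fin_cases j <;> simp [ι, sh, dT, Matrix.diagonal]
      rw [← sub_mul' ι hV0, ← mat_mul', e1, mat_mul', sub_mul' ι hT0, hTsub, mat_mul', sub_mul' ι hW0,
        neg_one_mul]) (cy W _ hW) (cy V _ hV)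
  obtain ⟨x, hx⟩ : y ∈ (blk (F := F) (q := 3) (sh (m := 2) (n := 4) 2 (by omega))).range := by
    refine mem_range_blk _ y fun k hk => ?_
    obtain ⟨a, rfl⟩ : k ∈ Set.range ι := by
      rw [mem_range_sh] at hk ⊢
      omega
    refine ⟨by simpa using congrFun (congrFun hsub a) a, fun j hj => ?_⟩
    by_cases hj' : j ∈ Set.range ι
    · obtain ⟨b, rfl⟩ := hj'
      have hab : a ≠ b := fun e => hj (by rw [e])
      exact ⟨by simpa [hab] using congrFun (congrFun hsub a) b,
        by simpa [hab.symm] using congrFun (congrFun hsub b) a⟩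
    · refine ⟨hy0 a j hj', ?_⟩
      obtain ⟨b, rfl⟩ : j ∈ Set.range (sh (m := 2) (n := 4) 2 (by omega)) := by
        rw [mem_range_sh] at hj' ⊢
        omega
      exact hy2 b _ (fun ⟨c, hc⟩ => by
        have := congrArg Fin.val hc
        have := a.2
        simp [ι, sh_val] at *
        omega)
  exact ⟨x, by rw [hx, hy]⟩

/-- The first block is standard. -/
theorem exists_alpha_zero :
    ∃ α : MulAut ↥(Cfsg.SU 2 F 3), ∀ s, D.g (blk (sh 0 (by omega)) (α s)) = D.φ (lo s) := by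
  have hF := D.hF
  obtain ⟨α₂, hα₂⟩ := D.exists_alpha_two hT hS hTd hSd
  have hn : α₂ (n1 hF) = n1 hF := inv_unique hF
    (by
      rw [← map_mul, show n1 hF * n1 hF = 1 from ?_, map_one]
      refine su_two_ext hF ?_ ?_ <;>
        simp [(mul_entries hF _ _).1, (mul_entries hF _ _).2, mat_n1 hF, one_entries hF])
    (fun h => n1_ne_one hF (α₂.injective (h.trans (map_one α₂).symm)))
  refine exists_alpha hF D.hg _ (β := D.φ.comp lo) D.φlo fun s hs => ?_
  obtain ⟨y, hy3, hy⟩ := exists_lift_three hF D.hg D.r0 hs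
  obtain ⟨hy0, hy2⟩ := D.split_T hT hS hTd hSd (hT.commute hF D.hg D.r0 hy)
  set ι : Fin 2 ↪ Fin 4 := sh 2 (by omega)
  have cy : ∀ t, Commute (blk ι (α₂ t)) y := fun t =>
    commute_lift hF D.hg D.r0 (fun r => by rw [hα₂]; exact (D.comm r t).symm) hy
  have hsubm : ∀ t : ↥(Cfsg.SU 2 F 3), (mat (blk ι t)).submatrix ι ι = mat t := fun t =>
    Matrix.ext fun i j => mat_blk ι t i j
  have hoff : ∀ (t : ↥(Cfsg.SU 2 F 3)) a k, k ∉ Set.range ι → mat (blk ι t) (ι a) k = 0 := fun t a k hk => by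
    rw [(mat_blk_off ι t hk (ι a)).2, Matrix.one_apply_ne fun e => hk ⟨a, e⟩]
  have hsub := sub_eq_one hF ι hy3 hy2 (hoff (α₂ (w hF))) (hoff (α₂ (v hF)))
    (by rw [hsubm, det_mat hF]; exact one_ne_zero) (by rw [hsubm, det_mat hF]; exact one_ne_zero) (by
      rw [hsubm, hsubm, ← mat_mul', ← map_mul, v_mul_w, map_mul, map_mul, hn, mat_mul', mat_mul']
      rw [show mat (n1 hF) = -1 from ?_, neg_one_mul]
      obtain ⟨h11, h10⟩ := su_two_entries hF (n1 hF)
      ext i j; fin_cases i <;> fin_cases j <;> simp [mat_n1 hF, h11, h10, neg_pow_q hF]) (cy _) (cy _)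
  obtain ⟨x, hx⟩ : y ∈ (blk (F := F) (q := 3) (sh (m := 2) (n := 4) 0 (by omega))).range := by
    refine mem_range_blk _ y fun k hk => ?_
    obtain ⟨a, rfl⟩ : k ∈ Set.range ι := by
      rw [mem_range_sh] at hk ⊢
      omega
    refine ⟨by simpa using congrFun (congrFun hsub a) a, fun j hj => ?_⟩
    by_cases hj' : j ∈ Set.range ι
    · obtain ⟨b, rfl⟩ := hj'
      have hab : a ≠ b := fun e => hj (by rw [e])
      exact ⟨by simpa [hab] using congrFun (congrFun hsub a) b,
        by simpa [hab.symm] using congrFun (congrFun hsub b) a⟩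
    · refine ⟨hy2 a j hj', ?_⟩
      obtain ⟨b, rfl⟩ : j ∈ Set.range (sh (m := 2) (n := 4) 0 (by omega)) := by
        rw [mem_range_sh] at hj' ⊢
        omega
      exact hy0 b _ (fun ⟨c, hc⟩ => by
        have := congrArg Fin.val hc
        have := c.2
        simp [ι, sh_val] at *
        omega)
  exact ⟨x, by rw [hx, hy]⟩

/-- The middle block is standard. -/
theorem exists_alpha_one :
    ∃ α : MulAut ↥(Cfsg.SU 2 F 3), ∀ s, D.g (blk (sh 1 (by omega)) (α s)) = D.φ (hi s) := by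
  have hF := D.hF
  obtain ⟨W, V, hW, hV, hSe⟩ := id hS
  have gT := hT.image hF D.hg D.r0
  have split : ∀ {y}, Commute S y →
      (∀ a k, k ∉ Set.range e03 → mat y (e03 a) k = 0) ∧ ∀ a k, k ∈ Set.range e03 →
        mat y (sh (m := 2) (n := 4) 1 (by omega) a) k = 0 := by
    intro y h
    have a0 : sh (m := 2) (n := 4) 1 (by omega) 0 = (1 : Fin 4) := rfl
    have a1 : sh (m := 2) (n := 4) 1 (by omega) 1 = (2 : Fin 4) := rfl
    constructor <;> intro a k hk <;> refine off_zero hSd h ?_ <;> fin_cases a <;> fin_cases k <;>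
      simp [e03, dS, a0, a1, neg_one_ne hF, (neg_one_ne hF).symm, Fin.exists_fin_two] at hk ⊢
  have subm : ∀ {a b : ↥(Cfsg.SU 4 F 3)}, Commute S a →
      (mat (a * b)).submatrix e03 e03 = (mat a).submatrix e03 e03 * (mat b).submatrix e03 e03 := fun {a b} c => by
    rw [mat_mul', sub_mul' e03 (split c).1]
  have cS : ∀ {y r}, D.g y = D.φ.comp hi r → Commute S y := fun {y r} h => hS.commute hF D.hg D.r1 h
  obtain ⟨yu, hyu3, hyu⟩ := exists_lift_three hF D.hg D.r1 (u_cube hF)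
  set R := (mat W).submatrix e03 e03 with hR
  set R' := (mat V).submatrix e03 e03 with hR'
  set Y := (mat yu).submatrix e03 e03 with hY
  have hS03 : (mat S).submatrix e03 e03 = 1 := by
    rw [hSd]
    ext i j
    fin_cases i <;> fin_cases j <;> simp [e03, dS, Matrix.diagonal]
  have hcomm : R' * R = R * R' := by
    have e1 : V * W = S * (W * V) := by rw [hSe]; group
    have h := congrArg (fun M : ↥(Cfsg.SU 4 F 3) => (mat M).submatrix e03 e03) e1
    simp only [subm (cS hV), subm (Commute.refl S), subm (cS hW), hS03, one_mul] at h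
    exact h
  obtain ⟨c1, hc1, e1⟩ : ∃ c : F, c ^ 4 = 1 ∧ Y * R = c • (R' * Y) := by
    obtain ⟨c, hc, h⟩ := D.hg.eq_smul (a := yu * W) (b := V * yu)
      (by rw [map_mul, map_mul, hyu, hW, hV, ← map_mul, ← map_mul, u_mul_w])
    refine ⟨c, hc, ?_⟩
    have h' := congrArg (fun M => M.submatrix e03 e03) h
    simp only [subm (cS hyu), Matrix.submatrix_smul, Pi.smul_apply, subm (cS hV)] at h'
    exact h'
  obtain ⟨c2, hc2, e2⟩ : ∃ c : F, c ^ 4 = 1 ∧ Y * R' = c • (R * R' * Y) := by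
    obtain ⟨c, hc, h⟩ := D.hg.eq_smul (a := yu * V) (b := W * V * yu)
      (by rw [map_mul, map_mul, map_mul, hyu, hW, hV, ← map_mul, ← map_mul, ← map_mul, u_mul_v])
    refine ⟨c, hc, ?_⟩
    have h' := congrArg (fun M => M.submatrix e03 e03) h
    simp only [subm (cS hyu), Matrix.submatrix_smul, Pi.smul_apply, subm ((cS hW).mul_right (cS hV)),
      subm (cS hW)] at h'
    exact h'
  obtain ⟨cR, hRR⟩ : ∃ c : F, R * R = c • (1 : Matrix (Fin 2) (Fin 2) F) := by
    obtain ⟨c, -, h⟩ := D.hg.eq_smul (a := W * W) (b := S) (by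
      rw [map_mul, hW, hS.image hF D.hg D.r1, ← map_mul]
      congr 1
      refine su_two_ext hF ?_ ?_ <;>
        simp [(mul_entries hF _ _).1, (mul_entries hF _ _).2, mat_n1 hF, mat_w hF, im_sq hF])
    refine ⟨c, ?_⟩
    have h' := congrArg (fun M => M.submatrix e03 e03) h
    simp only [subm (cS hW), Matrix.submatrix_smul, Pi.smul_apply, hS03] at h'
    exact h'
  obtain ⟨cR', hRR'⟩ : ∃ c : F, R' * R' = c • (1 : Matrix (Fin 2) (Fin 2) F) := by
    obtain ⟨c, -, h⟩ := D.hg.eq_smul (a := V * V) (b := S) (by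
      rw [map_mul, hV, hS.image hF D.hg D.r1, ← map_mul, v_sq])
    refine ⟨c, ?_⟩
    have h' := congrArg (fun M => M.submatrix e03 e03) h
    simp only [subm (cS hV), Matrix.submatrix_smul, Pi.smul_apply, hS03] at h'
    exact h'
  have hYi : ∃ Z : Matrix (Fin 2) (Fin 2) F, Y * Z = 1 ∧ Z * Y = 1 := by
    refine ⟨(mat yu⁻¹).submatrix e03 e03, ?_, ?_⟩
    · rw [hY, ← subm (cS hyu), mul_inv_cancel]
      exact Matrix.submatrix_one _ e03.injective
    · rw [hY, ← subm (cS hyu).inv_right, inv_mul_cancel]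
      exact Matrix.submatrix_one _ e03.injective
  obtain ⟨Z, hYZ, hZY⟩ := hYi
  obtain ⟨r, hr⟩ : ∃ r : F, R = r • (1 : Matrix (Fin 2) (Fin 2) F) := by
    by_contra hno
    have traceless : ∀ {M : Matrix (Fin 2) (Fin 2) F} {c : F}, M * M = c • (1 : Matrix (Fin 2) (Fin 2) F) →
        (¬ ∃ r : F, M = r • (1 : Matrix (Fin 2) (Fin 2) F)) → M 1 1 = -M 0 0 := by
      intro M c hM hns
      by_contra ht
      have ht' : M 0 0 + M 1 1 ≠ 0 := fun h => ht (by linear_combination h)
      have m01 := congrFun (congrFun hM 0) 1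
      have m10 := congrFun (congrFun hM 1) 0
      have m00 := congrFun (congrFun hM 0) 0
      have m11 := congrFun (congrFun hM 1) 1
      simp [Matrix.mul_apply, Fin.sum_univ_two] at m01 m10 m00 m11
      have h01 : M 0 1 = 0 := (mul_eq_zero.1 (by linear_combination m01 : (M 0 0 + M 1 1) * M 0 1 = 0)).resolve_left ht'
      have h10 : M 1 0 = 0 := (mul_eq_zero.1 (by linear_combination m10 : (M 0 0 + M 1 1) * M 1 0 = 0)).resolve_left ht'
      have h : M 0 0 - M 1 1 = 0 :=
        (mul_eq_zero.1 (by linear_combination m00 - m11 : (M 0 0 + M 1 1) * (M 0 0 - M 1 1) = 0)).resolve_left ht'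
      exact hns ⟨M 0 0, by ext i j; fin_cases i <;> fin_cases j <;> simp [h01, h10, ← sub_eq_zero.1 h]⟩
    have hno' : ¬ ∃ r : F, R' = r • (1 : Matrix (Fin 2) (Fin 2) F) := by
      rintro ⟨r, hr⟩
      refine hno ⟨c1 * r, ?_⟩
      calc R = Z * (Y * R) := by rw [← Matrix.mul_assoc, hZY, Matrix.one_mul]
        _ = _ := by rw [e1, hr, Matrix.smul_mul, Matrix.one_mul, smul_smul, Matrix.mul_smul, hZY]
    have tR := traceless hRR hno
    have tR' := traceless hRR' hno'
    obtain ⟨ρ, hρ⟩ : ∃ ρ : F, R * R' = ρ • (1 : Matrix (Fin 2) (Fin 2) F) := by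
      refine ⟨(R * R') 0 0, ?_⟩
      have h2 := two_ne hF
      have c00 := congrFun (congrFun hcomm 0) 0
      have c01 := congrFun (congrFun hcomm 0) 1
      have c10 := congrFun (congrFun hcomm 1) 0
      simp [Matrix.mul_apply, Fin.sum_univ_two, tR, tR'] at c00 c01 c10
      ext i j
      fin_cases i <;> fin_cases j <;> simp [Matrix.mul_apply, Fin.sum_univ_two, tR, tR']
      · exact (mul_eq_zero.1 (by linear_combination -c01 :
          (2 : F) * (R 0 0 * R' 0 1 + -(R 0 1 * R' 0 0)) = 0)).resolve_left h2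
      · exact (mul_eq_zero.1 (by linear_combination -c10 :
          (2 : F) * (R 1 0 * R' 0 0 + -(R 0 0 * R' 1 0)) = 0)).resolve_left h2
      · linear_combination c00
    refine hno' ⟨c2 * ρ, ?_⟩
    calc R' = Z * (Y * R') := by rw [← Matrix.mul_assoc, hZY, Matrix.one_mul]
      _ = _ := by rw [e2, hρ, Matrix.smul_mul, Matrix.one_mul, smul_smul, Matrix.mul_smul, hZY]
  have hr0 : r ≠ 0 := by
    intro h
    rw [h, zero_smul] at hr
    have := subm (a := W) (b := W⁻¹) (cS hW)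
    rw [mul_inv_cancel, ← hR, hr, zero_mul] at this
    have e := congrFun (congrFun this 0) 0
    simp [mat] at e
  refine exists_alpha hF D.hg _ (β := D.φ.comp hi) D.φhi fun s hs => ?_
  obtain ⟨y, hy3, hy⟩ := exists_lift_three hF D.hg D.r1 hs
  obtain ⟨h03, h12⟩ := split (cS hy)
  have hcE : Commute (T * W) y := commute_lift hF D.hg D.r1 (fun x => by
    rw [map_mul, gT, hW]
    show D.φ (lo (n1 hF)) * D.φ (hi (w hF)) * D.φ (hi x) = D.φ (hi x) * (D.φ (lo (n1 hF)) * D.φ (hi (w hF)))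
    have h := congrArg D.φ (hi_n1 hF (w hF * x * (w hF)⁻¹)).2
    rw [w_sq_conj] at h
    simp only [map_mul, map_inv] at h
    rw [← mul_assoc, ← h]
    simp only [mul_assoc, inv_mul_cancel, mul_one]) hy
  have cST : Commute S T := by
    refine mat_ext ?_
    rw [mat_mul', mat_mul', hTd, hSd, Matrix.diagonal_mul_diagonal, Matrix.diagonal_mul_diagonal]
    exact congrArg _ (funext fun i => mul_comm _ _)
  have hT03 : (mat T).submatrix e03 e03 = Matrix.diagonal ![-1, 1] := by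
    rw [hTd]
    ext i j
    fin_cases i <;> fin_cases j <;> simp [e03, dT, Matrix.diagonal]
  set M := (mat y).submatrix e03 e03 with hM
  have hDM : Matrix.diagonal ![-1, 1] * M = M * Matrix.diagonal ![-1, 1] := by
    have h := congrArg (fun M : ↥(Cfsg.SU 4 F 3) => (mat M).submatrix e03 e03) hcE.eq
    simp only [subm (cS hy), subm (cST.mul_right (cS hW)), subm cST, hT03, ← hR, ← hM, hr, Matrix.mul_smul,
      Matrix.mul_one, Matrix.smul_mul] at h
    exact smul_right_injective _ hr0 h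
  have m01 : M 0 1 = 0 := by
    have := congrFun (congrFun hDM 0) 1
    simp [Matrix.diagonal_mul, Matrix.mul_diagonal] at this
    exact (mul_eq_zero.1 (by linear_combination -this : (2 : F) * M 0 1 = 0)).resolve_left (two_ne hF)
  have m10 : M 1 0 = 0 := by
    have := congrFun (congrFun hDM 1) 0
    simp [Matrix.diagonal_mul, Matrix.mul_diagonal] at this
    exact (mul_eq_zero.1 (by linear_combination this : (2 : F) * M 1 0 = 0)).resolve_left (two_ne hF)
  have h3 : M * (M * M) = 1 := by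
    rw [hM, ← subm (cS hy), ← subm (cS hy), ← pow_two, ← pow_succ', hy3]
    exact Matrix.submatrix_one _ e03.injective
  have hMc : M = 1 := by
    have cube : ∀ c : F, c * (c * c) = 1 → c = 1 := fun c h => sub_eq_zero.1 (eq_zero_of_pow_eq_zero (n := 3) (by
      linear_combination h + (c - c ^ 2) * three_zero hF))
    have h00 := congrFun (congrFun h3 0) 0
    have h11 := congrFun (congrFun h3 1) 1
    simp [Matrix.mul_apply, Fin.sum_univ_two, m01, m10] at h00 h11
    ext i j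
    fin_cases i <;> fin_cases j <;> simp [m01, m10, cube _ h00, cube _ h11]
  have hMc' : (mat y).submatrix e03 e03 = 1 := hMc
  obtain ⟨x, hx⟩ : y ∈ (blk (F := F) (q := 3) (sh (m := 2) (n := 4) 1 (by omega))).range := by
    refine mem_range_blk _ y fun k hk => ?_
    obtain ⟨a, rfl⟩ : k ∈ Set.range e03 := by
      rw [mem_range_sh] at hk
      fin_cases k <;> simp [e03, Fin.exists_fin_two] at hk ⊢
    refine ⟨by simpa using congrFun (congrFun hMc' a) a, fun j hj => ?_⟩
    by_cases hj' : j ∈ Set.range e03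
    · obtain ⟨b, rfl⟩ := hj'
      have hab : a ≠ b := fun e => hj (by rw [e])
      exact ⟨by simpa [hab] using congrFun (congrFun hMc' a) b,
        by simpa [hab.symm] using congrFun (congrFun hMc' b) a⟩
    · refine ⟨h03 a j hj', ?_⟩
      obtain ⟨b, rfl⟩ : j ∈ Set.range (sh (m := 2) (n := 4) 1 (by omega)) := by
        rw [mem_range_sh]
        fin_cases j <;> simp [e03, Fin.exists_fin_two] at hj' ⊢
      exact h12 b _ ⟨a, rfl⟩
  exact ⟨x, by rw [hx, hy]⟩

end Standard

/-- The standard case. -/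
theorem exists_hom_std {T S : ↥(Cfsg.SU 4 F 3)} (hT : IsInv D.hF D.g (D.φ.comp lo) T)
    (hS : IsInv D.hF D.g (D.φ.comp hi) S) (hTd : mat T = Matrix.diagonal (dT F))
    (hSd : mat S = Matrix.diagonal (dS F)) : ∃ f : ↥(Cfsg.SU 4 F 3) →* G,
    (∀ a, f (blk (sh 0 (by omega)) a) = D.φ a) ∧ ∀ a, f (blk (sh 1 (by omega)) a) = D.ψ a := by
  classical
  have hF := D.hF
  obtain ⟨α₀, h0⟩ := D.exists_alpha_zero hT hS hTd hSd
  obtain ⟨α₁, h1⟩ := D.exists_alpha_one hT hS hTd hSd
  obtain ⟨α₂, h2⟩ := D.exists_alpha_two hT hS hTd hSd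
  have gT := hT.image hF D.hg D.r0
  have gS := hS.image hF D.hg D.r1
  have hfix : ∀ s : ↥(Cfsg.SU 2 F 3), mat s 0 1 = 0 → w hF * s * (w hF)⁻¹ = s := fun s hs =>
    mul_inv_eq_iff_eq_mul.2 (su_two_ext hF
      (by simp [(mul_entries hF _ _).1, mat_w hF, hs, mul_comm])
      (by simp [(mul_entries hF _ _).2, mat_w hF, hs]))
  -- the transition automorphisms preserve the diagonal torus
  have dia : ∀ (ι : Fin 2 ↪ Fin 4) (X : ↥(Cfsg.SU 4 F 3)) (d : Fin 4 → F) (a : ↥(Cfsg.SU 2 F 3)) (k : Fin 4),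
      mat X = Matrix.diagonal d → k ∉ Set.range ι → d k ≠ 0 → d (ι 0) ≠ d (ι 1) →
      Commute (D.g X) (D.g (blk ι a)) → mat a 0 1 = 0 := by
    intro ι X d a k hX hk hdk hd hc
    obtain ⟨c, -, h⟩ := D.hg.eq_smul (a := X * blk ι a) (b := blk ι a * X) (by rw [map_mul, map_mul, hc.eq])
    rw [mat_mul', mat_mul', hX] at h
    have e := congrFun (congrFun h k) k
    simp [Matrix.diagonal_mul, Matrix.mul_diagonal, (mat_blk_off ι a hk k).1] at e
    have hc1 : c = 1 := mul_right_cancel₀ hdk (by linear_combination -e)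
    have e' := congrFun (congrFun h (ι 0)) (ι 1)
    simp [Matrix.diagonal_mul, Matrix.mul_diagonal, mat_blk, hc1] at e'
    exact (mul_eq_zero.1 (by linear_combination e' : (d (ι 0) - d (ι 1)) * mat a 0 1 = 0)).resolve_left
      (sub_ne_zero.2 hd)
  have d0 : ∀ s, mat s 0 1 = 0 → mat (α₀ s) 0 1 = 0 := fun s hs => by
    refine dia (sh 0 (by omega)) S (dS F) _ 3 hSd (by rw [mem_range_sh]; simp) (by simp [dS])
      (by simpa [dS, sh] using (neg_one_ne hF).symm) ?_
    rw [h0, gS]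
    have := (hi_n1 hF s).1
    rw [hfix s hs] at this
    exact (show Commute (hi (n1 hF)) (lo s) from this).map D.φ
  have d1 : ∀ s, mat s 0 1 = 0 → mat (α₁ s) 0 1 = 0 := fun s hs => by
    refine dia (sh 1 (by omega)) T (dT F) _ 3 hTd (by rw [mem_range_sh]; simp) (by simp [dT])
      (by
        rw [show sh (m := 2) (n := 4) 1 (by omega) 0 = (1 : Fin 4) from rfl,
          show sh (m := 2) (n := 4) 1 (by omega) 1 = (2 : Fin 4) from rfl]
        simpa [dT] using neg_one_ne hF) ?_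
    rw [h1, gT]
    have := (hi_n1 hF s).2
    rw [hfix s hs] at this
    exact (show Commute (lo (n1 hF)) (hi s) from this).map D.φ
  have d2 : ∀ s, mat s 0 1 = 0 → mat (α₂ s) 0 1 = 0 := fun s hs => by
    refine dia (sh 2 (by omega)) S (dS F) _ 0 hSd (by rw [mem_range_sh]; simp) (by simp [dS])
      (by
        rw [show sh (m := 2) (n := 4) 2 (by omega) 0 = (2 : Fin 4) from rfl,
          show sh (m := 2) (n := 4) 2 (by omega) 1 = (3 : Fin 4) from rfl]
        simpa [dS] using neg_one_ne hF) ?_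
    rw [h2, gS, MonoidHom.comp_apply, D.agree']
    have := (hi_n1 hF s).2
    rw [hfix s hs] at this
    exact (show Commute (lo (n1 hF)) (hi s) from this).map D.ψ
  obtain ⟨ν₀, σ, hν₀, hm₀⟩ := Quat.exists_monomial hF α₀ d0
  obtain ⟨ν₁, σ₁, hν₁, hm₁⟩ := Quat.exists_monomial hF α₁ d1
  obtain ⟨ν₂, σ₂, hν₂, hm₂⟩ := Quat.exists_monomial hF α₂ d2
  -- the field automorphisms agree
  have same : ∀ (i : ℕ) (hi' : i + 3 ≤ 4) (θ θ' : MulAut ↥(Cfsg.SU 2 F 3)) (χ : ↥(Cfsg.SU 3 F 3) →* G) (ν ν' : F)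
      (τ τ' : F ≃+* F), (∀ s, D.g (blk (sh i (by omega)) (θ s)) = χ (lo s)) →
      (∀ s, D.g (blk (sh (i + 1) (by omega)) (θ' s)) = χ (Cfsg.Lib.Phan.hi s)) → ν ^ (3 + 1) = 1 →
      (∀ s, mat (θ s) 0 0 = τ (mat s 0 0) ∧ mat (θ s) 0 1 = ν * τ (mat s 0 1)) →
      (∀ s, mat (θ' s) 0 0 = τ' (mat s 0 0) ∧ mat (θ' s) 0 1 = ν' * τ' (mat s 0 1)) → τ' = τ := by
    intro i hi' θ θ' χ ν ν' τ τ' hθ hθ' hν hm hm'
    obtain ⟨k', -, hb, hconj, -⟩ := exists_torus_conj hF (k := v hF) (mat_w hF).2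
    obtain ⟨c, -, h⟩ := D.hg.eq_smul (a := blk (sh (i + 1) (by omega)) (θ' (w hF)) * blk (sh i (by omega)) (θ (v hF)))
      (b := blk (sh i (by omega)) (θ k') * blk (sh (i + 1) (by omega)) (θ' (w hF)))
      (by rw [map_mul, map_mul, hθ, hθ', hθ, ← map_mul, ← map_mul, hconj])
    obtain ⟨w11, w10⟩ := su_two_entries hF (θ' (w hF))
    have ht0 : mat (θ' (w hF)) 0 1 = 0 := by rw [(hm' _).2, (mat_w hF).2, map_zero, mul_zero]
    -- the two products on the coordinates
    obtain ⟨j, hj⟩ : ∃ j : Fin 4, j ∉ Set.range (sh (m := 2) (n := 4) i (by omega)) ∧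
        j ∉ Set.range (sh (m := 2) (n := 4) (i + 1) (by omega)) := by
      obtain rfl | rfl : i = 0 ∨ i = 1 := by omega
      · exact ⟨3, by rw [mem_range_sh]; simp, by rw [mem_range_sh]; simp⟩
      · exact ⟨0, by rw [mem_range_sh]; simp, by rw [mem_range_sh]; simp⟩
    obtain ⟨hji, hji'⟩ := hj
    rw [mat_mul', mat_mul'] at h
    have ejj := congrFun (congrFun h j) j
    simp only [Matrix.smul_apply, Matrix.mul_apply, smul_eq_mul] at ejj
    simp [fun x => (mat_blk_off _ (θ (v hF)) hji x).1, fun x => (mat_blk_off _ (θ k') hji x).1,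
      fun x => (mat_blk_off _ (θ' (w hF)) hji' x).1, fun x => (mat_blk_off _ (θ (v hF)) hji x).2,
      fun x => (mat_blk_off _ (θ' (w hF)) hji' x).2, Matrix.one_apply] at ejj
    subst ejj
    rw [one_smul] at h
    have a0 : sh (m := 2) (n := 4) i (by omega) 0 ∉ Set.range (sh (m := 2) (n := 4) (i + 1) (by omega)) := by
      rw [mem_range_sh, sh_val]; simp
    have a1 : sh (m := 2) (n := 4) i (by omega) 1 = sh (m := 2) (n := 4) (i + 1) (by omega) 0 :=
      Fin.ext (by simp [sh_val])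
    have e01 := congrFun (congrFun h (sh (m := 2) (n := 4) i (by omega) 0)) (sh (m := 2) (n := 4) i (by omega) 1)
    simp only [Matrix.mul_apply] at e01
    rw [Finset.sum_eq_single (sh (m := 2) (n := 4) i (by omega) 0), Finset.sum_eq_single
      (sh (m := 2) (n := 4) i (by omega) 1)] at e01
    rotate_left
    · intro x _ hx
      by_cases hxr : x ∈ Set.range (sh (m := 2) (n := 4) i (by omega))
      · obtain ⟨b, rfl⟩ := hxr
        fin_cases b
        · rw [show sh (m := 2) (n := 4) i (by omega) ((fun i => i) ⟨0, by omega⟩) = sh (m := 2) (n := 4) i (by omega) 0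
            from rfl, (mat_blk_off _ (θ' (w hF)) a0 _).1, Matrix.one_apply_ne, mul_zero]
          exact fun e => absurd ((sh i _).injective e) (by decide)
        · exact absurd rfl hx
      · rw [(mat_blk_off _ (θ k') hxr _).2, Matrix.one_apply_ne fun e => hxr ⟨0, e⟩, zero_mul]
    · simp
    · intro x _ hx
      rw [(mat_blk_off _ (θ' (w hF)) a0 x).1, Matrix.one_apply_ne (Ne.symm hx), zero_mul]
    · simp
    rw [(mat_blk_off _ (θ' (w hF)) a0 _).1, Matrix.one_apply_eq, one_mul, mat_blk, mat_blk, a1, mat_blk,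
      (hm _).2, (hm _).2, hb, (hm' _).1, (mat_v hF).2, map_one, mul_one, (mat_w hF).1, map_mul, map_pow, map_one,
      mul_one, mul_assoc] at e01
    have hν0 : ν ≠ 0 := fun e => by rw [e] at hν; simp at hν
    have e2 : (1 : F) = τ (im hF) ^ 3 * τ' (im hF) :=
      mul_left_cancel₀ hν0 (by rw [mul_one]; exact e01)
    refine aut_eq hF ?_
    have hs : τ (im hF) * τ (im hF) = -1 := by rw [← map_mul, im_sq hF, map_neg, map_one]
    linear_combination -τ (im hF) * e2 + (τ (im hF) * τ (im hF) - 1) * τ' (im hF) * (-hs)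
  obtain rfl : σ₁ = σ := same 0 (by omega) α₀ α₁ D.φ ν₀ ν₁ σ σ₁ h0 h1 hν₀ hm₀ hm₁
  obtain rfl : σ₂ = σ₁ := same 1 (by omega) α₁ α₂ D.ψ ν₁ ν₂ σ₁ σ₂
    (fun s => (h1 s).trans (D.agree' s)) h2 hν₁ hm₁ hm₂
  -- the diagonal change of basis
  let d : Fin 4 → F := ![1, ν₀ ^ 3, ν₀ ^ 3 * ν₁ ^ 3, ν₀ ^ 3 * ν₁ ^ 3 * ν₂ ^ 3]
  let d' : Fin 4 → F := ![1, ν₀, ν₀ * ν₁, ν₀ * ν₁ * ν₂]
  have hdd : ∀ i, d i * d' i = 1 := fun i => by
    fin_cases i <;> simp [d, d']
    · linear_combination hν₀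
    · linear_combination (ν₁ ^ 4) * hν₀ + hν₁
    · linear_combination (ν₁ ^ 4 * ν₂ ^ 4) * hν₀ + (ν₂ ^ 4) * hν₁ + hν₂
  have hd3 : ∀ i, d i * d i ^ 3 = 1 := fun i => by
    fin_cases i <;> simp [d]
    · linear_combination (ν₀ ^ 8 + ν₀ ^ 4 + 1) * hν₀
    · linear_combination (ν₀ ^ 8 + ν₀ ^ 4 + 1) * ν₁ ^ 12 * hν₀ + (ν₁ ^ 8 + ν₁ ^ 4 + 1) * hν₁
    · linear_combination (ν₀ ^ 8 + ν₀ ^ 4 + 1) * (ν₁ ^ 12 * ν₂ ^ 12) * hν₀ +
        (ν₁ ^ 8 + ν₁ ^ 4 + 1) * ν₂ ^ 12 * hν₁ + (ν₂ ^ 8 + ν₂ ^ 4 + 1) * hν₂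
  let δ : GL (Fin 4) F := ⟨Matrix.diagonal d, Matrix.diagonal d',
    by rw [Matrix.diagonal_mul_diagonal, ← Matrix.diagonal_one]; exact congrArg _ (funext hdd),
    by rw [Matrix.diagonal_mul_diagonal, ← Matrix.diagonal_one]
       exact congrArg _ (funext fun i => (mul_comm _ _).trans (hdd i))⟩
  have hδ : δ ∈ Cfsg.GU 4 F 3 := fun y z => by
    show Cfsg.hermForm 4 F 3 (Matrix.diagonal d *ᵥ y) (Matrix.diagonal d *ᵥ z) = _
    simp only [Cfsg.hermForm, Matrix.mulVec_diagonal]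
    refine Finset.sum_congr rfl fun i _ => ?_
    linear_combination (y i * z i ^ 3) * hd3 i
  let B : MulAut ↥(Cfsg.SU 4 F 3) := AutPSU.cnj ⟨δ, hδ⟩ * AutPSU.frobU σ₂
  refine ⟨D.g.comp B.toMonoidHom, ?_⟩
  have key : ∀ (i : ℕ) (hi' : i + 2 ≤ 4) (θ : MulAut ↥(Cfsg.SU 2 F 3)) (ν : F), ν ^ (3 + 1) = 1 →
      d ⟨i, by omega⟩ * d' ⟨i + 1, by omega⟩ = ν →
      (∀ s, mat (θ s) 0 0 = σ₂ (mat s 0 0) ∧ mat (θ s) 0 1 = ν * σ₂ (mat s 0 1)) →
      ∀ s, B (blk (sh i hi') s) = blk (sh i hi') (θ s) := by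
    intro i hi' θ ν hν hd hm s
    refine mat_ext ?_
    have hB' : mat (B (blk (sh i hi') s)) =
        Matrix.diagonal d * (mat (blk (sh i hi') s)).map σ₂ * Matrix.diagonal d' := rfl
    rw [hB']
    ext x y
    rw [Matrix.mul_diagonal, Matrix.diagonal_mul, Matrix.map_apply]
    obtain ⟨s11, s10⟩ := su_two_entries hF s
    obtain ⟨t11, t10⟩ := su_two_entries hF (θ s)
    by_cases hx : x ∈ Set.range (sh (m := 2) (n := 4) i hi')
    · by_cases hy : y ∈ Set.range (sh (m := 2) (n := 4) i hi')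
      · obtain ⟨a, rfl⟩ := hx; obtain ⟨b, rfl⟩ := hy
        rw [mat_blk, mat_blk]
        have e0 : sh (m := 2) (n := 4) i hi' 0 = ⟨i, by omega⟩ := Fin.ext (by simp [sh_val])
        have e1 : sh (m := 2) (n := 4) i hi' 1 = ⟨i + 1, by omega⟩ := Fin.ext (by simp [sh_val])
        have hrev : d ⟨i + 1, by omega⟩ * d' ⟨i, by omega⟩ = ν ^ 3 := by
          linear_combination (-(d ⟨i + 1, by omega⟩ * d' ⟨i, by omega⟩)) * hν +
            (ν ^ 3) * (d ⟨i + 1, by omega⟩ * d' ⟨i + 1, by omega⟩) * hdd ⟨i, by omega⟩ +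
            (ν ^ 3) * hdd ⟨i + 1, by omega⟩ -
            (d ⟨i + 1, by omega⟩ * d' ⟨i, by omega⟩ * ν ^ 3) * hd
        fin_cases a <;> fin_cases b <;>
          simp only [Fin.zero_eta, Fin.mk_one, e0, e1, t11, t10, s11, s10, (hm s).1, (hm s).2, map_neg, map_pow,
            mul_pow]
        · linear_combination (σ₂ (mat s 0 0)) * hdd ⟨i, by omega⟩
        · linear_combination (σ₂ (mat s 0 1)) * hd
        · linear_combination (-(σ₂ (mat s 0 1) ^ 3)) * hrev
        · linear_combination (σ₂ (mat s 0 0) ^ 3) * hdd ⟨i + 1, by omega⟩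
      · rw [(mat_blk_off _ s hy x).2, (mat_blk_off _ (θ s) hy x).2, Matrix.one_apply_ne (fun e : x = y => hy (e ▸ hx)),
          map_zero, mul_zero, zero_mul]
    · rw [(mat_blk_off _ s hx y).1, (mat_blk_off _ (θ s) hx y).1]
      by_cases hxy : x = y
      · subst hxy; simp [hdd]
      · simp [Matrix.one_apply_ne hxy]
  have k0 := key 0 (by omega) α₀ ν₀ hν₀ (by simp [d, d']) hm₀
  have k1 := key 1 (by omega) α₁ ν₁ hν₁ (by simp [d, d']; linear_combination ν₁ * hν₀) hm₁
  have k2 := key 2 (by omega) α₂ ν₂ hν₂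
    (by simp [d, d']; linear_combination (ν₁ ^ 4 * ν₂) * hν₀ + ν₂ * hν₁) hm₂
  have h2' : ∀ s, D.g (blk (sh 2 (by omega)) (α₂ s)) = D.ψ (Cfsg.Lib.Phan.hi s) := h2
  constructor <;> intro a
  · refine DFunLike.congr_fun (MonoidHom.eq_of_eqOn_top (f := (D.g.comp B.toMonoidHom).comp (blk (sh 0 (by omega))))
      (g := D.φ) fun x _ => ?_) a
    refine (show adjSub 3 F 3 ≤ MonoidHom.eqLocus ((D.g.comp B.toMonoidHom).comp (blk (sh 0 (by omega)))) D.φ from
      iSup₂_le fun i hi' => ?_) (by rw [adjSub_eq_top hF le_rfl 3 (by omega)]; exact Subgroup.mem_top x)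
    rintro _ ⟨s, rfl⟩
    show D.g (B (blk (sh 0 _) (blk (sh i hi') s))) = D.φ (blk (sh i hi') s)
    obtain rfl | rfl : i = 0 ∨ i = 1 := by omega
    · rw [blk_sh, k0, h0]
    · rw [blk_sh, k1, h1]
  · refine DFunLike.congr_fun (MonoidHom.eq_of_eqOn_top (f := (D.g.comp B.toMonoidHom).comp (blk (sh 1 (by omega))))
      (g := D.ψ) fun x _ => ?_) a
    refine (show adjSub 3 F 3 ≤ MonoidHom.eqLocus ((D.g.comp B.toMonoidHom).comp (blk (sh 1 (by omega)))) D.ψ from
      iSup₂_le fun i hi' => ?_) (by rw [adjSub_eq_top hF le_rfl 3 (by omega)]; exact Subgroup.mem_top x)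
    rintro _ ⟨s, rfl⟩
    show D.g (B (blk (sh 1 _) (blk (sh i hi') s))) = D.ψ (blk (sh i hi') s)
    obtain rfl | rfl : i = 0 ∨ i = 1 := by omega
    · rw [blk_sh, k1, h1, D.agree']
    · rw [blk_sh, k2, h2']
/-- The two maps come from one map of `SU 4`. -/
theorem exists_hom : ∃ f : ↥(Cfsg.SU 4 F 3) →* G,
    (∀ a, f (blk (sh 0 (by omega)) a) = D.φ a) ∧ ∀ a, f (blk (sh 1 (by omega)) a) = D.ψ a := by
  obtain ⟨D', T, S, hφ, hψ, -, hT, hS, hTd, hSd⟩ := D.exists_std
  rw [← hφ, ← hψ]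
  exact D'.exists_hom_std hT hS hTd hSd

end Data

end Cfsg.Lib.Phan.Base
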