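import Cfsg.Agent.Lib.Phan.BlockTwo

/-!
# Two neighbouring maps inside an image of `SU 4` over the field with four elements

The three commuting elements of order three have joint eigenvectors permuted by the three involutions as the
vertices of a tetrahedron; they form an orthonormal frame in which both maps are standard up to a field automorphism.
-/

set_option autoImplicit false
set_option linter.unusedSectionVars false
set_option linter.style.haveILetI false

namespace Cfsg.Lib.Phan.Two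

open Cfsg Cfsg.Lib.Linear Cfsg.Lib.Linear.Herm Cfsg.Lib.UnitMult.Step Cfsg.Lib.Phan
open scoped Matrix

/-- The exponents of a joint eigenvector. -/
abbrev Chi : Type := Fin 3 × Fin 3 × Fin 3

/-- The action of the three involutions on exponents. -/
def refl0 (x : Chi) : Chi := (-x.1, x.1 + x.2.1, x.2.2)

/-- The second reflection. -/
def refl1 (x : Chi) : Chi := (x.1 + x.2.1, -x.2.1, x.2.1 + x.2.2)

/-- The third reflection. -/
def refl2 (x : Chi) : Chi := (x.1, x.2.1 + x.2.2, -x.2.2)

/-- One step of the orbit computation. -/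
def grow (l : List Chi) : List Chi := (l ++ l.map refl0 ++ l.map refl1 ++ l.map refl2).dedup

/-- The orbit of exponents, as far as it is needed. -/
def orb : ℕ → Chi → List Chi
  | 0, x => [x]
  | n + 1, x => grow (orb n x)

set_option maxRecDepth 100000 in
theorem orb_cases : ∀ x : Chi, x.1 ≠ 0 →
    5 ≤ (orb 3 x).length ∨ (1, 0, 0) ∈ orb 3 x ∨ (2, 0, 0) ∈ orb 3 x := by
  decide +kernel

theorem nodup_orb : ∀ (n : ℕ) (x : Chi), (orb n x).Nodup
  | 0, x => List.nodup_singleton x
  | _ + 1, _ => List.nodup_dedup _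

variable {F : Type*} [Field F] [Fintype F] (hF : Fintype.card F = 2 ^ 2)

set_option quotPrecheck false in
local notation "G₃" => ↥(Cfsg.SU 3 F 2)

set_option quotPrecheck false in
local notation "G₄" => ↥(Cfsg.SU 4 F 2)

include hF

/-- The powers of the cube root. -/
noncomputable def pw (a : Fin 3) : F := ![1, om hF, om hF ^ 2] a

theorem pw_zero : pw hF 0 = 1 := rfl

theorem pw_add (a b : Fin 3) : pw hF (a + b) = pw hF a * pw hF b := by
  fin_cases a <;> fin_cases b <;> simp [pw]
  · ring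
  · linear_combination -om_cube hF
  · linear_combination -om_cube hF
  · linear_combination -om hF * om_cube hF

theorem pw_ne_zero (a : Fin 3) : pw hF a ≠ 0 := by
  fin_cases a <;> simp [pw, om_ne_zero hF]

theorem pw_injective : Function.Injective (pw hF) := by
  intro a b h
  fin_cases a <;> fin_cases b <;>
    simp [pw, om_ne_one hF, (om_ne_one hF).symm, om2_ne_one hF, (om2_ne_one hF).symm, om2_ne_om hF,
      (om2_ne_om hF).symm] at h ⊢

theorem frob_pw (a : Fin 3) : frob hF (pw hF a) = pw hF (-a) := by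
  rw [frob_apply]
  fin_cases a <;> simp [pw]
  linear_combination om hF * om_cube hF

/-- The projection to an eigenspace of an element of order three. -/
noncomputable def proj (D : G₄) (a : Fin 3) : (Fin 4 → F) →ₗ[F] (Fin 4 → F) :=
  LinearMap.id + pw hF (-a) • Matrix.mulVecLin (mat D) + pw hF a • Matrix.mulVecLin (mat (D * D))

theorem proj_apply (D : G₄) (a : Fin 3) (v : Fin 4 → F) :
    proj hF D a v = v + pw hF (-a) • act D v + pw hF a • act D (act D v) := by
  rw [← act_mul]
  rfl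

theorem proj_eigen (D : G₄) (a b : Fin 3) {v : Fin 4 → F} (h : act D v = pw hF b • v) :
    proj hF D a v = if a = b then v else 0 := by
  rw [proj_apply, h, act_smul', h, smul_smul, smul_smul, smul_smul, ← pw_add, ← pw_add, ← pw_add,
    show (v + pw hF (-a + b) • v + pw hF (a + b + b) • v) =
      (1 + pw hF (-a + b) + pw hF (a + b + b)) • v by rw [add_smul, add_smul, one_smul]]
  have h2 := two_zero hF
  have h3 := om_eq hF
  split_ifs with e
  · subst e
    rw [neg_add_cancel, show a + a + a = 0 by fin_cases a <;> rfl, pw_zero,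
      show (1 : F) + 1 + 1 = 1 by linear_combination h2, one_smul]
  · have hs : 1 + pw hF (-a + b) + pw hF (a + b + b) = 0 := by
      have hd : a + b + b = -(-a + b) := by fin_cases a <;> fin_cases b <;> rfl
      have hd0 : -a + b ≠ 0 := fun h => e (neg_add_eq_zero.1 h)
      rw [hd]
      generalize -a + b = d at hd0 ⊢
      fin_cases d
      · exact absurd rfl hd0
      · show 1 + om hF + om hF ^ 2 = 0
        linear_combination h3
      · show 1 + om hF ^ 2 + om hF = 0
        linear_combination h3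
    rw [hs, zero_smul]

theorem exists_proj (D : G₄) (hD : D * D * D = 1) {v : Fin 4 → F} (hv : v ≠ 0) :
    ∃ a, proj hF D a v ≠ 0 ∧ act D (proj hF D a v) = pw hF a • proj hF D a v := by
  have heig : ∀ a, act D (proj hF D a v) = pw hF a • proj hF D a v := by
    intro a
    rw [proj_apply]
    have e : act D (act D (act D v)) = v := by rw [← act_mul, ← act_mul, hD, act_one]
    simp only [act, Matrix.mulVec_add, Matrix.mulVec_smul, smul_add, smul_smul]
    rw [show mat D *ᵥ (mat D *ᵥ (mat D *ᵥ v)) = v from e, ← pw_add, ← pw_add, add_neg_cancel, pw_zero, one_smul,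
      show a + a = -a by fin_cases a <;> rfl]
    abel
  by_contra hno
  push Not at hno
  have hz : ∀ a, proj hF D a v = 0 := fun a => by_contra fun h => hno a h (heig a)
  refine hv ?_
  have h0 := hz 0
  have h1 := hz 1
  have h2 := hz 2
  rw [proj_apply] at h0 h1 h2
  funext x
  have e0 := congrFun h0 x
  have e1 := congrFun h1 x
  have e2 := congrFun h2 x
  simp only [show (-0 : Fin 3) = 0 from rfl, show (-1 : Fin 3) = 2 from rfl, show (-2 : Fin 3) = 1 from rfl,
    Pi.add_apply, Pi.smul_apply, smul_eq_mul, Pi.zero_apply, show pw hF 0 = 1 from rfl,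
    show pw hF 1 = om hF from rfl, show pw hF 2 = om hF ^ 2 from rfl, one_mul] at e0 e1 e2 ⊢
  linear_combination e0 + e1 + e2 - (act D v x + act D (act D v) x) * om_eq hF - v x * two_zero hF

theorem act_frobU (σ : F ≃+* F) (y : G₄) (v : Fin 4 → F) :
    act (AutPSU.frobU σ y) (σ ∘ v) = σ ∘ act y v :=
  AutPSU.mulVec_comp σ _ v

theorem comp_single (σ : F ≃+* F) (j : Fin 4) : σ ∘ (Pi.single j 1 : Fin 4 → F) = Pi.single j 1 :=
  funext fun x => by
    by_cases h : x = j
    · subst h; simp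
    · simp [Pi.single_eq_of_ne h]

theorem blk_single_range {i : ℕ} (h : i + 2 ≤ 4) (s : Cfsg.SU 2 F 2) (j : Fin 2) :
    act (blk (sh i h) s) (Pi.single (sh i h j) 1) = emb (sh i h) (fun x => mat s x j) := by
  rw [← emb_single, act_blk_emb]
  congr 1
  funext x
  simp [act]

theorem blk_single_off {i : ℕ} (h : i + 2 ≤ 4) (s : Cfsg.SU 2 F 2) {x : Fin 4} (hx : x ∉ Set.range (sh i h)) :
    act (blk (sh i h) s) (Pi.single x 1) = Pi.single x 1 := by
  funext y
  by_cases hy : y ∈ Set.range (sh i h)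
  · obtain ⟨k, rfl⟩ := hy
    rw [act_blk, Pi.single_eq_of_ne fun e => hx ⟨k, e⟩,
      show (Pi.single x 1 : Fin 4 → F) ∘ sh i h = 0 from funext fun l => Pi.single_eq_of_ne (fun e => hx ⟨l, e⟩) _]
    simp [act]
  · rw [act_blk_off _ _ _ hy]

theorem blk_dd (i : ℕ) (h : i + 2 ≤ 4) (j : Fin 4) : act (blk (sh i h) (dd hF)) (Pi.single j 1) =
    (if (j : ℕ) = i then om hF else if (j : ℕ) = i + 1 then om hF ^ 2 else 1) • Pi.single j 1 := by
  by_cases hj : j ∈ Set.range (sh i h)
  · obtain ⟨k, rfl⟩ := hj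
    have hc : (fun x => mat (dd hF) x k) =
        (if (k : ℕ) = 0 then om hF else om hF ^ 2) • (Pi.single k 1 : Fin 2 → F) := by
      funext x; rw [mat_dd]; fin_cases k <;> fin_cases x <;> simp
    rw [blk_single_range hF, hc]
    funext y
    by_cases hy : y ∈ Set.range (sh i h)
    · obtain ⟨l, rfl⟩ := hy
      rw [emb_apply]
      fin_cases k <;> fin_cases l <;> simp [sh_val, Pi.single_apply, Fin.ext_iff]
    · rw [emb_off _ _ hy, Pi.smul_apply, Pi.single_eq_of_ne fun e => hy ⟨k, e.symm⟩, smul_zero]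
  · rw [blk_single_off hF h _ hj]
    rw [mem_range_sh] at hj
    rw [if_neg (by omega), if_neg (by omega), one_smul]

theorem blk_tt_left (i : ℕ) (h : i + 2 ≤ 4) : act (blk (sh i h) (tt hF)) (Pi.single ⟨i, by omega⟩ 1) =
    Pi.single ⟨i + 1, by omega⟩ 1 := by
  rw [show (⟨i, by omega⟩ : Fin 4) = sh i h 0 from Fin.ext (by simp [sh_val]), blk_single_range hF,
    show (fun x => mat (tt hF) x 0) = (Pi.single 1 1 : Fin 2 → F) by
      funext x; rw [mat_tt]; fin_cases x <;> simp, emb_single]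
  rfl

theorem blk_tt_right (i : ℕ) (h : i + 2 ≤ 4) : act (blk (sh i h) (tt hF)) (Pi.single ⟨i + 1, by omega⟩ 1) =
    Pi.single ⟨i, by omega⟩ 1 := by
  rw [show (⟨i + 1, by omega⟩ : Fin 4) = sh i h 1 from Fin.ext (by simp [sh_val]), blk_single_range hF,
    show (fun x => mat (tt hF) x 1) = (Pi.single 0 1 : Fin 2 → F) by
      funext x; rw [mat_tt]; fin_cases x <;> simp, emb_single]
  rfl

theorem tt_dd2 : tt hF * (dd hF * dd hF) = dd hF * tt hF := by
  rw [← mul_assoc, tt_dd, mul_assoc, tt_dd, ← mul_assoc, ← mul_assoc, dd_cube, one_mul]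

/-- Two agreeing maps into `SU 4` with commuting outer blocks come from one automorphism. -/
theorem exists_aut (φ ψ : G₃ →* G₄) (agree : φ.comp hi = ψ.comp lo) (hne : φ (lo (dd hF)) ≠ 1)
    (comm : ∀ s t, Commute (φ (lo s)) (ψ (hi t))) :
    ∃ B : MulAut G₄, (∀ a, B (blk (sh 0 (by omega)) a) = φ a) ∧ ∀ a, B (blk (sh 1 (by omega)) a) = ψ a := by
  classical
  have hag : ∀ s, φ (hi s) = ψ (lo s) := fun s => DFunLike.congr_fun agree s
  -- relations in the three dimensional group
  have hc01 : lo (dd hF) * hi (dd hF) = hi (dd hF) * lo (dd hF) := by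
    refine mat_ext ?_
    rw [mat_mul' hF, mat_mul' hF, mat_lo, mat_hi, mat_dd]
    ext i j
    fin_cases i <;> fin_cases j <;> simp [Matrix.mul_apply, Fin.sum_univ_three] <;> ring
  have rlh : lo (tt hF) * hi (dd hF) = lo (dd hF) * hi (dd hF) * lo (tt hF) := by
    refine mat_ext ?_
    rw [mat_mul' hF, mat_mul' hF, mat_mul' hF, mat_lo, mat_hi, mat_lo, mat_dd, mat_tt]
    ext i j
    fin_cases i <;> fin_cases j <;> simp [Matrix.mul_apply, Fin.sum_univ_three]
    all_goals linear_combination -om_cube hF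
  have rhl : hi (tt hF) * lo (dd hF) = lo (dd hF) * hi (dd hF) * hi (tt hF) := by
    refine mat_ext ?_
    rw [mat_mul' hF, mat_mul' hF, mat_mul' hF, mat_hi, mat_hi, mat_lo, mat_dd, mat_tt]
    ext i j
    fin_cases i <;> fin_cases j <;> simp [Matrix.mul_apply, Fin.sum_univ_three]
    all_goals linear_combination -om_cube hF
  set D0 := φ (lo (dd hF)) with hD0
  set D1 := φ (hi (dd hF)) with hD1
  set D2 := ψ (hi (dd hF)) with hD2
  set T0 := φ (lo (tt hF)) with hT0
  set T1 := φ (hi (tt hF)) with hT1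
  set T2 := ψ (hi (tt hF)) with hT2
  have p0 : D0 * D0 * D0 = 1 := by rw [hD0, ← map_mul, ← map_mul, ← map_mul, ← map_mul, dd_cube, map_one, map_one]
  have p1 : D1 * D1 * D1 = 1 := by rw [hD1, ← map_mul, ← map_mul, ← map_mul, ← map_mul, dd_cube, map_one, map_one]
  have p2 : D2 * D2 * D2 = 1 := by rw [hD2, ← map_mul, ← map_mul, ← map_mul, ← map_mul, dd_cube, map_one, map_one]
  have t0 : T0 * T0 = 1 := by rw [hT0, ← map_mul, ← map_mul, tt_tt, map_one, map_one]
  have t1 : T1 * T1 = 1 := by rw [hT1, ← map_mul, ← map_mul, tt_tt, map_one, map_one]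
  have t2 : T2 * T2 = 1 := by rw [hT2, ← map_mul, ← map_mul, tt_tt, map_one, map_one]
  have c01 : D0 * D1 = D1 * D0 := by rw [hD0, hD1, ← map_mul, hc01, map_mul]
  have c12 : D1 * D2 = D2 * D1 := by rw [hD1, hD2, hag, ← map_mul, hc01, map_mul]
  have c02 : D0 * D2 = D2 * D0 := (comm _ _).eq
  have r00 : D0 * T0 = T0 * (D0 * D0) := by
    rw [hD0, hT0, ← map_mul, ← map_mul, ← map_mul, ← map_mul, ← map_mul, ← map_mul]
    congr 2
    exact (tt_dd2 hF).symm
  have r11 : D1 * T1 = T1 * (D1 * D1) := by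
    rw [hD1, hT1, ← map_mul, ← map_mul, ← map_mul, ← map_mul, ← map_mul, ← map_mul]
    congr 2
    exact (tt_dd2 hF).symm
  have r22 : D2 * T2 = T2 * (D2 * D2) := by
    rw [hD2, hT2, ← map_mul, ← map_mul, ← map_mul, ← map_mul, ← map_mul, ← map_mul]
    congr 2
    exact (tt_dd2 hF).symm
  have flip : ∀ {T X Y : G₄}, T * T = 1 → T * X = Y * T → X * T = T * Y := by
    intro T X Y hT h
    have h' := congrArg (fun z => T * z * T) h
    simp only [← mul_assoc, hT, one_mul] at h'
    rw [h', mul_assoc _ T T, hT, mul_one]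
  have r01 : D1 * T0 = T0 * (D0 * D1) :=
    flip t0 (by rw [hD0, hD1, hT0, ← map_mul, rlh, map_mul, map_mul])
  have r10 : D0 * T1 = T1 * (D0 * D1) :=
    flip t1 (by rw [hD0, hD1, hT1, ← map_mul, rhl, map_mul, map_mul])
  have r12 : D2 * T1 = T1 * (D1 * D2) :=
    flip t1 (by rw [hD1, hD2, hT1, hag, hag, ← map_mul, rlh, map_mul, map_mul])
  have r21 : D1 * T2 = T2 * (D1 * D2) :=
    flip t2 (by rw [hD1, hD2, hT2, hag, ← map_mul, rhl, map_mul, map_mul])
  have r02 : D2 * T0 = T0 * D2 := (comm _ _).eq.symm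
  have r20 : D0 * T2 = T2 * D0 := (comm _ _).eq
  -- joint eigenvectors
  let Good : Chi → (Fin 4 → F) → Prop := fun x v => v ≠ 0 ∧ act D0 v = pw hF x.1 • v ∧
    act D1 v = pw hF x.2.1 • v ∧ act D2 v = pw hF x.2.2 • v
  have tne : ∀ {T : G₄} {v : Fin 4 → F}, v ≠ 0 → act T v ≠ 0 := fun {T v} hv h => hv (by
    rw [← act_inv_act T v, h]; exact Matrix.mulVec_zero _)
  have move : ∀ {D T X : G₄} {v : Fin 4 → F} {c : F}, D * T = T * X → act X v = c • v →
      act D (act T v) = c • act T v := fun {D T X v c} h hX => by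
    rw [← act_mul, h, act_mul, hX, act_smul']
  have two : ∀ {D E : G₄} {v : Fin 4 → F} {a b : Fin 3}, act D v = pw hF a • v → act E v = pw hF b • v →
      act (D * E) v = pw hF (a + b) • v := fun {D E v a b} h h' => by
    rw [act_mul, h', act_smul', h, smul_smul, ← pw_add, add_comm]
  have neg2 : ∀ a : Fin 3, a + a = -a := fun a => by fin_cases a <;> rfl
  have g0 : ∀ {x v}, Good x v → Good (refl0 x) (act T0 v) := fun {x v} ⟨h, a, b, c⟩ =>
    ⟨tne h, by simpa [refl0, neg2] using move r00 (two a a), move r01 (two a b), move r02 c⟩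
  have g1 : ∀ {x v}, Good x v → Good (refl1 x) (act T1 v) := fun {x v} ⟨h, a, b, c⟩ =>
    ⟨tne h, move r10 (two a b), by simpa [refl1, neg2] using move r11 (two b b), move r12 (two b c)⟩
  have g2 : ∀ {x v}, Good x v → Good (refl2 x) (act T2 v) := fun {x v} ⟨h, a, b, c⟩ =>
    ⟨tne h, move r20 a, move r21 (two b c), by simpa [refl2, neg2] using move r22 (two c c)⟩
  have gorb : ∀ n x v, Good x v → ∀ y ∈ orb n x, ∃ w, Good y w := by
    intro n
    induction n with
    | zero => intro x v hv y hy; rw [orb, List.mem_singleton] at hy; exact ⟨v, hy ▸ hv⟩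
    | succ n ih =>
      intro x v hv y hy
      simp only [orb, grow, List.mem_dedup, List.mem_append, List.mem_map] at hy
      rcases hy with ((hy | ⟨z, hz, rfl⟩) | ⟨z, hz, rfl⟩) | ⟨z, hz, rfl⟩
      · exact ih x v hv y hy
      all_goals obtain ⟨w, hw⟩ := ih x v hv z hz
      · exact ⟨_, g0 hw⟩
      · exact ⟨_, g1 hw⟩
      · exact ⟨_, g2 hw⟩
  let P : Chi → (Fin 4 → F) →ₗ[F] (Fin 4 → F) := fun x =>
    (proj hF D2 x.2.2).comp ((proj hF D1 x.2.1).comp (proj hF D0 x.1))
  have hP : ∀ {x y v}, Good y v → P x v = if x = y then v else 0 := by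
    rintro ⟨a, b, c⟩ ⟨a', b', c'⟩ v ⟨-, ha, hb, hc⟩
    show proj hF D2 c (proj hF D1 b (proj hF D0 a v)) = _
    rw [proj_eigen hF D0 a a' ha]
    by_cases e1 : a = a'
    · rw [if_pos e1, proj_eigen hF D1 b b' hb]
      by_cases e2 : b = b'
      · rw [if_pos e2, proj_eigen hF D2 c c' hc]
        simp [e1, e2]
      · simp [e2]
    · simp [e1]
  have indep : ∀ {k : ℕ} (x : Fin k → Chi) (v : Fin k → (Fin 4 → F)), Function.Injective x →
      (∀ i, Good (x i) (v i)) → LinearIndependent F v := by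
    intro k x v hx hv
    rw [Fintype.linearIndependent_iff]
    intro c hc j
    have h := congrArg (P (x j)) hc
    rw [map_sum, map_zero, Finset.sum_eq_single j (fun i _ hij => by
      rw [map_smul, hP (hv i), if_neg fun e => hij (hx e).symm, smul_zero]) (fun hj => absurd (Finset.mem_univ j) hj),
      map_smul, hP (hv j), if_pos rfl] at h
    exact (smul_eq_zero.1 h).resolve_right (hv j).1
  obtain ⟨u, hu⟩ : ∃ u, act D0 u ≠ u := by
    by_contra h
    push Not at h
    exact hne (act_ext fun i => by rw [h, act_one])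
  obtain ⟨x, v, hx, hv⟩ : ∃ x v, x.1 ≠ 0 ∧ Good x v := by
    obtain ⟨a, ha, hv0, hva⟩ : ∃ a : Fin 3, a ≠ 0 ∧ proj hF D0 a u ≠ 0 ∧
        act D0 (proj hF D0 a u) = pw hF a • proj hF D0 a u := by
      have hw : act D0 u - u ≠ 0 := sub_ne_zero.2 hu
      obtain ⟨a, ha, hae⟩ := exists_proj hF D0 p0 hw
      have hlin : proj hF D0 a (act D0 u - u) = (pw hF a - 1) • proj hF D0 a u := by
        rw [map_sub, sub_smul, one_smul]
        congr 1
        rw [proj_apply, proj_apply]
        have e : act D0 (act D0 (act D0 u)) = u := by rw [← act_mul, ← act_mul, p0, act_one]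
        rw [e, smul_add, smul_add, smul_smul, smul_smul, ← pw_add, ← pw_add, add_neg_cancel, pw_zero, one_smul,
          neg2]
        abel
      have h0 : pw hF a ≠ 1 := fun e => ha (by rw [hlin, e, sub_self, zero_smul])
      refine ⟨a, fun e => h0 (by rw [e, pw_zero]), fun e => ha (by rw [hlin, e, smul_zero]), ?_⟩
      rw [hlin, act_smul', smul_comm] at hae
      exact smul_right_injective _ (sub_ne_zero.2 h0) hae
    have keep : ∀ {D E : G₄} {c : F} (b : Fin 3) {w : Fin 4 → F}, D * E = E * D → act D w = c • w →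
        act D (proj hF E b w) = c • proj hF E b w := by
      intro D E c b w hDE hw
      have h1 : act D (act E w) = c • act E w := move hDE hw
      have h2 : act D (act E (act E w)) = c • act E (act E w) := move hDE h1
      rw [proj_apply]
      simp only [act, Matrix.mulVec_add, Matrix.mulVec_smul] at h1 h2 hw ⊢
      rw [hw, h1, h2, smul_add, smul_add, smul_comm c, smul_comm c]
    obtain ⟨b, hb, hbe⟩ := exists_proj hF D1 p1 hv0
    obtain ⟨c, hc, hce⟩ := exists_proj hF D2 p2 hb
    exact ⟨(a, b, c), _, ha, hc, keep c c02 (keep b c01 hva), keep c c12 hbe, hce⟩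
  obtain ⟨e, he, w, hw⟩ : ∃ e : Fin 3, e ≠ 0 ∧ ∃ w, Good (e, 0, 0) w := by
    rcases orb_cases x hx with h | h | h
    · exfalso
      choose w hw using fun i : Fin (orb 3 x).length => gorb 3 x v hv _ ((orb 3 x).get_mem i)
      have := (indep _ w (List.nodup_iff_injective_get.1 (nodup_orb 3 x)) hw).fintype_card_le_finrank
      rw [Module.finrank_fin_fun, Fintype.card_fin] at this
      omega
    · exact ⟨1, by decide, gorb 3 x v hv _ h⟩
    · exact ⟨2, by decide, gorb 3 x v hv _ h⟩
  -- the frame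
  let X : Fin 4 → Chi := ![(e, 0, 0), refl0 (e, 0, 0), refl1 (refl0 (e, 0, 0)), refl2 (refl1 (refl0 (e, 0, 0)))]
  let W : Fin 4 → (Fin 4 → F) := ![w, act T0 w, act T1 (act T0 w), act T2 (act T1 (act T0 w))]
  have hW : ∀ i, Good (X i) (W i) := fun i => by
    fin_cases i
    exacts [hw, g0 hw, g1 (g0 hw), g2 (g1 (g0 hw))]
  have hXe : ∀ d : Fin 3, d ≠ 0 → Function.Injective
      (![(d, 0, 0), refl0 (d, 0, 0), refl1 (refl0 (d, 0, 0)), refl2 (refl1 (refl0 (d, 0, 0)))] : Fin 4 → Chi) := by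
    decide
  have hXi : Function.Injective X := hXe e he
  have hind := indep X W hXi hW
  have horth : ∀ {y z v' v''}, Good y v' → Good z v'' → y ≠ z → hB hF 4 v' v'' = 0 := by
    rintro ⟨a, b, c⟩ ⟨a', b', c'⟩ v' v'' ⟨-, h0, h1', h2'⟩ ⟨-, k0, k1, k2⟩ hne'
    have one : ∀ {D : G₄} {s t : Fin 3}, act D v' = pw hF s • v' → act D v'' = pw hF t • v'' → s ≠ t →
        hB hF 4 v' v'' = 0 := fun {D s t} h k hst => by
      have e' := form_act hF D v' v''
      rw [h, k] at e'
      simp only [map_smul, LinearMap.map_smulₛₗ, LinearMap.smul_apply, smul_eq_mul, frob_pw] at e'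
      rw [← mul_assoc, ← pw_add] at e'
      have : pw hF (t + -s) ≠ 1 := fun h1'' => hst (by
        rw [← pw_zero hF] at h1''
        exact (sub_eq_zero.1 (by rw [sub_eq_add_neg]; exact pw_injective hF h1'')).symm)
      exact (mul_eq_zero.1 (show (pw hF (t + -s) - 1) * hB hF 4 v' v'' = 0 by
        linear_combination e')).resolve_left (sub_ne_zero.2 this)
    by_cases e0 : a = a'
    · by_cases e1 : b = b'
      · by_cases e2 : c = c'
        · exact absurd (by rw [e0, e1, e2]) hne'
        · exact one h2' k2 e2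
      · exact one h1' k1 e1
    · exact one h0 k0 e0
  have hspan : Submodule.span F (Set.range W) = ⊤ :=
    hind.span_eq_top_of_card_eq_finrank (by rw [Module.finrank_fin_fun, Fintype.card_fin])
  have hunit : hB hF 4 w w = 1 := by
    have hne0 : hB hF 4 w w ≠ 0 := by
      intro h0
      refine hw.1 ((hB_nondegenerate hF 4).1 w fun y => ?_)
      have hy : y ∈ Submodule.span F (Set.range W) := by rw [hspan]; trivial
      obtain ⟨c, rfl⟩ := (Submodule.mem_span_range_iff_exists_fun F).1 hy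
      rw [map_sum]
      refine Finset.sum_eq_zero fun i _ => ?_
      rw [map_smul]
      by_cases hi : i = 0
      · subst hi; rw [show W 0 = w from rfl, h0, smul_zero]
      · rw [horth hw (hW i) (fun h => hi (hXi h.symm)), smul_zero]
    have h := self_fix hF (v := w)
    rw [frob_apply] at h
    exact mul_left_cancel₀ hne0 (by linear_combination h)
  have hWu : ∀ i, hB hF 4 (W i) (W i) = 1 := fun i => by
    fin_cases i
    exacts [hunit, (form_act hF _ _ _).trans hunit, ((form_act hF _ _ _).trans (form_act hF _ _ _)).trans hunit,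
      (((form_act hF _ _ _).trans (form_act hF _ _ _)).trans (form_act hF _ _ _)).trans hunit]
  let M : Matrix (Fin 4) (Fin 4) F := Matrix.of fun i j => W j i
  have hMv : ∀ y : Fin 4 → F, M *ᵥ y = ∑ j, y j • W j := fun y => by
    funext i
    simp [M, Matrix.mulVec, dotProduct, Fin.sum_univ_four, mul_comm]
  have hWW : ∀ i j, hB hF 4 (W i) (W j) = if i = j then 1 else 0 := fun i j => by
    by_cases hij : i = j
    · subst hij; rw [if_pos rfl, hWu]
    · rw [if_neg hij, horth (hW i) (hW j) fun h => hij (hXi h)]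
  have hpres : ∀ y z, Cfsg.hermForm 4 F 2 (M *ᵥ y) (M *ᵥ z) = Cfsg.hermForm 4 F 2 y z := by
    intro y z
    rw [← hB_apply hF, ← hB_apply hF, hMv, hMv]
    simp only [map_sum, LinearMap.sum_apply, map_smul, LinearMap.map_smulₛₗ, LinearMap.smul_apply, hWW,
      smul_eq_mul]
    simp [Fin.sum_univ_four, hB_apply, Cfsg.hermForm, frob_apply hF]
  have hinj : Function.Injective M.mulVec := by
    intro y z hyz
    have hd : M *ᵥ (y - z) = 0 := by rw [Matrix.mulVec_sub, hyz, sub_self]
    rw [hMv] at hd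
    funext i
    exact sub_eq_zero.1 (Fintype.linearIndependent_iff.1 hind _ hd i)
  have hMu : IsUnit M.det := by
    rw [← Matrix.isUnit_iff_isUnit_det]
    exact Matrix.mulVec_injective_iff_isUnit.1 hinj
  let γ : ↥(Cfsg.GU 4 F 2) := ⟨Matrix.GeneralLinearGroup.mk'' M hMu, hpres⟩
  have hγ : ∀ j, γ.1.1 *ᵥ Pi.single j 1 = W j := fun j => by
    show M *ᵥ _ = _
    funext i
    simp [M]
  -- eigenvectors are multiples of frame vectors
  have hfix : ∀ {T : G₄} (j : Fin 4), T * T = 1 → Good (X j) (act T (W j)) → act T (W j) = W j := by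
    intro T j hT hg
    have hy : act T (W j) ∈ Submodule.span F (Set.range W) := by rw [hspan]; trivial
    obtain ⟨c, hc⟩ := (Submodule.mem_span_range_iff_exists_fun F).1 hy
    have hcj : ∀ i, i ≠ j → c i = 0 := fun i hij => by
      have h := congrArg (hB hF 4 (W i)) hc
      rw [map_sum, horth (hW i) hg fun h => hij (hXi h)] at h
      simpa [hWW] using h
    have hTv : act T (W j) = c j • W j := by
      rw [← hc]
      exact Finset.sum_eq_single j (fun i _ hij => by rw [hcj i hij, zero_smul]) fun h => absurd (Finset.mem_univ j) h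
    have h2 := congrArg (act T) hTv
    rw [← act_mul, hT, act_one, act_smul', hTv, smul_smul] at h2
    have hcc : (c j * c j - 1) • W j = 0 := by rw [sub_smul, one_smul, ← h2, sub_self]
    have hc1 : c j = 1 := sub_eq_zero.1 (mul_self_eq_zero.1 (by
      linear_combination (smul_eq_zero.1 hcc).resolve_right (hW j).1 + (1 - c j) * two_zero hF :
        (c j - 1) * (c j - 1) = 0))
    rw [hTv, hc1, one_smul]
  have comb : ∀ d : Fin 3,
      let Y : Fin 4 → Chi := ![(d, 0, 0), refl0 (d, 0, 0), refl1 (refl0 (d, 0, 0)), refl2 (refl1 (refl0 (d, 0, 0)))]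
      refl0 (Y 2) = Y 2 ∧ refl0 (Y 3) = Y 3 ∧ refl1 (Y 0) = Y 0 ∧ refl1 (Y 3) = Y 3 ∧ refl2 (Y 0) = Y 0 ∧
        refl2 (Y 1) = Y 1 ∧ (∀ j : Fin 4, (Y j).1 = (if j = 0 then d else if j = 1 then -d else 0) ∧
          (Y j).2.1 = (if j = 1 then d else if j = 2 then -d else 0) ∧
          (Y j).2.2 = (if j = 2 then d else if j = 3 then -d else 0)) := by decide
  obtain ⟨f02, f03, f10, f13, f20, f21, fY⟩ := comb e
  have gfix : ∀ {c c' y}, c = c' → Good c y → Good c' y := fun {c c' y} h hy => h ▸ hy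
  have q02 : act T0 (W 2) = W 2 := hfix 2 t0 (gfix f02 (g0 (hW 2)))
  have q03 : act T0 (W 3) = W 3 := hfix 3 t0 (gfix f03 (g0 (hW 3)))
  have q10 : act T1 (W 0) = W 0 := hfix 0 t1 (gfix f10 (g1 (hW 0)))
  have q13 : act T1 (W 3) = W 3 := hfix 3 t1 (gfix f13 (g1 (hW 3)))
  have q20 : act T2 (W 0) = W 0 := hfix 0 t2 (gfix f20 (g2 (hW 0)))
  have q21 : act T2 (W 1) = W 1 := hfix 1 t2 (gfix f21 (g2 (hW 1)))
  have inv2 : ∀ {T : G₄} {y : Fin 4 → F}, T * T = 1 → act T (act T y) = y := fun {T y} h => by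
    rw [← act_mul, h, act_one]
  -- the field automorphism
  obtain ⟨σ, hσ⟩ : ∃ σ : F ≃+* F, σ (om hF) = pw hF e := by
    revert he
    fin_cases e
    · exact fun h => absurd rfl h
    · exact fun _ => ⟨RingEquiv.refl F, rfl⟩
    · exact fun _ => ⟨sqAut hF, sqAut_om hF⟩
  have hσ2 : σ (om hF ^ 2) = pw hF (-e) := by rw [map_pow, hσ, sq, ← pw_add, neg2]
  let B : MulAut G₄ := AutPSU.cnj γ * AutPSU.frobU σ
  have hBW : ∀ (y : G₄) (j : Fin 4) (z : Fin 4 → F), act y (Pi.single j 1) = z →
      act (B y) (W j) = γ.1.1 *ᵥ (σ ∘ z) := by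
    intro y j z hz
    show act (AutPSU.cnj γ (AutPSU.frobU σ y)) (W j) = _
    refine (AutPSU.act_cnj γ _ _).trans ?_
    rw [show (γ.1⁻¹).1 *ᵥ W j = Pi.single j 1 by
      rw [← hγ, Matrix.mulVec_mulVec, Units.inv_mul, Matrix.one_mulVec]]
    congr 1
    rw [← hz, ← act_frobU hF, comp_single hF]
    rfl
  have hext : ∀ {y y' : G₄}, (∀ j, act y (W j) = act y' (W j)) → y = y' := by
    intro y y' h
    refine mat_ext (Matrix.ext_of_mulVec_single fun i => ?_)
    have hy : (Pi.single i 1 : Fin 4 → F) ∈ Submodule.span F (Set.range W) := by rw [hspan]; trivial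
    obtain ⟨c, hc⟩ := (Submodule.mem_span_range_iff_exists_fun F).1 hy
    rw [← hc, Matrix.mulVec_sum, Matrix.mulVec_sum]
    exact Finset.sum_congr rfl fun j _ => by rw [Matrix.mulVec_smul, Matrix.mulVec_smul]; exact congrArg _ (h j)
  have hswap : ∀ (i : ℕ) (h : i + 2 ≤ 4) (j : Fin 4) (k : Fin 4),
      act (blk (sh i h) (tt hF)) (Pi.single j 1) = Pi.single k 1 →
      act (B (blk (sh i h) (tt hF))) (W j) = W k := fun i h j k hjk => by
    rw [hBW _ _ _ hjk, comp_single hF, hγ]
  have hdiag : ∀ (i : ℕ) (h : i + 2 ≤ 4) (j : Fin 4) (c : Fin 3),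
      σ (if (j : ℕ) = i then om hF else if (j : ℕ) = i + 1 then om hF ^ 2 else 1) = pw hF c →
      act (B (blk (sh i h) (dd hF))) (W j) = pw hF c • W j := fun i h j c hc => by
    rw [hBW _ _ _ (blk_dd hF i h j), ← hγ, ← Matrix.mulVec_smul]
    congr 1
    funext x
    by_cases hx : x = j
    · subst hx
      simp only [Function.comp_apply, Pi.smul_apply, smul_eq_mul, Pi.single_eq_same, mul_one]
      exact hc
    · simp only [Function.comp_apply, Pi.smul_apply, smul_eq_mul, Pi.single_eq_of_ne hx, mul_zero, map_zero]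
  have hgens : B (blk (sh 0 (by omega)) (dd hF)) = D0 ∧ B (blk (sh 1 (by omega)) (dd hF)) = D1 ∧
      B (blk (sh 2 (by omega)) (dd hF)) = D2 ∧ B (blk (sh 0 (by omega)) (tt hF)) = T0 ∧
      B (blk (sh 1 (by omega)) (tt hF)) = T1 ∧ B (blk (sh 2 (by omega)) (tt hF)) = T2 := by
    have hfixb : ∀ (i : ℕ) (h : i + 2 ≤ 4) (j : Fin 4), ((j : ℕ) < i ∨ i + 1 < (j : ℕ)) →
        act (blk (sh i h) (tt hF)) (Pi.single j 1) = Pi.single j 1 := fun i h j hj =>
      blk_single_off hF h _ (by rw [mem_range_sh]; omega)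
    refine ⟨?_, ?_, ?_, ?_, ?_, ?_⟩ <;> refine hext fun j => ?_
    · rw [(hW j).2.1]
      refine hdiag 0 _ j _ ?_
      show _ = pw hF (X j).1
      rw [(fY j).1]
      fin_cases j <;> simp [hσ, hσ2, pw_zero, map_one]
    · rw [(hW j).2.2.1]
      refine hdiag 1 _ j _ ?_
      show _ = pw hF (X j).2.1
      rw [(fY j).2.1]
      fin_cases j <;> simp [hσ, hσ2, pw_zero, map_one]
    · rw [(hW j).2.2.2]
      refine hdiag 2 _ j _ ?_
      show _ = pw hF (X j).2.2
      rw [(fY j).2.2]
      fin_cases j <;> simp [hσ, hσ2, pw_zero, map_one]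
    · fin_cases j
      · exact (hswap 0 _ 0 1 (blk_tt_left hF 0 (by omega))).trans rfl
      · exact (hswap 0 _ 1 0 (blk_tt_right hF 0 (by omega))).trans (inv2 t0).symm
      · exact (hswap 0 _ 2 2 (hfixb 0 _ 2 (by simp))).trans q02.symm
      · exact (hswap 0 _ 3 3 (hfixb 0 _ 3 (by simp))).trans q03.symm
    · fin_cases j
      · exact (hswap 1 _ 0 0 (hfixb 1 _ 0 (by simp))).trans q10.symm
      · exact (hswap 1 _ 1 2 (blk_tt_left hF 1 (by omega))).trans rfl
      · exact (hswap 1 _ 2 1 (blk_tt_right hF 1 (by omega))).trans (inv2 t1).symm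
      · exact (hswap 1 _ 3 3 (hfixb 1 _ 3 (by simp))).trans q13.symm
    · fin_cases j
      · exact (hswap 2 _ 0 0 (hfixb 2 _ 0 (by simp))).trans q20.symm
      · exact (hswap 2 _ 1 1 (hfixb 2 _ 1 (by simp))).trans q21.symm
      · exact (hswap 2 _ 2 3 (blk_tt_left hF 2 (by omega))).trans rfl
      · exact (hswap 2 _ 3 2 (blk_tt_right hF 2 (by omega))).trans (inv2 t2).symm
  obtain ⟨bd0, bd1, bd2, bt0, bt1, bt2⟩ := hgens
  have same : ∀ (i : ℕ) (h : i + 2 ≤ 4) (χ : ↥(Cfsg.SU 2 F 2) →* G₄), B (blk (sh i h) (dd hF)) = χ (dd hF) →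
      B (blk (sh i h) (tt hF)) = χ (tt hF) → ∀ s, B.symm (χ s) = blk (sh i h) s := fun i h χ hd ht s => by
    rw [MulEquiv.symm_apply_eq]
    exact (DFunLike.congr_fun (hom_ext hF (f := B.toMonoidHom.comp (blk (sh i h))) (g := χ) hd ht) s).symm
  have e0 := same 0 _ (φ.comp lo) bd0 bt0
  have e1 := same 1 _ (φ.comp hi) bd1 bt1
  have e2 := same 2 _ (ψ.comp hi) bd2 bt2
  have hφ := eq_blk hF (B.symm.toMonoidHom.comp φ) (sh 0 (by omega))
    (fun s => (e0 s).trans (blk_sh 0 0 (by omega) (by omega) s).symm)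
    (fun s => (e1 s).trans (blk_sh 1 0 (by omega) (by omega) s).symm)
  have hψ := eq_blk hF (B.symm.toMonoidHom.comp ψ) (sh 1 (by omega))
    (fun s => by
      show B.symm (ψ (lo s)) = _
      rw [← hag]
      exact (e1 s).trans (blk_sh 0 1 (by omega) (by omega) s).symm)
    (fun s => (e2 s).trans (blk_sh 1 1 (by omega) (by omega) s).symm)
  refine ⟨B, fun a => ?_, fun a => ?_⟩
  · rw [← show B.symm (φ a) = blk (sh 0 _) a from DFunLike.congr_fun hφ a, MulEquiv.apply_symm_apply]
  · rw [← show B.symm (ψ a) = blk (sh 1 _) a from DFunLike.congr_fun hψ a, MulEquiv.apply_symm_apply]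

/-- Two neighbouring maps into an image of `SU 4` come from one map. -/
theorem exists_base {G : Type*} [Group G] (g : G₄ →* G) (hg : Function.Injective g) (φ ψ : G₃ →* G)
    (hφr : ∀ a, ∃ y, g y = φ a) (hψr : ∀ a, ∃ y, g y = ψ a) (agree : φ.comp hi = ψ.comp lo)
    (hne : φ (lo (dd hF)) ≠ 1) (comm : ∀ s t, Commute (φ (lo s)) (ψ (hi t))) :
    ∃ f : G₄ →* G, (∀ a, f (blk (sh 0 (by omega)) a) = φ a) ∧ ∀ a, f (blk (sh 1 (by omega)) a) = ψ a := by
  have lift : ∀ χ : G₃ →* G, (∀ a, ∃ y, g y = χ a) → ∃ χ' : G₃ →* G₄, ∀ a, g (χ' a) = χ a := by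
    intro χ h
    choose c hc using h
    refine ⟨MonoidHom.mk' c fun a b => hg ?_, hc⟩
    rw [map_mul, hc, hc, hc, map_mul]
  obtain ⟨φ', hφ⟩ := lift φ hφr
  obtain ⟨ψ', hψ⟩ := lift ψ hψr
  obtain ⟨B, h0, h1⟩ := exists_aut hF φ' ψ'
    (MonoidHom.ext fun s => hg (by
      show g (φ' (hi s)) = g (ψ' (lo s))
      rw [hφ, hψ]; exact DFunLike.congr_fun agree s))
    (fun e => hne (by rw [← hφ, e, map_one]))
    (fun s t => hg (by rw [map_mul, map_mul, hφ, hψ]; exact (comm s t).eq))
  exact ⟨g.comp B.toMonoidHom, fun a => (congrArg g (h0 a)).trans (hφ a),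
    fun a => (congrArg g (h1 a)).trans (hψ a)⟩

end Cfsg.Lib.Phan.Two
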