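import Cfsg.Agent.Lib.Phan.Connect
import Mathlib.GroupTheory.GroupAction.Quotient

/-!
# The covering theorem for Phan amalgams

Homomorphisms of `SU (k + 1)` and of `SU 3` into a group that agree on the common `SU 2` and commute where the blocks
are disjoint extend to `SU (k + 2)`. The subgroup generated by the graphs acts on cosets of the first graph; this is a
covering of the orthogonality graph of unit vectors, which has a section.
-/

set_option autoImplicit false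
set_option linter.unusedSectionVars false

namespace Cfsg.Lib.Phan

open Cfsg Cfsg.Lib.Linear Cfsg.Lib.Linear.Herm Cfsg.Lib.UnitMult.Step
open scoped Matrix

variable {F : Type*} [Field F] [Fintype F] {q m n : ℕ}

/-- A vector on a block, extended by zero. -/
noncomputable def emb (ι : Fin m ↪ Fin n) (w : Fin m → F) : Fin n → F := Function.extend ι w (0 : Fin n → F)

theorem emb_apply (ι : Fin m ↪ Fin n) (w : Fin m → F) (i : Fin m) : emb ι w (ι i) = w i :=
  ι.injective.extend_apply w _ i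

theorem emb_off (ι : Fin m ↪ Fin n) (w : Fin m → F) {x : Fin n} (hx : x ∉ Set.range ι) : emb ι w x = 0 :=
  Function.extend_apply' w _ x hx

theorem emb_injective (ι : Fin m ↪ Fin n) : Function.Injective (emb (F := F) ι) := fun w w' h =>
  funext fun i => by rw [← emb_apply ι w i, h, emb_apply]

theorem act_blk_emb (ι : Fin m ↪ Fin n) (g : Cfsg.SU m F q) (w : Fin m → F) :
    act (blk ι g) (emb ι w) = emb ι (act g w) := funext fun x => by
  by_cases hx : x ∈ Set.range ι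
  · obtain ⟨i, rfl⟩ := hx
    rw [act_blk, emb_apply]
    exact congrFun (congrArg (act g) (funext fun j => emb_apply ι w j)) i
  · rw [act_blk_off ι g _ hx, emb_off ι _ hx, emb_off ι _ hx]

theorem emb_single (ι : Fin m ↪ Fin n) (i : Fin m) : emb (F := F) ι (Pi.single i 1) = Pi.single (ι i) 1 :=
  funext fun x => by
    by_cases hx : x ∈ Set.range ι
    · obtain ⟨j, rfl⟩ := hx
      rw [emb_apply, Pi.single_apply, Pi.single_apply]
      simp
    · rw [emb_off ι _ hx, Pi.single_eq_of_ne fun e => hx ⟨i, e.symm⟩]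

theorem hB_emb (hF : Fintype.card F = q ^ 2) (ι : Fin m ↪ Fin n) (w w' : Fin m → F) :
    hB hF n (emb ι w) (emb ι w') = hB hF m w w' := by
  rw [hB_apply, hB_apply, hermForm_split ι]
  rw [show emb ι w' ∘ ι = w' from funext (emb_apply ι w'), show emb ι w ∘ ι = w from funext (emb_apply ι w)]
  rw [Finset.sum_eq_zero (fun i _ => by rw [emb_off ι w' i.2, zero_mul]), add_zero]

theorem cons_zero_single (i : Fin m) : (Fin.cons 0 (Pi.single i 1) : Fin (m + 1) → F) = Pi.single i.succ 1 :=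
  funext fun x => by
    refine Fin.cases ?_ (fun j => ?_) x
    · simp [Pi.single_eq_of_ne (Fin.succ_ne_zero i).symm]
    · simp [Pi.single_apply]

theorem emb_two {k : ℕ} (h : 0 + 3 ≤ k + 2) (ξ c : F) :
    emb (sh 0 h) (Fin.cons ξ (Fin.cons c 0) : Fin 3 → F) =
      Fin.cons ξ (c • Pi.single (⟨0, by omega⟩ : Fin (k + 1)) 1) := by
  funext x
  refine Fin.cases ?_ (fun j => ?_) x
  · conv_lhs => rw [show (0 : Fin (k + 2)) = sh 0 h 0 from Fin.ext (by simp [sh_val]), emb_apply]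
    simp
  rw [Fin.cons_succ]
  by_cases h0 : (j : ℕ) = 0
  · rw [show j.succ = sh 0 h 1 from Fin.ext (by simp [sh_val, h0]), emb_apply,
      show j = (⟨0, by omega⟩ : Fin (k + 1)) from Fin.ext h0]
    simp
  by_cases h1 : (j : ℕ) = 1
  · rw [show j.succ = sh 0 h 2 from Fin.ext (by simp [sh_val, h1]), emb_apply]
    simp [Fin.ext_iff, h0]
    rfl
  · rw [emb_off _ _ (by rw [mem_range_sh]; simp; omega)]
    simp [Fin.ext_iff, h0]

/-- The data of a Phan amalgam step. -/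
structure Amal (F : Type*) [Field F] [Fintype F] (q k : ℕ) (G : Type*) [Group G] where
  hF : Fintype.card F = q ^ 2
  hk : 2 ≤ k
  hq : 3 ≤ q
  hbig : 4 ≤ q ∨ 3 ≤ k
  ρ : Cfsg.SU (k + 1) F q →* G
  κ : Cfsg.SU 3 F q →* G
  agree : ∀ g : Cfsg.SU 2 F q, κ (hi g) = ρ (blk (sh 0 (by omega)) g)
  comm : ∀ (g : Cfsg.SU 2 F q) (h : Cfsg.SU k F q), Commute (κ (lo g)) (ρ (up h))

namespace Amal

variable {k : ℕ} {G : Type*} [Group G] (D : Amal F q k G)

/-- The ambient group. -/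
abbrev P : Type _ := Cfsg.SU (k + 2) F q × G

/-- The graph of the first map. -/
noncomputable def rhat : Cfsg.SU (k + 1) F q →* Cfsg.SU (k + 2) F q × G := (up).prod D.ρ

/-- The graph of the second map. -/
noncomputable def khat : Cfsg.SU 3 F q →* Cfsg.SU (k + 2) F q × G :=
  (blk (sh 0 (by have := D.hk; omega))).prod D.κ

/-- The subgroup generated by the graphs. -/
noncomputable def Gh : Subgroup (Cfsg.SU (k + 2) F q × G) := D.rhat.range ⊔ D.khat.range

theorem rhat_mem (r : Cfsg.SU (k + 1) F q) : D.rhat r ∈ D.Gh := Subgroup.mem_sup_left ⟨r, rfl⟩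

theorem khat_mem (a : Cfsg.SU 3 F q) : D.khat a ∈ D.Gh := Subgroup.mem_sup_right ⟨a, rfl⟩

theorem khat_hi (g : Cfsg.SU 2 F q) : D.khat (hi g) = D.rhat (blk (sh 0 (by have := D.hk; omega : 0 + 2 ≤ k + 1)) g) :=
  Prod.ext (by
    show blk (sh 0 _) (hi g) = up (blk (sh 0 _) g)
    rw [blk_sh, blk_sh]) (D.agree g)

theorem commute_hat (g : Cfsg.SU 2 F q) (h : Cfsg.SU k F q) : Commute (D.khat (lo g)) (D.rhat (up h)) := by
  refine Prod.ext ?_ (D.comm g h)
  show blk (sh 0 _) (lo g) * up (up h) = up (up h) * blk (sh 0 _) (lo g)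
  rw [blk_sh 0 0 (by omega) (by have := D.hk; omega) g,
    show up (up h) = blk (sh (1 + 1) (by omega)) h from blk_sh 1 1 (by omega) (by omega) h]
  exact blk_commute _ _ (fun i j e => by
    have := congrArg Fin.val e
    have := i.2
    simp [sh_val] at *
    omega) g h

/-- The points. -/
abbrev Pt : Type _ := (Cfsg.SU (k + 2) F q × G) ⧸ D.rhat.range

/-- The base point. -/
noncomputable def o : D.Pt := QuotientGroup.mk 1

/-- The unit vector under a point. -/
noncomputable def pb (x : D.Pt) : Fin (k + 2) → F :=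
  Quotient.liftOn' x (fun g => act g.1 (e0 (k + 1) F)) fun g g' h => by
    obtain ⟨r, hr⟩ := QuotientGroup.leftRel_apply.1 h
    have e : g'.1 = g.1 * up r := by
      have := congrArg Prod.fst hr
      rw [Prod.fst_mul, Prod.fst_inv, eq_inv_mul_iff_mul_eq] at this
      exact this.symm
    show act g.1 _ = act g'.1 _
    rw [e, act_mul, act_up_e0]

theorem pb_smul (g : Cfsg.SU (k + 2) F q × G) (x : D.Pt) : D.pb (g • x) = act g.1 (D.pb x) := by
  induction x using QuotientGroup.induction_on with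
  | _ h => exact act_mul g.1 h.1 _

theorem pb_o : D.pb D.o = e0 (k + 1) F := act_one _

theorem smul_o_eq_iff {g h : Cfsg.SU (k + 2) F q × G} : g • D.o = h • D.o ↔ ∃ r, g * D.rhat r = h := by
  show (QuotientGroup.mk (g * 1) : D.Pt) = QuotientGroup.mk (h * 1) ↔ _
  rw [mul_one, mul_one, QuotientGroup.eq]
  exact ⟨fun ⟨r, hr⟩ => ⟨r, by rw [hr, mul_inv_cancel_left]⟩, fun ⟨r, hr⟩ => ⟨r, by rw [← hr, inv_mul_cancel_left]⟩⟩

theorem rhat_o (r : Cfsg.SU (k + 1) F q) : D.rhat r • D.o = D.o := by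
  conv_rhs => rw [← one_smul (Cfsg.SU (k + 2) F q × G) D.o]
  exact D.smul_o_eq_iff.2 ⟨r⁻¹, by rw [map_inv, mul_inv_cancel]⟩

theorem pb_khat (a : Cfsg.SU 3 F q) :
    D.pb (D.khat a • D.o) = emb (sh 0 (by have := D.hk; omega)) (act a (e0 2 F)) := by
  rw [pb_smul, pb_o, ← act_blk_emb, e0_eq, e0_eq, emb_single]
  rfl

/-- Two points of the orbit of the small graph over the same vector agree. -/
theorem khat_eq {a b : Cfsg.SU 3 F q} (h : act a (e0 2 F) = act b (e0 2 F)) : D.khat a • D.o = D.khat b • D.o := by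
  obtain ⟨g, hg⟩ := mem_range_up D.hF (g := a⁻¹ * b) (by rw [act_mul, ← h, act_inv_act])
  refine D.smul_o_eq_iff.2 ⟨blk (sh 0 (by have := D.hk; omega : 0 + 2 ≤ k + 1)) g, ?_⟩
  rw [← khat_hi, ← map_mul, show hi g = a⁻¹ * b from hg, mul_inv_cancel_left]

/-- The rotation of the first coordinate onto the second. -/
noncomputable def sw : Cfsg.SU 2 F q :=
  Classical.choose (exists_su_rot D.hF (x := 0) (y := 1) (by rw [nr_zero, nr_one, zero_add]))

theorem act_sw : act (lo D.sw) (e0 2 F) = Pi.single 1 1 := by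
  have h := Classical.choose_spec (exists_su_rot D.hF (x := 0) (y := 1) (by rw [nr_zero, nr_one, zero_add]))
  obtain ⟨a0, a1, a2⟩ := act_lo_cons D.hF (m := 2) (by omega) h (e0 2 F)
  funext i
  fin_cases i
  · exact a0.trans (by simp [e0_eq])
  · exact a1.trans (by simp [e0_eq])
  · exact (a2 2 le_rfl).trans (by simp [e0_eq])

/-- The standard neighbour of the base point. -/
noncomputable def o1 : D.Pt := D.khat (lo D.sw) • D.o

theorem pb_o1 : D.pb D.o1 = Pi.single (⟨1, by omega⟩ : Fin (k + 2)) 1 := by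
  rw [o1, pb_khat, act_sw, emb_single]
  congr 1

/-- Adjacency. -/
def Adj (x y : D.Pt) : Prop := ∃ g ∈ D.Gh, g • D.o = x ∧ g • D.o1 = y

variable {D}

theorem Adj.smul {x y : D.Pt} (h : D.Adj x y) {g : Cfsg.SU (k + 2) F q × G} (hg : g ∈ D.Gh) :
    D.Adj (g • x) (g • y) := by
  obtain ⟨g', hg', hx, hy⟩ := h
  exact ⟨g * g', mul_mem hg hg', by rw [mul_smul, hx], by rw [mul_smul, hy]⟩

theorem Adj.form {x y : D.Pt} (h : D.Adj x y) :
    hB D.hF _ (D.pb x) (D.pb x) = 1 ∧ hB D.hF _ (D.pb y) (D.pb y) = 1 ∧ hB D.hF _ (D.pb x) (D.pb y) = 0 := by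
  obtain ⟨g, -, rfl, rfl⟩ := h
  rw [pb_smul, pb_smul, form_act, form_act, form_act, pb_o, pb_o1, hB_e0_self, hB_e0, hB_single D.hF,
    Pi.single_eq_of_ne (fun e => by simpa using congrArg Fin.val e)]
  exact ⟨rfl, rfl, rfl⟩

variable (D)

theorem adj_khat {a b : Cfsg.SU 3 F q} (h : hB D.hF 3 (act a (e0 2 F)) (act b (e0 2 F)) = 0) :
    D.Adj (D.khat a • D.o) (D.khat b • D.o) := by
  obtain ⟨c, hc, hc'⟩ := exists_map_two D.hF (n := 3) le_rfl (hB_e0_self D.hF) (hB_single D.hF 1)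
    (by rw [hB_e0]; rfl) (by rw [form_act, hB_e0_self]) (by rw [form_act, hB_e0_self]) h
  refine ⟨D.khat c, D.khat_mem c, D.khat_eq hc, ?_⟩
  rw [o1, ← mul_smul, ← map_mul]
  exact D.khat_eq (by rw [act_mul, act_sw, hc'])

theorem adj_o1 : D.Adj D.o1 D.o := by
  have h := D.adj_khat (a := lo D.sw) (b := 1) (by
    rw [act_sw, act_one, e0_eq, hB_single_left]; rfl)
  rwa [map_one, one_smul] at h

variable {D}

theorem Adj.symm {x y : D.Pt} (h : D.Adj x y) : D.Adj y x := by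
  obtain ⟨g, hg, rfl, rfl⟩ := h
  exact D.adj_o1.smul hg

/-- The points in the orbit. -/
def InX (x : D.Pt) : Prop := ∃ g ∈ D.Gh, g • D.o = x

theorem Adj.inX {x y : D.Pt} (h : D.Adj x y) : InX x := by
  obtain ⟨g, hg, hx, -⟩ := h
  exact ⟨g, hg, hx⟩

theorem nb_exists {x : D.Pt} (hx : InX x) {w : Fin (k + 2) → F} (hw : hB D.hF _ w w = 1)
    (h : hB D.hF _ (D.pb x) w = 0) : ∃ y, D.Adj x y ∧ D.pb y = w := by
  obtain ⟨g, hg, rfl⟩ := hx
  rw [pb_smul, pb_o] at h
  obtain ⟨t, ht⟩ : ∃ t, act g.1⁻¹ w = Fin.cons 0 t := by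
    have h0 : act g.1⁻¹ w 0 = 0 := by
      rw [← hB_e0 D.hF (act g.1⁻¹ w), ← form_act D.hF g.1, act_act_inv, h]
    exact ⟨Fin.tail (act g.1⁻¹ w), by rw [← h0, Fin.cons_self_tail]⟩
  have htt : hB D.hF _ t t = 1 := by
    have := form_act D.hF g.1⁻¹ w w
    rw [ht, hB_cons, hw] at this
    simpa using this
  obtain ⟨r, hr⟩ := exists_map_one D.hF (by have := D.hk; omega)
    (hB_single D.hF (⟨0, by omega⟩ : Fin (k + 1))) htt
  refine ⟨(g * D.rhat r) • D.o1, ⟨g * D.rhat r, mul_mem hg (D.rhat_mem r), by rw [mul_smul, rhat_o], rfl⟩, ?_⟩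
  rw [pb_smul, pb_o1, Prod.fst_mul, act_mul,
    show (⟨1, by omega⟩ : Fin (k + 2)) = (⟨0, by omega⟩ : Fin (k + 1)).succ from rfl, ← cons_zero_single]
  show act g.1 (act (up r) _) = w
  rw [act_up, hr, ← ht, act_act_inv]

theorem nb_unique {x y y' : D.Pt} (h : D.Adj x y) (h' : D.Adj x y') (he : D.pb y = D.pb y') : y = y' := by
  obtain ⟨g, -, rfl, rfl⟩ := h
  obtain ⟨g', -, hx, rfl⟩ := h'
  obtain ⟨r, rfl⟩ := D.smul_o_eq_iff.1 hx.symm
  rw [pb_smul, pb_smul, pb_o1, Prod.fst_mul, act_mul] at he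
  have he' := congrArg (act g.1⁻¹) he
  rw [act_inv_act, act_inv_act, show (⟨1, by omega⟩ : Fin (k + 2)) = (⟨0, by omega⟩ : Fin (k + 1)).succ from rfl,
    ← cons_zero_single] at he'
  have hr : act r (e0 k F) = e0 k F := by
    have h1 := (congrArg Fin.tail (he'.trans (act_up r _ _))).symm
    rw [Fin.tail_cons, Fin.tail_cons] at h1
    rw [e0_eq]
    exact h1
  obtain ⟨h, rfl⟩ := mem_range_up D.hF hr
  rw [mul_smul, o1, ← mul_smul (D.rhat (up h)), ← (D.commute_hat D.sw h).eq, mul_smul, rhat_o]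

/-- Two neighbours over orthogonal vectors are adjacent. -/
theorem tri {x y y' : D.Pt} (h : D.Adj x y) (h' : D.Adj x y') (hyy : hB D.hF _ (D.pb y) (D.pb y') = 0) :
    D.Adj y y' := by
  obtain ⟨g, hg, rfl, rfl⟩ := h
  have h3 : 3 ≤ k + 1 := by have := D.hk; omega
  obtain ⟨-, hu, hu0⟩ := h'.form
  set u := act g.1⁻¹ (D.pb y') with hu'
  have huu : hB D.hF _ u u = 1 := by rw [hu', form_act, hu]
  have hu_0 : u 0 = 0 := by
    rw [← hB_e0 D.hF u, ← form_act D.hF g.1, hu', act_act_inv, ← D.pb_o, ← pb_smul, hu0]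
  have hu_1 : u ⟨1, by omega⟩ = 0 := by
    rw [← hB_single_left D.hF (⟨1, by omega⟩ : Fin (k + 2)) u, ← form_act D.hF g.1, hu', act_act_inv, ← D.pb_o1, ← pb_smul, hyy]
  obtain ⟨t, ht⟩ : ∃ t, u = Fin.cons 0 t := ⟨Fin.tail u, by rw [← hu_0, Fin.cons_self_tail]⟩
  have htt : hB D.hF _ t t = 1 := by
    rw [ht, hB_cons] at huu
    simpa using huu
  have ht0 : t ⟨0, by omega⟩ = 0 := by
    rw [ht, show (⟨1, by omega⟩ : Fin (k + 2)) = (⟨0, by omega⟩ : Fin (k + 1)).succ from rfl, Fin.cons_succ] at hu_1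
    exact hu_1
  obtain ⟨r, hr0, hr1⟩ := exists_map_two D.hF h3 (hB_single D.hF (⟨0, by omega⟩ : Fin (k + 1)))
    (hB_single D.hF (⟨1, by omega⟩ : Fin (k + 1)))
    (by rw [hB_single_left, Pi.single_eq_of_ne (by simp [Fin.ext_iff])])
    (hB_single D.hF (⟨0, by omega⟩ : Fin (k + 1))) htt (by rw [hB_single_left, ht0])
  obtain ⟨a2, ha2⟩ := exists_map_one D.hF (n := 3) (by omega) (hB_e0_self D.hF) (hB_single D.hF (2 : Fin 3))
  set G' := g * D.rhat r with hG'
  have hG : G' ∈ D.Gh := mul_mem hg (D.rhat_mem r)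
  set o2 := D.khat a2 • D.o with ho2
  have hpb2 : D.pb o2 = Pi.single (⟨1, by omega⟩ : Fin (k + 1)).succ 1 := by
    rw [ho2, pb_khat, ha2, emb_single]
    congr 1
  have ho : D.Adj D.o o2 := by
    have := D.adj_khat (a := 1) (b := a2) (by rw [act_one, ha2, hB_e0]; rfl)
    rwa [map_one, one_smul] at this
  have h12 : D.Adj D.o1 o2 := D.adj_khat (by rw [act_sw, ha2, hB_single_left]; rfl)
  have e1 : G' • D.o1 = g • D.o1 := by
    refine nb_unique (x := g • D.o) ⟨G', hG, by rw [mul_smul, rhat_o], rfl⟩ ⟨g, hg, rfl, rfl⟩ ?_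
    rw [pb_smul, pb_smul, pb_o1, hG', Prod.fst_mul, act_mul,
      show (⟨1, by omega⟩ : Fin (k + 2)) = (⟨0, by omega⟩ : Fin (k + 1)).succ from rfl, ← cons_zero_single]
    show act g.1 (act (up r) _) = _
    rw [act_up, hr0]
  have e2 : G' • o2 = y' := by
    have hx : D.Adj (g • D.o) (G' • o2) := by
      have := ho.smul hG
      rwa [show G' • D.o = g • D.o by rw [mul_smul, rhat_o]] at this
    refine nb_unique hx h' ?_
    rw [pb_smul, hpb2, hG', Prod.fst_mul, act_mul, ← cons_zero_single]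
    show act g.1 (act (up r) _) = _
    rw [act_up, hr1, ← ht, hu', act_act_inv]
  rw [← e1, ← e2]
  exact h12.smul hG

variable (D)

/-- The lifts of a vector by paths of length two. -/
def Lift (v : Fin (k + 2) → F) (x : D.Pt) : Prop := ∃ y, D.Adj D.o y ∧ D.Adj y x ∧ D.pb x = v ∧
  InB D.hF (e0 (k + 1) F) v (D.pb y)

/-- The lift is unique. -/
def Uq (v : Fin (k + 2) → F) : Prop := ∀ x x', D.Lift v x → D.Lift v x' → x = x'

theorem inX_o : InX D.o := ⟨1, one_mem _, one_smul _ _⟩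

variable {D}

theorem Lift.of_adj {y x : D.Pt} (hoy : D.Adj D.o y) (hyx : D.Adj y x) : D.Lift (D.pb x) x :=
  ⟨y, hoy, hyx, rfl, hoy.form.2.1, by rw [← D.pb_o]; exact hoy.form.2.2, swap0 D.hF hyx.form.2.2⟩

variable (D) in
theorem lift_of_mid {b v : Fin (k + 2) → F} (hb : InB D.hF (e0 (k + 1) F) v b)
    (hv : hB D.hF _ v v = 1) : ∃ y x, D.Adj D.o y ∧ D.pb y = b ∧ D.Adj y x ∧ D.Lift v x := by
  obtain ⟨y, hy, rfl⟩ := nb_exists D.inX_o hb.1 (by rw [pb_o]; exact hb.2.1)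
  obtain ⟨x, hx, rfl⟩ := nb_exists hy.symm.inX hv (swap0 D.hF hb.2.2)
  exact ⟨y, x, hy, rfl, hx, Lift.of_adj hy hx⟩

variable (D)

theorem exists_lift {v : Fin (k + 2) → F} (hv : hB D.hF _ v v = 1) : ∃ x, D.Lift v x := by
  obtain ⟨b, hb⟩ := exists_perp2 D.hF (by have := D.hk; omega) (hB_e0_self D.hF) v
  obtain ⟨-, x, -, -, -, hx⟩ := D.lift_of_mid hb hv
  exact ⟨x, hx⟩

variable {D}

theorem Lift.smul {v : Fin (k + 2) → F} {x : D.Pt} (h : D.Lift v x) (r : Cfsg.SU (k + 1) F q) :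
    D.Lift (act (up r) v) (D.rhat r • x) := by
  obtain ⟨y, hoy, hyx, rfl, -⟩ := h
  have h1 := hoy.smul (D.rhat_mem r)
  rw [rhat_o] at h1
  have := Lift.of_adj h1 (hyx.smul (D.rhat_mem r))
  rwa [pb_smul] at this

/-- Lifts of vectors of the plane of the first two coordinates are unique. -/
theorem uq_plane {c ξ : F} {h : Cfsg.SU 2 F q}
    (hh : act (lo h) (e0 2 F) = Fin.cons ξ (Fin.cons c 0)) {x : D.Pt}
    (hx : D.Lift (D.pb (D.khat (lo h) • D.o)) x) : x = D.khat (lo h) • D.o := by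
  obtain ⟨y, hoy, hyx, hpx, hb1, hb2, hb3⟩ := hx
  set xh := D.khat (lo h) • D.o with hxh
  have hk := D.hk
  have hpb : D.pb xh = Fin.cons ξ (c • Pi.single (⟨0, by omega⟩ : Fin (k + 1)) 1) := by
    rw [hxh, pb_khat, hh, emb_two]
  obtain ⟨t, ht⟩ : ∃ t, D.pb y = Fin.cons 0 t := by
    rw [hB_e0] at hb2
    exact ⟨Fin.tail (D.pb y), by rw [← hb2, Fin.cons_self_tail]⟩
  have htt : hB D.hF _ t t = 1 := by
    rw [ht, hB_cons] at hb1
    simpa using hb1
  -- the element moving the third coordinate vector to the middle vector and fixing the target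
  obtain ⟨r, hr, hrx⟩ : ∃ r : Cfsg.SU (k + 1) F q,
      act r (Pi.single (⟨1, by omega⟩ : Fin (k + 1)) 1) = t ∧ D.rhat r • xh = xh := by
    have hup : ∀ h' : Cfsg.SU k F q, D.rhat (up h') • xh = xh := fun h' => by
      rw [hxh, ← mul_smul, ← (D.commute_hat h h').eq, mul_smul, rhat_o]
    by_cases hc : c = 0
    · obtain ⟨r, hr⟩ := exists_map_one D.hF (by omega) (hB_single D.hF (⟨1, by omega⟩ : Fin (k + 1))) htt
      refine ⟨r, hr, ?_⟩
      let S : Subgroup (Cfsg.SU (k + 1) F q) :=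
        { carrier := {r | D.rhat r • xh = xh}
          one_mem' := by simp
          mul_mem' := fun {a b} (ha : _ = _) (hb : _ = _) => by
            show D.rhat (a * b) • xh = xh
            rw [map_mul, mul_smul, hb, ha]
          inv_mem' := fun {a} (ha : _ = _) => by
            show D.rhat a⁻¹ • xh = xh
            rw [map_inv, inv_smul_eq_iff, ha] }
      have hS : adjSub (k + 1) F q ≤ S := by
        refine iSup₂_le fun i hi => ?_
        rintro _ ⟨g, rfl⟩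
        rcases Nat.eq_zero_or_pos i with rfl | hipos
        · show D.rhat (blk (sh 0 hi) g) • xh = xh
          rw [← khat_hi, hxh, ← mul_smul, ← map_mul]
          refine D.khat_eq ?_
          rw [act_mul, hh, hc, act_up, show (Fin.cons 0 0 : Fin 2 → F) = 0 from funext fun i => by
            fin_cases i <;> rfl]
          simp [act]
        · obtain ⟨j, rfl⟩ : ∃ j, i = 1 + j := ⟨i - 1, by omega⟩
          show D.rhat (blk (sh (1 + j) hi) g) • xh = xh
          have := hup (blk (sh j (by omega : j + 2 ≤ k)) g)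
          rwa [show up (blk (sh j (by omega : j + 2 ≤ k)) g) = blk (sh (1 + j) hi) g from
            blk_sh j 1 (by omega) (by omega) g] at this
      exact hS (by rw [adjSub_eq_top D.hF (by have := D.hq; omega) _ (by omega)]; exact Subgroup.mem_top r)
    · have ht0 : t ⟨0, by omega⟩ = 0 := by
        rw [hpb, ht, hB_cons] at hb3
        simpa [hc, hB_single_left] using hb3
      obtain ⟨u, hu⟩ : ∃ u : Fin k → F, t = Fin.cons 0 u :=
        ⟨Fin.tail t, by rw [← ht0]; exact (Fin.cons_self_tail t).symm⟩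
      have huu : hB D.hF _ u u = 1 := by
        rw [hu, hB_cons] at htt
        simpa using htt
      obtain ⟨r, hr⟩ := exists_map_one D.hF hk (hB_single D.hF (⟨0, by omega⟩ : Fin k)) huu
      refine ⟨up r, ?_, hup r⟩
      rw [show (⟨1, by omega⟩ : Fin (k + 1)) = (⟨0, by omega⟩ : Fin k).succ from rfl, ← cons_zero_single, act_up,
        hr, hu]
  obtain ⟨a2, ha2⟩ := exists_map_one D.hF (n := 3) (by omega) (hB_e0_self D.hF) (hB_single D.hF (2 : Fin 3))
  have h1 : D.Adj D.o (D.khat a2 • D.o) := by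
    have := D.adj_khat (a := 1) (b := a2) (by rw [act_one, ha2, hB_e0]; rfl)
    rwa [map_one, one_smul] at this
  have h2 : D.Adj (D.khat a2 • D.o) xh := D.adj_khat (by
    rw [hh, ha2, hB_single_left]; rfl)
  have h1' := h1.smul (D.rhat_mem r)
  rw [rhat_o] at h1'
  have e : D.rhat r • D.khat a2 • D.o = y := by
    refine nb_unique h1' hoy ?_
    rw [pb_smul, pb_khat, ha2, emb_single,
      show (sh 0 _ (2 : Fin 3) : Fin (k + 2)) = (⟨1, by omega⟩ : Fin (k + 1)).succ from Fin.ext rfl,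
      ← cons_zero_single]
    show act (up r) _ = _
    rw [act_up, hr, ht]
  have h2' := h2.smul (D.rhat_mem r)
  rw [e, hrx] at h2'
  exact nb_unique hyx h2' hpx

theorem uq_of_nd {v : Fin (k + 2) → F} (hv : hB D.hF _ v v = 1) (hnd : Nd D.hF (e0 (k + 1) F) v) : D.Uq v := by
  have hk := D.hk
  obtain ⟨ξ, z, rfl⟩ : ∃ ξ z, v = Fin.cons ξ z := ⟨v 0, Fin.tail v, (Fin.cons_self_tail v).symm⟩
  rw [hB_cons] at hv
  have hnd' : nr D.hF ξ ≠ 1 ∨ z = 0 := by
    rcases hnd with h | ⟨c, hc⟩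
    · rw [hB_e0, Fin.cons_zero] at h; exact Or.inl h
    · right
      have := congrArg Fin.tail hc
      rw [Fin.tail_cons] at this
      rw [this]
      funext i
      simp [Fin.tail, e0]
  obtain ⟨c, hc, r, hr⟩ : ∃ c : F, nr D.hF ξ + nr D.hF c = 1 ∧
      ∃ r : Cfsg.SU (k + 1) F q, act r (c • Pi.single (⟨0, by omega⟩ : Fin (k + 1)) 1) = z := by
    by_cases hz : z = 0
    · subst hz
      exact ⟨0, by rw [nr_zero, add_zero, nr]; simpa using hv, 1, by simp [act]⟩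
    have hzz : hB D.hF _ z z ≠ 0 := fun h => by
      rcases hnd' with h1 | h1
      · exact h1 (by rw [h, add_zero] at hv; exact hv)
      · exact hz h1
    obtain ⟨c, hc⟩ := exists_nr D.hF hzz (self_fix D.hF z)
    have hc0 : c ≠ 0 := fun h => hzz (by rw [← hc, h, nr_zero])
    have hu : hB D.hF _ (c⁻¹ • z) (c⁻¹ • z) = 1 := by
      rw [hB_smul_self, ← hc, ← nr_mul, inv_mul_cancel₀ hc0, nr_one]
    obtain ⟨r, hr⟩ := exists_map_one D.hF (by omega) (hB_single D.hF (⟨0, by omega⟩ : Fin (k + 1))) hu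
    exact ⟨c, by rw [hc]; exact hv, r, by
      rw [act, Matrix.mulVec_smul]; show c • act r _ = z; rw [hr, smul_inv_smul₀ hc0]⟩
  obtain ⟨h, hh⟩ := exists_su_rot D.hF hc
  obtain ⟨a0, a1, a2⟩ := act_lo_cons D.hF (m := 2) (by omega) hh (e0 2 F)
  have hh' : act (lo h) (e0 2 F) = Fin.cons ξ (Fin.cons c 0) := by
    funext i
    fin_cases i
    · exact a0.trans (by simp [e0_eq])
    · exact a1.trans (by simp [e0_eq])
    · exact (a2 2 le_rfl).trans (by simp [e0_eq]; rfl)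
  have hpb : act (up r) (D.pb (D.khat (lo h) • D.o)) = Fin.cons ξ z := by
    rw [pb_khat, hh', ← hr, ← act_up, emb_two]
  intro x x' hx hx'
  have key : ∀ x, D.Lift (Fin.cons ξ z) x → x = D.rhat r • D.khat (lo h) • D.o := fun x hx => by
    have h1 := hx.smul r⁻¹
    rw [← hpb, map_inv, act_inv_act] at h1
    rw [← uq_plane hh' h1, map_inv, smul_inv_smul]
  rw [key x hx, key x' hx']

variable (D) in
theorem nd_act (g : Cfsg.SU (k + 2) F q) {a v : Fin (k + 2) → F} (h : Nd D.hF a v) :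
    Nd D.hF (act g a) (act g v) := by
  rcases h with h | ⟨c, hc⟩
  · exact Or.inl (by rwa [form_act])
  · exact Or.inr ⟨c, by rw [hc, act, act, Matrix.mulVec_smul]⟩

/-- Four-cycles through a nondegenerate opposite pair close. -/
theorem cyc {x1 x2 x3 x4 x3' : D.Pt} (h12 : D.Adj x1 x2) (h23 : D.Adj x2 x3) (h14 : D.Adj x1 x4)
    (h43 : D.Adj x4 x3') (he : D.pb x3 = D.pb x3') (hnd : Nd D.hF (D.pb x1) (D.pb x3)) : x3 = x3' := by
  obtain ⟨g, hg, hgx⟩ := h12.inX
  have hg' := inv_mem hg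
  have e : g⁻¹ • x1 = D.o := by rw [← hgx, inv_smul_smul]
  have a1 := h12.smul hg'
  have a4 := h14.smul hg'
  rw [e] at a1 a4
  have l := Lift.of_adj a1 (h23.smul hg')
  have l' := Lift.of_adj a4 (h43.smul hg')
  have hpe : D.pb (g⁻¹ • x3') = D.pb (g⁻¹ • x3) := by rw [pb_smul, pb_smul, he]
  rw [hpe] at l'
  have hu : D.Uq (D.pb (g⁻¹ • x3)) := by
    refine uq_of_nd (h23.smul hg').form.2.1 ?_
    have := D.nd_act (g⁻¹).1 hnd
    rwa [← pb_smul, ← pb_smul, e, pb_o] at this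
  exact MulAction.injective g⁻¹ (hu _ _ l l')

theorem adj_of_common {v w p : Fin (k + 2) → F} {x x' : D.Pt} (hv : D.Uq v) (hw : D.Uq w) (hx : D.Lift v x)
    (hx' : D.Lift w x') (hvw : hB D.hF _ v w = 0) (hp : InB D.hF (e0 (k + 1) F) v p)
    (hwp : hB D.hF _ w p = 0) : D.Adj x x' := by
  have hv1 : hB D.hF _ v v = 1 := by obtain ⟨y, -, h, rfl, -⟩ := hx; exact h.form.2.1
  have hw1 : hB D.hF _ w w = 1 := by obtain ⟨y, -, h, rfl, -⟩ := hx'; exact h.form.2.1
  obtain ⟨y, z, hoy, hpy, hyz, hz⟩ := D.lift_of_mid hp hv1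
  obtain ⟨y', z', hoy', hpy', hyz', hz'⟩ := D.lift_of_mid (b := p) (v := w) ⟨hp.1, hp.2.1, hwp⟩ hw1
  obtain rfl : y = y' := nb_unique hoy hoy' (hpy.trans hpy'.symm)
  rw [hv x z hx hz, hw x' z' hx' hz']
  refine tri hyz hyz' ?_
  obtain ⟨-, -, -, e, -⟩ := hz
  obtain ⟨-, -, -, e', -⟩ := hz'
  rw [e, e', hvw]

theorem adj_of_nd {v w : Fin (k + 2) → F} {x x' : D.Pt} (hdv : Nd D.hF (e0 (k + 1) F) v)
    (hdw : Nd D.hF (e0 (k + 1) F) w) (hx : D.Lift v x) (hx' : D.Lift w x') (hvw : hB D.hF _ v w = 0) :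
    D.Adj x x' := by
  have hn : 4 ≤ k + 2 := by have := D.hk; omega
  have hv1 : hB D.hF _ v v = 1 := by obtain ⟨y, -, h, rfl, -⟩ := hx; exact h.form.2.1
  have hw1 : hB D.hF _ w w = 1 := by obtain ⟨y, -, h, rfl, -⟩ := hx'; exact h.form.2.1
  have hv := uq_of_nd (D := D) hv1 hdv
  have hw := uq_of_nd (D := D) hw1 hdw
  by_cases h : ∃ p, hB D.hF _ p p = 1 ∧ hB D.hF _ (e0 (k + 1) F) p = 0 ∧ hB D.hF _ v p = 0 ∧ hB D.hF _ w p = 0
  · obtain ⟨p, h1, h2, h3, h4⟩ := h
    exact adj_of_common hv hw hx hx' hvw ⟨h1, h2, h3⟩ h4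
  have hq4 : 4 ≤ q := D.hbig.resolve_right fun h5 => h (exists_perp3 D.hF hn (hB_e0_self D.hF) hv1 hw1 hvw
    (Or.inl (by omega)))
  obtain ⟨b, d, hb, hab, hvb, hd, had, hbd, hwd, hbw⟩ :=
    exists_detour D.hF hq4 hn (hB_e0_self D.hF) hv1 hw1 hvw hdv hdw h
  obtain ⟨yb, z, hob, hpb, hbz, hz⟩ := D.lift_of_mid (b := b) (v := v) ⟨hb, hab, hvb⟩ hv1
  obtain ⟨yd, z', hod, hpd, hdz, hz'⟩ := D.lift_of_mid (b := d) (v := w) ⟨hd, had, hwd⟩ hw1
  obtain ⟨-, -, -, ez, -⟩ := id hz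
  obtain ⟨-, -, -, ez', -⟩ := id hz'
  rw [hv x z hx hz, hw x' z' hx' hz']
  obtain ⟨u, hzu, hpu⟩ := nb_exists hbz.symm.inX hw1 (by rw [ez, hvw])
  have hbd' : D.Adj yb yd := tri hob hod (by rw [hpb, hpd, hbd])
  rw [← cyc hbz hzu hbd' hdz (hpu.trans ez'.symm) (by rwa [hpb, hpu])]
  exact hzu

theorem lift_perp {y : D.Pt} (hy : D.Adj D.o y) : D.Lift (D.pb y) y := by
  obtain ⟨b, hb⟩ := exists_perp2 D.hF (by have := D.hk; omega) (hB_e0_self D.hF) (D.pb y)
  obtain ⟨y', hy', hpy⟩ := nb_exists D.inX_o hb.1 (by rw [pb_o]; exact hb.2.1)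
  exact Lift.of_adj hy' (tri hy' hy (by rw [hpy]; exact swap0 D.hF hb.2.2))

variable (D)

theorem uq {v : Fin (k + 2) → F} (hv : hB D.hF _ v v = 1) : D.Uq v := by
  classical
  by_cases hnd : Nd D.hF (e0 (k + 1) F) v
  · exact uq_of_nd hv hnd
  rw [Nd] at hnd
  push Not at hnd
  obtain ⟨h1, hne⟩ := hnd
  haveI : Nonempty D.Pt := ⟨D.o⟩
  have hn : 4 ≤ k + 2 := by have := D.hk; omega
  let s : (Fin (k + 2) → F) → D.Pt := fun f => Classical.epsilon fun x => D.Lift f x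
  let Ψ : (Fin (k + 2) → F) → D.Pt := fun f => Classical.epsilon fun x => D.Adj (s f) x ∧ D.pb x = v
  have hs : ∀ f, InS D.hF (e0 (k + 1) F) v f → D.Lift f (s f) ∧ D.Adj (s f) (Ψ f) ∧ D.pb (Ψ f) = v := by
    intro f hf
    have h : D.Lift f (s f) := Classical.epsilon_spec (D.exists_lift hf.1)
    obtain ⟨y, hoy, hyx, hpx, -⟩ := id h
    have h' := Classical.epsilon_spec (p := fun x => D.Adj (s f) x ∧ D.pb x = v)
      (nb_exists hyx.symm.inX hv (by rw [hpx]; exact swap0 D.hF hf.2.1))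
    exact ⟨h, h'.1, h'.2⟩
  have hΨ : ∀ f f' : Fin (k + 2) → F, InS D.hF (e0 (k + 1) F) v f → InS D.hF (e0 (k + 1) F) v f' →
      hB D.hF _ f f' = 0 → Ψ f = Ψ f' := by
    intro f f' hf hf' hff
    obtain ⟨hl, ha, hp⟩ := hs f hf
    obtain ⟨hl', ha', hp'⟩ := hs f' hf'
    have hadj : D.Adj (s f) (s f') := adj_of_nd (Or.inl hf.2.2) (Or.inl hf'.2.2) hl hl' hff
    obtain ⟨-, -, -, e', -⟩ := id hl'
    exact nb_unique (tri hadj ha (by rw [e', hp]; exact swap0 D.hF hf'.2.1)) ha' (hp.trans hp'.symm)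
  have key : ∀ x, D.Lift v x → ∃ b, InB D.hF (e0 (k + 1) F) v b ∧ x = Ψ b := by
    rintro x ⟨y, hoy, hyx, hpx, hb⟩
    refine ⟨D.pb y, hb, ?_⟩
    obtain ⟨hl, ha, hp⟩ := hs _ (InB.inS D.hF hb)
    have e : s (D.pb y) = y := uq_of_nd hb.1 (nd_of_perp D.hF hb.2.1) _ _ hl (lift_perp hoy)
    rw [e] at ha
    exact nb_unique hyx ha (hpx.trans hp.symm)
  intro x x' hx hx'
  obtain ⟨b, hb, rfl⟩ := key x hx
  obtain ⟨b', hb', rfl⟩ := key x' hx'
  exact connect D.hF D.hq hn (hB_e0_self D.hF) hv h1 hne Ψ hΨ (D.hbig.imp_right fun h => by omega) hb hb'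

/-- Lifts of orthogonal vectors are adjacent. -/
theorem adj_lift {v w : Fin (k + 2) → F} {x x' : D.Pt} (hx : D.Lift v x) (hx' : D.Lift w x')
    (hvw : hB D.hF _ v w = 0) : D.Adj x x' := by
  have hn : 4 ≤ k + 2 := by have := D.hk; omega
  have hv1 : hB D.hF _ v v = 1 := by obtain ⟨y, -, h, rfl, -⟩ := hx; exact h.form.2.1
  have hw1 : hB D.hF _ w w = 1 := by obtain ⟨y, -, h, rfl, -⟩ := hx'; exact h.form.2.1
  have ha := hB_e0_self D.hF (m := k + 1)
  by_cases h : ∃ p, hB D.hF _ p p = 1 ∧ hB D.hF _ (e0 (k + 1) F) p = 0 ∧ hB D.hF _ v p = 0 ∧ hB D.hF _ w p = 0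
  · obtain ⟨p, h1, h2, h3, h4⟩ := h
    exact adj_of_common (D.uq hv1) (D.uq hw1) hx hx' hvw ⟨h1, h2, h3⟩ h4
  have hsum : nr D.hF (hB D.hF _ (e0 (k + 1) F) v) + nr D.hF (hB D.hF _ (e0 (k + 1) F) w) = 1 := by
    by_contra h'
    exact h (exists_perp3 D.hF hn ha hv1 hw1 hvw (Or.inr (Or.inl h')))
  -- a vector with norm one product has its partner perpendicular to the base vector
  have side : ∀ {v w : Fin (k + 2) → F} {x x' : D.Pt}, D.Lift v x → D.Lift w x' → hB D.hF _ v w = 0 →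
      hB D.hF _ (e0 (k + 1) F) w = 0 → D.Adj x x' := by
    intro v w x x' hx hx' hvw hw0
    have hv1 : hB D.hF _ v v = 1 := by obtain ⟨y, -, h, rfl, -⟩ := hx; exact h.form.2.1
    have hw1 : hB D.hF _ w w = 1 := by obtain ⟨y, -, h, rfl, -⟩ := hx'; exact h.form.2.1
    obtain ⟨y, z, hoy, hpy, hyz, hz⟩ := D.lift_of_mid (b := w) (v := v) ⟨hw1, hw0, hvw⟩ hv1
    have hl := lift_perp hoy
    rw [hpy] at hl
    rw [D.uq hv1 x z hx hz, D.uq hw1 x' y hx' hl]
    exact hyz.symm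
  by_cases hdv : nr D.hF (hB D.hF _ (e0 (k + 1) F) v) = 1
  · exact side hx hx' hvw ((nr_eq_zero D.hF).1 (by linear_combination hsum - hdv))
  by_cases hdw : nr D.hF (hB D.hF _ (e0 (k + 1) F) w) = 1
  · exact (side hx' hx (swap0 D.hF hvw) ((nr_eq_zero D.hF).1 (by linear_combination hsum - hdw))).symm
  exact adj_of_nd (Or.inl hdv) (Or.inl hdw) hx hx' hvw

theorem lift_o : D.Lift (e0 (k + 1) F) D.o := by
  obtain ⟨b, hb⟩ := exists_perp2 D.hF (by have := D.hk; omega) (hB_e0_self D.hF) (e0 (k + 1) F)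
  obtain ⟨y, hy, -⟩ := nb_exists D.inX_o hb.1 (by rw [pb_o]; exact hb.2.1)
  have := Lift.of_adj hy hy.symm
  rwa [pb_o] at this

/-- An element moving the base point to its lift maps every lift to a lift. -/
theorem lift_smul {g : Cfsg.SU (k + 2) F q × G} (hg : g ∈ D.Gh) (ho : D.Lift (act g.1 (e0 (k + 1) F)) (g • D.o))
    {v : Fin (k + 2) → F} {x : D.Pt} (hx : D.Lift v x) : D.Lift (act g.1 v) (g • x) := by
  have step : ∀ {b y : _}, D.Lift b y → ∀ {z : D.Pt}, D.Adj y z →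
      D.Lift (act g.1 b) (g • y) → D.Lift (D.pb (g • z)) (g • z) := by
    intro b y hy z hyz hgy
    obtain ⟨-, -, -, e, -⟩ := id hgy
    obtain ⟨w, hw⟩ := D.exists_lift (hyz.smul hg).form.2.1
    obtain ⟨-, -, -, ew, -⟩ := id hw
    have := D.adj_lift hgy hw (by rw [← e]; exact (hyz.smul hg).form.2.2)
    rw [← nb_unique (hyz.smul hg) this ew.symm] at hw
    exact hw
  obtain ⟨y, hoy, hyx, rfl, -⟩ := hx
  have h1 := step D.lift_o hoy ho
  rw [← pb_smul]
  rw [pb_smul] at h1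
  exact step (lift_perp hoy) hyx h1

/-- Every element of the generated group moves the base point to the lift of the image. -/
theorem lift_gh {g : Cfsg.SU (k + 2) F q × G} (hg : g ∈ D.Gh) :
    D.Lift (act g.1 (e0 (k + 1) F)) (g • D.o) := by
  have hk := D.hk
  let T : Subgroup (Cfsg.SU (k + 2) F q × G) :=
    { carrier := {g | g ∈ D.Gh ∧ ∀ v x, D.Lift v x → D.Lift (act g.1 v) (g • x)}
      one_mem' := ⟨one_mem _, fun v x h => by rw [Prod.fst_one, act_one, one_smul]; exact h⟩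
      mul_mem' := fun {a b} ha hb => ⟨mul_mem ha.1 hb.1, fun v x h => by
        rw [Prod.fst_mul, act_mul, mul_smul]; exact ha.2 _ _ (hb.2 v x h)⟩
      inv_mem' := fun {a} ha => ⟨inv_mem ha.1, fun v x h => by
        have hv1 : hB D.hF _ v v = 1 := by obtain ⟨y, -, h', rfl, -⟩ := h; exact h'.form.2.1
        obtain ⟨z, hz⟩ := D.exists_lift (v := act a.1⁻¹ v) (by rw [form_act, hv1])
        have h' := ha.2 _ _ hz
        rw [act_act_inv] at h'
        rw [← D.uq hv1 _ _ h' h, inv_smul_smul]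
        exact hz⟩ }
  have hr : D.rhat.range ≤ T := by
    rintro _ ⟨r, rfl⟩
    exact ⟨D.rhat_mem r, fun v x h => h.smul r⟩
  suffices hT : D.Gh ≤ T from (hT hg).2 _ _ D.lift_o
  refine sup_le hr ?_
  rintro _ ⟨a, rfl⟩
  have ha : a ∈ T.comap D.khat := by
    refine (show adjSub 3 F q ≤ T.comap D.khat from iSup₂_le fun i hi => ?_) (by
      rw [adjSub_eq_top D.hF (by have := D.hq; omega) 3 (by omega)]; exact Subgroup.mem_top a)
    rintro _ ⟨h, rfl⟩
    show D.khat (blk (sh i hi) h) ∈ T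
    obtain rfl | rfl : i = 0 ∨ i = 1 := by omega
    · refine ⟨D.khat_mem _, fun v x hx => D.lift_smul (D.khat_mem _) ?_ hx⟩
      obtain ⟨a2, ha2⟩ := exists_map_one D.hF (n := 3) (by omega) (hB_e0_self D.hF) (hB_single D.hF (2 : Fin 3))
      have h1 : D.Adj D.o (D.khat a2 • D.o) := by
        have := D.adj_khat (a := 1) (b := a2) (by rw [act_one, ha2, hB_e0]; rfl)
        rwa [map_one, one_smul] at this
      have h2 : D.Adj (D.khat a2 • D.o) (D.khat (lo h) • D.o) := D.adj_khat (by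
        rw [ha2, hB_single_left, act_blk_off _ _ _ (by rw [mem_range_sh]; simp)]
        rfl)
      have := Lift.of_adj h1 h2
      rwa [pb_smul, pb_o] at this
    · exact hr ⟨_, (D.khat_hi h).symm⟩
  exact ha

/-- The covering theorem. -/
theorem exists_extend (D : Amal F q k G) : ∃ f : Cfsg.SU (k + 2) F q →* G,
    (∀ r, f (up r) = D.ρ r) ∧ ∀ a, f (blk (sh 0 (by have := D.hk; omega)) a) = D.κ a := by
  have hk := D.hk
  set π : D.Gh →* Cfsg.SU (k + 2) F q := (MonoidHom.fst _ _).comp D.Gh.subtype with hπ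
  have hinj : Function.Injective π := by
    rw [injective_iff_map_eq_one]
    intro g hg
    have hg1 : (g : Cfsg.SU (k + 2) F q × G).1 = 1 := hg
    have h1 := D.lift_gh g.2
    rw [hg1, act_one] at h1
    have h2 := D.uq (hB_e0_self D.hF) _ _ D.lift_o h1
    conv_lhs at h2 => rw [← one_smul (Cfsg.SU (k + 2) F q × G) D.o]
    obtain ⟨r, hr⟩ := D.smul_o_eq_iff.1 h2
    rw [one_mul] at hr
    have hr1 : up r = 1 := (congrArg Prod.fst hr).trans hg1
    have : r = 1 := blk_injective _ (hr1.trans (map_one _).symm)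
    exact Subtype.ext (by rw [← hr, this, map_one]; rfl)
  have hsurj : Function.Surjective π := by
    intro g
    refine (show adjSub (k + 2) F q ≤ π.range from iSup₂_le fun i hi => ?_) (by
      rw [adjSub_eq_top D.hF (by have := D.hq; omega) _ (by omega)]; exact Subgroup.mem_top g)
    rintro _ ⟨h, rfl⟩
    rcases Nat.eq_zero_or_pos i with rfl | hipos
    · exact ⟨⟨_, D.khat_mem (lo h)⟩, blk_sh 0 0 (by omega) (by omega) h⟩
    · obtain ⟨j, rfl⟩ : ∃ j, i = 1 + j := ⟨i - 1, by omega⟩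
      exact ⟨⟨_, D.rhat_mem (blk (sh j (by omega : j + 2 ≤ k + 1)) h)⟩, blk_sh j 1 (by omega) (by omega) h⟩
  set e := MulEquiv.ofBijective π ⟨hinj, hsurj⟩
  refine ⟨(MonoidHom.snd _ _).comp (D.Gh.subtype.comp e.symm.toMonoidHom), fun r => ?_, fun a => ?_⟩
  · have : e.symm (up r) = ⟨_, D.rhat_mem r⟩ := e.symm_apply_eq.2 rfl
    show ((e.symm (up r) : D.Gh) : Cfsg.SU (k + 2) F q × G).2 = _
    rw [this]
    rfl
  · have : e.symm (blk (sh 0 (by omega)) a) = ⟨_, D.khat_mem a⟩ := e.symm_apply_eq.2 rfl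
    show ((e.symm (blk (sh 0 _) a) : D.Gh) : Cfsg.SU (k + 2) F q × G).2 = _
    rw [this]
    rfl

end Amal

end Cfsg.Lib.Phan
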