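import Cfsg.Agent.Lib.Phan.GaugeExt

/-!
# Copies of `SU 2` inside `SU 3` and standard pairs

A copy of `SU 2` in `SU 3` is the stabiliser of an anisotropic vector; two copies with commuting tori have perpendicular
fixed vectors, so they form a standard pair.
-/

set_option autoImplicit false
set_option linter.unusedSectionVars false
set_option linter.style.haveILetI false

namespace Cfsg.Lib.Phan

open Cfsg Cfsg.Lib.Linear Cfsg.Lib.Linear.Herm Cfsg.Lib.UnitMult.Step Module
open scoped Matrix MatrixGroups commutatorElement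

variable {F : Type*} [Field F] [Fintype F] {q : ℕ} (hF : Fintype.card F = q ^ 2)

/-- The elements fixing a vector. -/
def fixP (p : Fin 3 → F) : Subgroup (Cfsg.SU 3 F q) where
  carrier := {g | act g p = p}
  one_mem' := act_one p
  mul_mem' {g h} (hg : act g p = p) (hh : act h p = p) := by
    show act (g * h) p = p
    rw [act_mul, hh, hg]
  inv_mem' {g} (hg : act g p = p) := by
    show act g⁻¹ p = p
    nth_rw 1 [← hg]
    rw [act_inv_act]

theorem act_add (g : Cfsg.SU 3 F q) (v w : Fin 3 → F) : act g (v + w) = act g v + act g w := Matrix.mulVec_add _ _ _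

theorem inv_mulVec_mulVec (g : ↥(Cfsg.GU 3 F q)) (w : Fin 3 → F) : (g.1⁻¹).1 *ᵥ (g.1.1 *ᵥ w) = w := by
  rw [Matrix.mulVec_mulVec, Units.inv_mul, Matrix.one_mulVec]

theorem act_smul (g : Cfsg.SU 3 F q) (a : F) (v : Fin 3 → F) : act g (a • v) = a • act g v := Matrix.mulVec_smul _ _ _

include hF

local notation "H₃" => hB hF 3

theorem form_self_pow (v : Fin 3 → F) : frob hF (hB hF 3 v v) = hB hF 3 v v := self_fix hF v

/-- Two perpendicular isotropic vectors are dependent. -/
theorem iso_dep {a b : Fin 3 → F} (ha : a ≠ 0) (haa : hB hF 3 a a = 0) (hbb : hB hF 3 b b = 0)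
    (hab : hB hF 3 a b = 0) : ∃ l : F, b = l • a := by
  by_contra hcon
  push Not at hcon
  have hbM : b ∉ Submodule.span F ({a} : Set (Fin 3 → F)) := fun h => by
    obtain ⟨l, hl⟩ := Submodule.mem_span_singleton.1 h
    exact hcon l hl.symm
  obtain ⟨u, hu, hbu⟩ := exists_perp_ne_zero (frob_frob hF) (hB_isSymm hF 3) (hB_nondegenerate hF 3) _ hbM
  have hau : hB hF 3 a u = 0 := hu a (Submodule.mem_span_singleton_self a)
  obtain ⟨x, hx⟩ : ∃ x, hB hF 3 a x ≠ 0 := by
    by_contra h
    push Not at h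
    exact ha ((hB_nondegenerate hF 3).1 a h)
  have hind : LinearIndependent F ![a, b, u, x] := by
    rw [Fintype.linearIndependent_iff]
    intro g hg
    simp only [Fin.sum_univ_four, Matrix.cons_val_zero, Matrix.cons_val_one, Matrix.cons_val] at hg
    have e1 := congrArg (hB hF 3 a) hg
    simp only [map_add, map_smul, smul_eq_mul, haa, hab, hau, map_zero, mul_zero, add_zero, zero_add] at e1
    have g3 : g 3 = 0 := (mul_eq_zero.1 e1).resolve_right hx
    have e2 := congrArg (hB hF 3 b) hg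
    simp only [map_add, map_smul, smul_eq_mul, hbb, swap0 hF hab, g3, map_zero, zero_mul, mul_zero, add_zero,
      zero_add] at e2
    have g2 : g 2 = 0 := (mul_eq_zero.1 e2).resolve_right hbu
    rw [g2, g3, zero_smul, zero_smul, add_zero, add_zero] at hg
    have g1 : g 1 = 0 := by
      by_contra h
      refine hcon (-(g 0) / g 1) ?_
      rw [neg_div, neg_smul, div_eq_inv_mul, mul_smul, ← smul_neg, eq_inv_smul_iff₀ h]
      exact eq_neg_of_add_eq_zero_right hg
    rw [g1, zero_smul, add_zero] at hg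
    have g0 : g 0 = 0 := (smul_eq_zero.1 hg).resolve_right ha
    intro i
    fin_cases i
    · exact g0
    · exact g1
    · exact g2
    · exact g3
  have := hind.fintype_card_le_finrank
  rw [finrank_fin_fun, Fintype.card_fin] at this
  omega

/-- A unitary matrix with prescribed last two columns. -/
theorem exists_frame {x p : Fin 3 → F} (hx : hB hF 3 x x = 1) (hp : hB hF 3 p p = 1) (hxp : hB hF 3 x p = 0) :
    ∃ g : ↥(Cfsg.GU 3 F q), g.1.1 *ᵥ (Pi.single 0 1) = x ∧ g.1.1 *ᵥ (Pi.single 2 1) = p := by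
  obtain ⟨y, hy, hy'⟩ := exists_common hF ![x, p] ![x, p]
    (fun l => Submodule.subset_span ⟨l, rfl⟩) (gram_two hF hx hp hxp) (by omega)
  have hyx : hB hF 3 x y = 0 := hy' 0
  have hyp : hB hF 3 p y = 0 := hy' 1
  let f : Fin 3 → (Fin 3 → F) := ![x, y, p]
  have hf : ∀ i j, hB hF 3 (f i) (f j) = if i = j then 1 else 0 := by
    intro i j
    fin_cases i <;> fin_cases j <;>
      simp [f, hx, hy, hp, hxp, hyx, hyp, swap0 hF hxp, swap0 hF hyx, swap0 hF hyp]
  let M : Matrix (Fin 3) (Fin 3) F := Matrix.of fun i j => f j i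
  have hM : ∀ v : Fin 3 → F, M *ᵥ v = ∑ j, v j • f j := fun v => by
    funext i
    simp [M, Matrix.mulVec, dotProduct, Fin.sum_univ_three, mul_comm]
  have hpres : ∀ u v, Cfsg.hermForm 3 F q (M *ᵥ u) (M *ᵥ v) = Cfsg.hermForm 3 F q u v := by
    intro u v
    rw [← hB_apply hF, ← hB_apply hF, hM, hM]
    simp only [map_sum, LinearMap.sum_apply, map_smul, LinearMap.map_smulₛₗ, LinearMap.smul_apply, hf,
      RingHom.id_apply, smul_eq_mul]
    simp [Fin.sum_univ_three, hB_apply, Cfsg.hermForm, frob_apply hF]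
  have hinj : Function.Injective M.mulVec := by
    intro u v huv
    have : ∀ w, hB hF 3 w (u - v) = 0 := fun w => by
      rw [map_sub, sub_eq_zero, hB_apply, hB_apply, ← hpres u w, ← hpres v w, huv]
    by_contra hne
    exact hne (sub_eq_zero.1 ((hB_nondegenerate hF 3).2 _ this))
  have hu : IsUnit M.det := by
    rw [← Matrix.isUnit_iff_isUnit_det]
    exact Matrix.mulVec_injective_iff_isUnit.1 hinj
  refine ⟨⟨Matrix.GeneralLinearGroup.mk'' M hu, hpres⟩, ?_, ?_⟩
  · show M *ᵥ _ = x
    rw [hM]; simp [Fin.sum_univ_three, f]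
  · show M *ᵥ _ = p
    rw [hM]; simp [Fin.sum_univ_three, f]

theorem fixP_single_two : fixP (Pi.single 2 (1 : F)) = (lo (F := F) (q := q)).range := by
  refine le_antisymm (fun g hg => mem_range_blk _ g fun k hk => ?_) ?_
  · have hk2 : k = 2 := by rw [range_sh01] at hk; fin_cases k <;> simp at hk ⊢
    subst hk2
    have hg' : act g (Pi.single 2 1) = Pi.single 2 1 := hg
    have col : ∀ i, mat g i 2 = (Pi.single 2 1 : Fin 3 → F) i := fun i => by
      rw [← hg']; simp
    refine ⟨by simpa using col 2, fun j hj => ⟨?_, by simpa [hj] using col j⟩⟩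
    have h := g.2 (Pi.single j 1) (Pi.single 2 1)
    change Cfsg.hermForm 3 F q (act g (Pi.single j 1)) (act g (Pi.single 2 1)) = _ at h
    rw [hg', Cfsg.hermForm, Cfsg.hermForm] at h
    have hq0 : q ≠ 0 := by have := two_le_q hF; omega
    simpa [Fin.sum_univ_three, Pi.single_eq_of_ne (Ne.symm hj), zero_pow hq0] using h
  · rintro _ ⟨g, rfl⟩
    have h2 : (2 : Fin 3) ∉ Set.range (sh (m := 2) (n := 3) 0 (by omega)) := by rw [range_sh01]; simp
    refine funext fun i => ?_
    show act (lo g) (Pi.single 2 1) i = _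
    rw [act, Matrix.mulVec_single_one, Matrix.col_apply, (mat_blk_off _ g h2 i).2]
    simp [Matrix.one_apply, Pi.single_apply]

theorem fixP_single_zero : fixP (Pi.single 0 (1 : F)) = (hi (F := F) (q := q)).range := by
  refine le_antisymm (fun g hg => mem_range_blk _ g fun k hk => ?_) ?_
  · have hk2 : k = 0 := by rw [range_sh12] at hk; fin_cases k <;> simp at hk ⊢
    subst hk2
    have hg' : act g (Pi.single 0 1) = Pi.single 0 1 := hg
    have col : ∀ i, mat g i 0 = (Pi.single 0 1 : Fin 3 → F) i := fun i => by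
      rw [← hg']; simp
    refine ⟨by simpa using col 0, fun j hj => ⟨?_, by simpa [hj] using col j⟩⟩
    have h := g.2 (Pi.single j 1) (Pi.single 0 1)
    change Cfsg.hermForm 3 F q (act g (Pi.single j 1)) (act g (Pi.single 0 1)) = _ at h
    rw [hg', Cfsg.hermForm, Cfsg.hermForm] at h
    have hq0 : q ≠ 0 := by have := two_le_q hF; omega
    simpa [Fin.sum_univ_three, Pi.single_eq_of_ne (Ne.symm hj), zero_pow hq0] using h
  · rintro _ ⟨g, rfl⟩
    have h2 : (0 : Fin 3) ∉ Set.range (sh (m := 2) (n := 3) 1 (by omega)) := by rw [range_sh12]; simp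
    refine funext fun i => ?_
    show act (hi g) (Pi.single 0 1) i = _
    rw [act, Matrix.mulVec_single_one, Matrix.col_apply, (mat_blk_off _ g h2 i).2]
    simp [Matrix.one_apply, Pi.single_apply]

theorem map_cnj_fixP (g : ↥(Cfsg.GU 3 F q)) (v : Fin 3 → F) :
    (fixP v).map (AutPSU.cnj g).toMonoidHom = fixP (q := q) (g.1.1 *ᵥ v) := by
  have inv' : (g.1⁻¹).1 *ᵥ (g.1.1 *ᵥ v) = v := by rw [Matrix.mulVec_mulVec, Units.inv_mul, Matrix.one_mulVec]
  ext x
  constructor
  · rintro ⟨s, hs, rfl⟩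
    show AutPSU.act (AutPSU.cnj g s) _ = _
    rw [AutPSU.act_cnj, inv']
    exact congrArg (g.1.1 *ᵥ ·) hs
  · intro hx
    refine ⟨(AutPSU.cnj g).symm x, ?_, (AutPSU.cnj g).apply_symm_apply x⟩
    have h1 := AutPSU.act_cnj g ((AutPSU.cnj g).symm x) (g.1.1 *ᵥ v)
    rw [MulEquiv.apply_symm_apply, inv'] at h1
    have h2 : g.1.1 *ᵥ v = g.1.1 *ᵥ (act ((AutPSU.cnj g).symm x) v) := hx.symm.trans h1
    have h3 := congrArg ((g.1⁻¹).1 *ᵥ ·) h2
    simp only [inv_mulVec_mulVec] at h3
    exact h3.symm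

/-- The stabiliser of a vector of norm one is a conjugate of the lower block. -/
theorem exists_cnj {p : Fin 3 → F} (hp : hB hF 3 p p = 1) :
    ∃ g : ↥(Cfsg.GU 3 F q), fixP p = (lo (F := F) (q := q)).range.map (AutPSU.cnj g).toMonoidHom := by
  obtain ⟨x, hx, hx'⟩ := exists_common hF ![p] ![p]
    (fun l => Submodule.subset_span ⟨l, rfl⟩) (gram_one hF hp) (by omega)
  have hpx : hB hF 3 p x = 0 := hx' 0
  obtain ⟨g, -, hg⟩ := exists_frame hF hx hp (swap0 hF hpx)
  exact ⟨g, by rw [← fixP_single_two hF, map_cnj_fixP hF, hg]⟩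

theorem card_fixP {p : Fin 3 → F} (hp : hB hF 3 p p = 1) : Nat.card (fixP (q := q) p) = Nat.card ↥(Cfsg.SU 2 F q) := by
  obtain ⟨g, hg⟩ := exists_cnj hF hp
  rw [hg, Nat.card_congr (Subgroup.equivMapOfInjective _ _ (AutPSU.cnj g).injective).toEquiv.symm]
  exact (Nat.card_congr (MonoidHom.ofInjective (blk_injective _)).toEquiv).symm

/-- The centre of a transvection. -/
structure Centre (t : Cfsg.SU 3 F q) (c : Fin 3 → F) : Prop where
  ne_zero : c ≠ 0
  iso : hB hF 3 c c = 0
  fix : ∀ v, hB hF 3 c v = 0 → act t v = v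
  fixed : ∀ v, act t v = v → hB hF 3 c v = 0
  shift : ∀ v, ∃ a : F, act t v = v + a • c

/-- In characteristic two an involution is a transvection. -/
theorem exists_centre (h2 : (2 : F) = 0) {t : Cfsg.SU 3 F q} (ht : t * t = 1) (ht1 : t ≠ 1) :
    ∃ c, Centre hF t c := by
  let f : (Fin 3 → F) →ₗ[F] (Fin 3 → F) := Matrix.mulVecLin (mat t) - LinearMap.id
  have hf : ∀ v, f v = act t v - v := fun v => rfl
  have htt : ∀ v, act t (act t v) = v := fun v => by rw [← act_mul, ht, act_one]
  have hff : ∀ v, f (f v) = 0 := fun v => by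
    have e : ∀ x : Fin 3 → F, x + x = 0 := fun x => by rw [← two_smul F x, h2, zero_smul]
    rw [hf, hf, show act t (act t v - v) = act t (act t v) - act t v from Matrix.mulVec_sub _ _ _, htt,
      ← neg_sub (act t v) v]
    have h' := eq_neg_of_add_eq_zero_left (e (act t v - v))
    exact sub_eq_zero.2 h'.symm
  have hle : LinearMap.range f ≤ LinearMap.ker f := by rintro _ ⟨v, rfl⟩; exact hff v
  have hdim := LinearMap.finrank_range_add_finrank_ker f
  rw [finrank_fin_fun] at hdim
  have h1 := Submodule.finrank_mono hle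
  obtain ⟨u, hu⟩ : ∃ u, f u ≠ 0 := by
    by_contra h
    push Not at h
    refine ht1 (act_ext fun i => ?_)
    rw [act_one, ← sub_eq_zero]
    exact h _
  set c := f u
  have hshift : ∀ v, ∃ a : F, act t v = v + a • c := by
    intro v
    have hr : finrank F (LinearMap.range f) = 1 := by
      refine le_antisymm (by omega) ?_
      rw [Nat.one_le_iff_ne_zero]
      intro h0
      rw [Submodule.finrank_eq_zero] at h0
      have hmem : c ∈ LinearMap.range f := ⟨u, rfl⟩
      rw [h0, Submodule.mem_bot] at hmem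
      exact hu hmem
    obtain ⟨a, ha⟩ := (finrank_eq_one_iff_of_nonzero' (⟨c, u, rfl⟩ : LinearMap.range f)
      (fun e => hu (congrArg Subtype.val e))).1 hr ⟨f v, v, rfl⟩
    refine ⟨a, ?_⟩
    have ha' : a • c = f v := congrArg Subtype.val ha
    rw [ha', hf, add_sub_cancel]
  have hfixed : ∀ v, act t v = v → hB hF 3 c v = 0 := by
    intro v hv
    have hu' : act t u = u + c := by rw [show c = act t u - u from rfl, add_sub_cancel]
    have := form_act hF t u v
    rw [hv, hu', map_add, LinearMap.add_apply, add_eq_left] at this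
    exact this
  have hcc : hB hF 3 c c = 0 := hfixed c (sub_eq_zero.1 (hff u))
  refine ⟨c, hu, hcc, fun v hv => ?_, hfixed, hshift⟩
  obtain ⟨a, ha⟩ := hshift v
  obtain ⟨x, hx⟩ : ∃ x, hB hF 3 c x ≠ 0 := by
    by_contra h
    push Not at h
    exact hu ((hB_nondegenerate hF 3).1 c h)
  obtain ⟨b, hb⟩ := hshift x
  have := form_act hF t v x
  rw [ha, hb] at this
  simp only [map_add, map_smul, LinearMap.map_smulₛₗ, LinearMap.add_apply, LinearMap.smul_apply, smul_eq_mul,
    hcc, swap0 hF hv, mul_zero, add_zero] at this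
  rcases mul_eq_zero.1 (add_eq_left.1 this) with h | h
  · rw [ha, (map_eq_zero (frob hF)).1 h, zero_smul, add_zero]
  · exact absurd h hx

/-- Commuting transvections share their centre. -/
theorem centre_dep {t t' : Cfsg.SU 3 F q} {c c' : Fin 3 → F} (ht : Centre hF t c) (ht' : Centre hF t' c')
    (hcomm : t * t' = t' * t) : ∃ l : F, c' = l • c := by
  obtain ⟨u, hu⟩ : ∃ u, hB hF 3 c' u ≠ 0 := by
    by_contra h
    push Not at h
    exact ht'.ne_zero ((hB_nondegenerate hF 3).1 c' h)
  obtain ⟨a, ha⟩ := ht'.shift u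
  have ha0 : a ≠ 0 := fun e => hu (ht'.fixed u (by rw [ha, e, zero_smul, add_zero]))
  obtain ⟨b, hb⟩ := ht'.shift (act t u)
  obtain ⟨d, hd⟩ := ht.shift c'
  have h := congrArg (fun g => act g u) hcomm
  simp only [act_mul] at h
  rw [ha, act_add, act_smul, hb, hd] at h
  rw [add_right_inj] at h
  by_cases hd0 : d = 0
  · rw [hd0, zero_smul, add_zero] at hd
    exact iso_dep hF ht.ne_zero ht.iso ht'.iso (ht.fixed c' hd)
  · have h' : (a * d) • c = (b - a) • c' := by
      rw [sub_smul, ← h, smul_add, smul_smul, add_sub_cancel_left]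
    by_cases hba : b - a = 0
    · rw [hba, zero_smul, smul_eq_zero] at h'
      exact absurd h' (by simp [ha0, hd0, ht.ne_zero])
    · exact ⟨(b - a)⁻¹ * (a * d), by rw [mul_smul, h', inv_smul_smul₀ hba]⟩

theorem commute_of_centre {t t' : Cfsg.SU 3 F q} {c : Fin 3 → F} {a b : F} {ct ct' : Fin 3 → F}
    (ht : Centre hF t ct) (ht' : Centre hF t' ct') (e : ct = a • c) (e' : ct' = b • c) : t * t' = t' * t := by
  have hfix : act t ct' = ct' := by
    refine ht.fix _ ?_
    have := ht.iso
    have ha : a ≠ 0 := fun h => ht.ne_zero (by rw [e, h, zero_smul])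
    have hc : hB hF 3 c c = 0 := by
      rw [e] at this
      simpa [ha] using this
    rw [e, e']
    simp [hc]
  have hfix' : act t' ct = ct := by
    refine ht'.fix _ ?_
    have := ht'.iso
    have hb : b ≠ 0 := fun h => ht'.ne_zero (by rw [e', h, zero_smul])
    have hc : hB hF 3 c c = 0 := by
      rw [e'] at this
      simpa [hb] using this
    rw [e, e']
    simp [hc]
  refine act_ext fun i => ?_
  obtain ⟨x, hx⟩ := ht.shift (Pi.single i 1)
  obtain ⟨y, hy⟩ := ht'.shift (Pi.single i 1)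
  rw [act_mul, act_mul, hy, hx, act_add, act_add, act_smul, act_smul, hfix, hfix', hx, hy, add_right_comm]

/-- A copy of `SU 2` fixes a vector of norm one: characteristic two. -/
theorem exists_point_even (h2 : (2 : F) = 0) {K : Type*} [Field K] [Fintype K] (hK : (2 : K) = 0)
    (f : SL(2, K) →* Cfsg.SU 3 F q) (hf : Function.Injective f) :
    ∃ p, hB hF 3 p p = 1 ∧ f.range ≤ fixP p := by
  classical
  have hsq : ∀ {i j : Fin 2} (hij : i ≠ j) (a : K), f (Matrix.SpecialLinearGroup.transvection hij a) *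
      f (Matrix.SpecialLinearGroup.transvection hij a) = 1 := by
    intro i j hij a
    rw [← map_mul, ← map_one f]
    congr 1
    refine Subtype.ext ?_
    show Matrix.transvection i j a * Matrix.transvection i j a = 1
    rw [Matrix.transvection_mul_transvection_same i j hij, ← two_mul, hK, zero_mul, Matrix.transvection_zero]
  have hne : ∀ {i j : Fin 2} (hij : i ≠ j) (a : K), a ≠ 0 → f (Matrix.SpecialLinearGroup.transvection hij a) ≠ 1 := by
    intro i j hij a ha e
    rw [map_eq_one_iff f hf] at e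
    have h := congrArg (fun s : SL(2, K) => s.1 i j) e
    simp [Matrix.SpecialLinearGroup.transvection_coe, Matrix.one_apply_ne hij, ha] at h
  have hcomm : ∀ {i j : Fin 2} (hij : i ≠ j) (a b : K), f (Matrix.SpecialLinearGroup.transvection hij a) *
      f (Matrix.SpecialLinearGroup.transvection hij b) = f (Matrix.SpecialLinearGroup.transvection hij b) *
      f (Matrix.SpecialLinearGroup.transvection hij a) := by
    intro i j hij a b
    rw [← map_mul, ← map_mul]
    congr 1
    refine Subtype.ext ?_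
    show Matrix.transvection i j a * Matrix.transvection i j b = Matrix.transvection i j b * Matrix.transvection i j a
    rw [Matrix.transvection_mul_transvection_same i j hij,
      Matrix.transvection_mul_transvection_same i j hij, add_comm]
  have hcen : ∀ {i j : Fin 2} (hij : i ≠ j), ∃ c, Centre hF (f (Matrix.SpecialLinearGroup.transvection hij 1)) c ∧
      ∀ a v, hB hF 3 c v = 0 → act (f (Matrix.SpecialLinearGroup.transvection hij a)) v = v := by
    intro i j hij
    obtain ⟨c, hc⟩ := exists_centre hF h2 (hsq hij 1) (hne hij 1 one_ne_zero)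
    refine ⟨c, hc, fun a v hv => ?_⟩
    by_cases ha : a = 0
    · have : Matrix.SpecialLinearGroup.transvection hij (0 : K) = 1 :=
        Subtype.ext (Matrix.transvection_zero i j)
      rw [ha, this, map_one, act_one]
    · obtain ⟨c', hc'⟩ := exists_centre hF h2 (hsq hij a) (hne hij a ha)
      obtain ⟨l, hl⟩ := centre_dep hF hc hc' (hcomm hij 1 a)
      refine hc'.fix v ?_
      rw [hl, LinearMap.map_smulₛₗ, LinearMap.smul_apply, hv, smul_zero]
  obtain ⟨c, hc, hcv⟩ := hcen (show (0 : Fin 2) ≠ 1 by decide)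
  obtain ⟨d, hd, hdv⟩ := hcen (show (1 : Fin 2) ≠ 0 by decide)
  obtain ⟨v, hv, hv0⟩ : ∃ v ∈ perpT hF ![c, d], v ≠ 0 := by
    refine Submodule.exists_mem_ne_zero_of_ne_bot fun h => ?_
    have := le_finrank_perpT hF ![c, d]
    rw [h, finrank_bot] at this
    omega
  have hvc := (mem_perpT hF).1 hv 0
  have hvd := (mem_perpT hF).1 hv 1
  simp only [Matrix.cons_val_zero, Matrix.cons_val_one] at hvc hvd
  have hvv : hB hF 3 v v ≠ 0 := by
    intro h0
    obtain ⟨l, hl⟩ := iso_dep hF hv0 h0 hc.iso (swap0 hF hvc)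
    obtain ⟨l', hl'⟩ := iso_dep hF hv0 h0 hd.iso (swap0 hF hvd)
    have h := commute_of_centre hF hc hd hl hl'
    rw [← map_mul, ← map_mul] at h
    have h' := congrArg (fun s : SL(2, K) => s.1 0 0) (hf h)
    simp [Matrix.SpecialLinearGroup.transvection_coe, Matrix.mul_apply, Fin.sum_univ_two] at h'
  obtain ⟨a, ha0, ha⟩ := exists_scale hF hvv
  refine ⟨a • v, ha, ?_⟩
  rw [MonoidHom.range_eq_map, ← closure_transvection_eq_top, MonoidHom.map_closure, Subgroup.closure_le]
  rintro _ ⟨_, ⟨i, j, hij, x, rfl⟩, rfl⟩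
  show act _ (a • v) = a • v
  rw [act_smul]
  congr 1
  fin_cases i <;> fin_cases j
  · exact absurd rfl hij
  · exact hcv x v hvc
  · exact hdv x v hvd
  · exact absurd rfl hij

/-- A copy of `SU 2` fixes a vector of norm one: odd characteristic. -/
theorem exists_point_odd (h2 : (2 : F) ≠ 0) (f : Cfsg.SU 2 F q →* Cfsg.SU 3 F q) (hf : Function.Injective f)
    (hperf : commutator ↥(Cfsg.SU 2 F q) = ⊤) : ∃ p, hB hF 3 p p = 1 ∧ f.range ≤ fixP p := by
  have hq0 : q ≠ 0 := by have := two_le_q hF; omega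
  obtain ⟨z, z00, z01, z10, z11⟩ := exists_su_two hF (a := (-1 : F)) (b := 0) (by
    rw [neg_pow_q hF]; simp [zero_pow hq0])
  rw [zero_pow hq0, neg_zero] at z10
  rw [neg_pow_q hF, one_pow] at z11
  have hz : ∀ g, z * g = g * z := fun g => mat_ext (by
    show mat z * mat g = mat g * mat z
    ext i j
    fin_cases i <;> fin_cases j <;> simp [Matrix.mul_apply, Fin.sum_univ_two, z00, z01, z10, z11])
  have hzz : z * z = 1 := mat_ext (by
    show mat z * mat z = 1
    ext i j
    fin_cases i <;> fin_cases j <;> simp [Matrix.mul_apply, Fin.sum_univ_two, z00, z01, z10, z11])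
  have hz1 : z ≠ 1 := fun e => by
    have h := congrArg (fun g => mat g 0 0) e
    simp only [z00] at h
    exact h2 (by rw [show mat (1 : Cfsg.SU 2 F q) 0 0 = 1 from rfl] at h; linear_combination -h)
  set Z := f z
  let L : (Fin 3 → F) →ₗ[F] (Fin 3 → F) := Matrix.mulVecLin (mat Z)
  have hZZ : ∀ v, act Z (act Z v) = v := fun v => by rw [← act_mul, ← map_mul, hzz, map_one, act_one]
  let Kp := LinearMap.ker (L - LinearMap.id)
  let Km := LinearMap.ker (L + LinearMap.id)
  have hKp : ∀ v, v ∈ Kp ↔ act Z v = v := fun v => by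
    show act Z v - v = 0 ↔ _
    rw [sub_eq_zero]
  have hKm : ∀ v, v ∈ Km ↔ act Z v = -v := fun v => by
    show act Z v + v = 0 ↔ _
    rw [add_eq_zero_iff_eq_neg]
  have hdec : ∀ v, ∃ a ∈ Kp, ∃ b ∈ Km, v = a + b := fun v => by
    refine ⟨(2 : F)⁻¹ • (v + act Z v), ?_, (2 : F)⁻¹ • (v - act Z v), ?_, ?_⟩
    · rw [hKp, act_smul, act_add, hZZ, add_comm]
    · rw [hKm, act_smul, show act Z (v - act Z v) = act Z v - act Z (act Z v) from Matrix.mulVec_sub _ _ _, hZZ,
        ← smul_neg, neg_sub]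
    · rw [← smul_add, add_add_sub_cancel, ← two_smul F v, inv_smul_smul₀ h2]
  have horth : ∀ a ∈ Kp, ∀ b ∈ Km, hB hF 3 a b = 0 := by
    intro a ha b hb
    rw [hKp] at ha
    rw [hKm] at hb
    have h := form_act hF Z a b
    rw [ha, hb, map_neg] at h
    exact (mul_eq_zero.1 (show (2 : F) * hB hF 3 a b = 0 by linear_combination -h)).resolve_left h2
  have hinf : Kp ⊓ Km = ⊥ := by
    rw [eq_bot_iff]
    intro v hv
    obtain ⟨h₁, h₂⟩ := hv
    rw [SetLike.mem_coe, hKp] at h₁
    rw [SetLike.mem_coe, hKm, h₁, eq_neg_iff_add_eq_zero, ← two_smul F v] at h₂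
    exact (Submodule.mem_bot F).2 ((smul_eq_zero.1 h₂).resolve_left h2)
  have hsum := Submodule.finrank_sup_add_finrank_inf_eq Kp Km
  rw [hinf, finrank_bot, add_zero] at hsum
  have hle := Submodule.finrank_le (Kp ⊔ Km)
  rw [finrank_fin_fun] at hle
  have hZ1 : ∃ v, act Z v ≠ v := by
    by_contra h
    push Not at h
    exact hz1 ((map_eq_one_iff f hf).1 (act_ext fun i => by rw [act_one]; exact h _))
  have hKm0 : Km ≠ ⊥ := by
    obtain ⟨v, hv⟩ := hZ1
    obtain ⟨a, ha, b, hb, rfl⟩ := hdec v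
    intro h
    rw [h, Submodule.mem_bot] at hb
    rw [hb, add_zero] at hv
    exact hv ((hKp a).1 ha)
  have hKp0 : Kp ≠ ⊥ := by
    intro h
    have hneg : mat Z = -1 := by
      refine Matrix.ext_of_mulVec_single fun i => ?_
      obtain ⟨a, ha, b, hb, he⟩ := hdec (Pi.single i 1)
      rw [h, Submodule.mem_bot] at ha
      rw [ha, zero_add] at he
      rw [Matrix.neg_mulVec, Matrix.one_mulVec, he]
      exact (hKm b).1 hb
    have hdet := (Z : SL(3, F)).2
    change (mat Z).det = 1 at hdet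
    rw [hneg, Matrix.det_neg, Matrix.det_one, Fintype.card_fin] at hdet
    exact h2 (by linear_combination -hdet)
  obtain ⟨K₁, K₂, h1, hstab, hperp, hdec'⟩ : ∃ K₁ K₂ : Submodule F (Fin 3 → F), finrank F K₁ = 1 ∧
      (∀ g, ∀ v ∈ K₁, act (f g) v ∈ K₁) ∧ (∀ a ∈ K₁, ∀ b ∈ K₂, hB hF 3 a b = 0) ∧
      (∀ v, ∃ a ∈ K₁, ∃ b ∈ K₂, v = a + b) := by
    have hpos1 : finrank F Kp ≠ 0 := fun h => hKp0 (Submodule.finrank_eq_zero.1 h)
    have hpos2 : finrank F Km ≠ 0 := fun h => hKm0 (Submodule.finrank_eq_zero.1 h)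
    have hcomm : ∀ g v, act Z (act (f g) v) = act (f g) (act Z v) := fun g v => by
      rw [← act_mul, ← act_mul, ← map_mul, ← map_mul, hz]
    rcases Nat.lt_or_ge (finrank F Kp) 2 with hlt | hge
    · refine ⟨Kp, Km, by omega, fun g v hv => ?_, horth, hdec⟩
      rw [hKp] at hv ⊢
      rw [hcomm, hv]
    · refine ⟨Km, Kp, by omega, fun g v hv => ?_, fun a ha b hb => swap0 hF (horth b hb a ha), fun v => ?_⟩
      · rw [hKm] at hv ⊢
        rw [hcomm, hv, show act (f g) (-v) = -act (f g) v from Matrix.mulVec_neg _ _]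
      · obtain ⟨a, ha, b, hb, he⟩ := hdec v
        exact ⟨b, hb, a, ha, by rw [he, add_comm]⟩
  obtain ⟨⟨p, hp⟩, hp0, hspan⟩ := finrank_eq_one_iff'.1 h1
  have hp0' : p ≠ 0 := fun e => hp0 (Subtype.ext e)
  have hscal : ∀ g, ∃ x : F, act (f g) p = x • p := fun g => by
    obtain ⟨x, hx⟩ := hspan ⟨_, hstab g p hp⟩
    exact ⟨x, (congrArg Subtype.val hx).symm⟩
  have hpp : hB hF 3 p p ≠ 0 := by
    intro h0
    refine hp0' ((hB_nondegenerate hF 3).1 p fun v => ?_)
    obtain ⟨a, ha, b, hb, rfl⟩ := hdec' v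
    obtain ⟨x, hx⟩ := hspan ⟨a, ha⟩
    rw [map_add, hperp p hp b hb, add_zero, ← show x • p = a from congrArg Subtype.val hx, map_smul, h0, smul_zero]
  obtain ⟨a, -, ha⟩ := exists_scale hF hpp
  refine ⟨a • p, ha, ?_⟩
  rw [MonoidHom.range_eq_map, ← hperf, Subgroup.map_le_iff_le_comap, commutator_def, Subgroup.commutator_le]
  intro g _ h _
  obtain ⟨x, hx⟩ := hscal g
  obtain ⟨y, hy⟩ := hscal h
  show act (f ⁅g, h⁆) (a • p) = a • p
  rw [act_smul]
  congr 1
  have hxy : act (f (g * h)) p = act (f (h * g)) p := by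
    rw [map_mul, map_mul, act_mul, act_mul, hx, hy, act_smul, act_smul, hx, hy, smul_smul, smul_smul, mul_comm]
  have e : ⁅g, h⁆ * (h * g) = g * h := by rw [commutatorElement_def]; group
  have h3 : act (f ⁅g, h⁆) (act (f (h * g)) p) = act (f (h * g)) p := by
    rw [← act_mul, ← map_mul, e, hxy]
  obtain ⟨w, hw⟩ := hscal (h * g)
  rw [hw, act_smul] at h3
  have hw0 : w ≠ 0 := fun e0 => hp0' (by
    rw [← act_inv_act (f (h * g)) p, hw, e0, zero_smul]; exact Matrix.mulVec_zero _)
  exact smul_right_injective _ hw0 h3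

/-- A copy of `SU 2` in `SU 3` is the stabiliser of a vector of norm one. -/
theorem exists_point (hq : 4 ≤ q) (f : Cfsg.SU 2 F q →* Cfsg.SU 3 F q) (hf : Function.Injective f) :
    ∃ p, hB hF 3 p p = 1 ∧ f.range = fixP p := by
  obtain ⟨K, instK, S, Φ, hKc, -⟩ := exists_conj_sl hF
  obtain ⟨p, hp, hle⟩ : ∃ p, hB hF 3 p p = 1 ∧ f.range ≤ fixP p := by
    by_cases h2 : (2 : F) = 0
    · obtain ⟨p, hp, hle⟩ := exists_point_even hF h2 (K := K) (Subtype.ext h2) (f.comp Φ.toMonoidHom)
        (hf.comp Φ.injective)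
      refine ⟨p, hp, ?_⟩
      rwa [MonoidHom.range_comp, MonoidHom.range_eq_top.2 Φ.surjective, ← MonoidHom.range_eq_map] at hle
    · refine exists_point_odd hF h2 f hf ?_
      have := congrArg (Subgroup.map Φ.toMonoidHom) (commutator_sl_two (K := K) (by rw [hKc]; exact hq))
      rw [commutator_def, Subgroup.map_commutator, Subgroup.map_top_of_surjective _ Φ.surjective] at this
      exact this
  refine ⟨p, hp, Subgroup.eq_of_le_of_card_ge hle ?_⟩
  rw [card_fixP hF hp]
  exact (Nat.card_congr (MonoidHom.ofInjective hf).toEquiv).le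

/-- The fixed space of a torus element is the line of the fixed vector. -/
theorem eq_smul_of_fixed (hq : 4 ≤ q) {p v : Fin 3 → F} (hp : hB hF 3 p p = 1) {a : Cfsg.SU 3 F q}
    (ha : a ∈ fixP p) (hord : orderOf a = q + 1) (hv : act a v = v) : ∃ x : F, v = x • p := by
  obtain ⟨g, hg⟩ := exists_cnj hF hp
  rw [hg] at ha
  obtain ⟨_, ⟨k, rfl⟩, rfl⟩ := ha
  -- the vector in the frame
  set w := (g.1⁻¹).1 *ᵥ v with hwdef
  have hgw : g.1.1 *ᵥ w = v := by rw [hwdef, Matrix.mulVec_mulVec, Units.mul_inv, Matrix.one_mulVec]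
  have hw : act (lo k) w = w := by
    have h := AutPSU.act_cnj g (lo k) v
    have h' : v = g.1.1 *ᵥ (act (lo k) w) := hv.symm.trans h
    have h3 := congrArg ((g.1⁻¹).1 *ᵥ ·) h'
    simp only [inv_mulVec_mulVec] at h3
    exact h3.symm
  by_cases hzero : w 0 = 0 ∧ w 1 = 0
  · have hw2 : w = w 2 • (Pi.single 2 1 : Fin 3 → F) := by
      funext i; fin_cases i <;> simp [hzero.1, hzero.2]
    obtain ⟨x, hx⟩ : ∃ x : F, p = x • (g.1.1 *ᵥ Pi.single 2 1) := by
      -- both vectors are fixed by the whole conjugate block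
      have hpf : ∀ s, AutPSU.cnj g (lo s) ∈ fixP p := fun s => by rw [hg]; exact ⟨_, ⟨s, rfl⟩, rfl⟩
      obtain ⟨μ, hμ, hμ2⟩ := exists_unit hF (two_le_q hF)
      have hq0 : q ≠ 0 := by omega
      have hμ' : μ * μ ^ q = 1 := by rw [← hμ, pow_succ, mul_comm]
      obtain ⟨d, d00, d01, d10, d11⟩ := exists_su_two hF (a := μ) (b := 0) (by simp [hμ', zero_pow hq0])
      rw [zero_pow hq0, neg_zero] at d10
      have hμ1 : μ ≠ 1 := fun e => hμ2 (by rw [e, one_mul])
      have hμq1 : μ ^ q ≠ 1 := fun e => hμ1 (by rw [← hμ', e, mul_one])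
      set r := (g.1⁻¹).1 *ᵥ p with hrdef
      have hgr : g.1.1 *ᵥ r = p := by rw [hrdef, Matrix.mulVec_mulVec, Units.mul_inv, Matrix.one_mulVec]
      have h' : p = g.1.1 *ᵥ (act (lo d) r) := (hpf d).symm.trans (AutPSU.act_cnj g (lo d) p)
      have h3 := congrArg ((g.1⁻¹).1 *ᵥ ·) h'
      simp only [inv_mulVec_mulVec] at h3
      have hr : act (lo d) r = r := h3.symm
      have e0 := congrFun hr 0
      have e1 := congrFun hr 1
      simp [act, mat_lo, Matrix.mulVec, dotProduct, Fin.sum_univ_three, d00, d01, d10, d11, hμ1, hμq1] at e0 e1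
      have r0 : r 0 = 0 := (mul_eq_zero.1 (show (μ - 1) * r 0 = 0 by linear_combination e0)).resolve_left (sub_ne_zero.2 hμ1)
      have r1 : r 1 = 0 := (mul_eq_zero.1 (show (μ ^ q - 1) * r 1 = 0 by linear_combination e1)).resolve_left (sub_ne_zero.2 hμq1)
      refine ⟨r 2, ?_⟩
      rw [← Matrix.mulVec_smul]
      conv_lhs => rw [← hgr]
      congr 1
      funext i; fin_cases i <;> simp [r0, r1]
    have hx0 : x ≠ 0 := fun e => by rw [hx, e, zero_smul] at hp; simp at hp
    exact ⟨w 2 * x⁻¹, by rw [hx, smul_smul, inv_mul_cancel_right₀ hx0, ← Matrix.mulVec_smul, ← hw2, hgw]⟩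
  · exfalso
    have e0 := congrFun hw 0
    have e1 := congrFun hw 1
    simp [act, mat_lo, Matrix.mulVec, dotProduct, Fin.sum_univ_three] at e0 e1
    have hdet : mat k 0 0 * mat k 1 1 - mat k 0 1 * mat k 1 0 = 1 := by
      have := k.1.2; rwa [Matrix.det_fin_two] at this
    have htr : mat k 0 0 + mat k 1 1 = 2 := by
      rcases not_and_or.1 hzero with h | h
      · refine mul_right_cancel₀ h ?_
        linear_combination w 0 * hdet + mat k 0 1 * e1 - (mat k 1 1 - 1) * e0
      · refine mul_right_cancel₀ h ?_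
        linear_combination w 1 * hdet + mat k 1 0 * e0 - (mat k 0 0 - 1) * e1
    have hsq : (mat k - 1) * (mat k - 1) = 0 := by
      ext i j
      fin_cases i <;> fin_cases j <;> simp [Matrix.mul_apply, Fin.sum_univ_two]
      · linear_combination (mat k 0 0) * htr - hdet
      · linear_combination (mat k 0 1) * htr
      · linear_combination (mat k 1 0) * htr
      · linear_combination (mat k 1 1) * htr - hdet
    have hpow : ∀ i : ℕ, mat (k ^ i) = 1 + (i : F) • (mat k - 1) := by
      intro i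
      induction i with
      | zero => rw [pow_zero, Nat.cast_zero, zero_smul, add_zero]; rfl
      | succ i ih =>
        rw [pow_succ, show mat (k ^ i * k) = mat (k ^ i) * mat k from rfl, ih, add_mul, one_mul,
          show ((i : F) • (mat k - 1)) * mat k = (i : F) • ((mat k - 1) * ((mat k - 1) + 1)) by
            rw [sub_add_cancel, Matrix.smul_mul], mul_add, hsq, mul_one, zero_add,
          Nat.cast_succ, add_smul, one_smul]
        abel
    have hq0' : (q : F) = 0 := by
      have : ((q ^ 2 : ℕ) : F) = 0 := by rw [← hF]; exact Nat.cast_card_eq_zero F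
      simpa using this
    have hk : k ^ q = 1 := mat_ext (by rw [hpow, hq0', zero_smul, add_zero]; rfl)
    have h' : (AutPSU.cnj g (lo k)) ^ q = 1 := by rw [← map_pow, ← map_pow, hk, map_one, map_one]
    have hdvd := orderOf_dvd_of_pow_eq_one h'
    rw [show orderOf (AutPSU.cnj g (lo k)) = q + 1 from hord] at hdvd
    have := Nat.le_of_dvd (by omega) hdvd
    omega

omit hF in
/-- The subgroups `A` and `B` of a copy of `SU 3` form a standard pair. -/
theorem isStandardUnitaryPair_of_iso {G : Type*} [Group G] (hF : Fintype.card F = q ^ 2) (hq : 4 ≤ q)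
    {A B DA DB : Subgroup G} (eA : ↥(Cfsg.SU 2 F q) ≃* ↥A) (eB : ↥(Cfsg.SU 2 F q) ≃* ↥B)
    (e : ↥(A ⊔ B) ≃* ↥(Cfsg.SU 3 F q))
    (hA : DA ≤ A ∧ IsCyclic ↥DA ∧ Nat.card ↥DA = q + 1) (hB' : DB ≤ B ∧ IsCyclic ↥DB ∧ Nat.card ↥DB = q + 1)
    (hcomm : ∀ x ∈ DA, ∀ y ∈ DB, x * y = y * x) :
    Cfsg.IsStandardUnitaryPair (A ⊔ B) A B F q := by
  let fA : ↥(Cfsg.SU 2 F q) →* ↥(Cfsg.SU 3 F q) :=
    e.toMonoidHom.comp ((Subgroup.inclusion (le_sup_left : A ≤ A ⊔ B)).comp eA.toMonoidHom)
  let fB : ↥(Cfsg.SU 2 F q) →* ↥(Cfsg.SU 3 F q) :=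
    e.toMonoidHom.comp ((Subgroup.inclusion (le_sup_right : B ≤ A ⊔ B)).comp eB.toMonoidHom)
  have hfA : Function.Injective fA := e.injective.comp ((Subgroup.inclusion_injective le_sup_left).comp eA.injective)
  have hfB : Function.Injective fB := e.injective.comp ((Subgroup.inclusion_injective le_sup_right).comp eB.injective)
  obtain ⟨pA, hpA, hrA⟩ := exists_point hF hq fA hfA
  obtain ⟨pB, hpB, hrB⟩ := exists_point hF hq fB hfB
  have memA : ∀ x : ↥(A ⊔ B), (x : G) ∈ A ↔ e x ∈ fixP pA := fun x => by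
    rw [← hrA]
    constructor
    · intro hx
      refine ⟨eA.symm ⟨x, hx⟩, ?_⟩
      show e (Subgroup.inclusion (le_sup_left : A ≤ A ⊔ B) (eA (eA.symm _))) = e x
      rw [MulEquiv.apply_symm_apply]
      exact congrArg e (Subtype.ext rfl)
    · rintro ⟨s, hs⟩
      rw [← e.injective hs]
      exact (eA s).2
  have memB : ∀ x : ↥(A ⊔ B), (x : G) ∈ B ↔ e x ∈ fixP pB := fun x => by
    rw [← hrB]
    constructor
    · intro hx
      refine ⟨eB.symm ⟨x, hx⟩, ?_⟩
      show e (Subgroup.inclusion (le_sup_right : B ≤ A ⊔ B) (eB (eB.symm _))) = e x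
      rw [MulEquiv.apply_symm_apply]
      exact congrArg e (Subtype.ext rfl)
    · rintro ⟨s, hs⟩
      rw [← e.injective hs]
      exact (eB s).2
  obtain ⟨⟨a, haD⟩, ha⟩ := @IsCyclic.exists_ofOrder_eq_natCard ↥DA _ hA.2.1
  obtain ⟨⟨b, hbD⟩, hb⟩ := @IsCyclic.exists_ofOrder_eq_natCard ↥DB _ hB'.2.1
  rw [hA.2.2, Subgroup.orderOf_mk] at ha
  rw [hB'.2.2, Subgroup.orderOf_mk] at hb
  let a' : ↥(A ⊔ B) := ⟨a, Subgroup.mem_sup_left (hA.1 haD)⟩
  let b' : ↥(A ⊔ B) := ⟨b, Subgroup.mem_sup_right (hB'.1 hbD)⟩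
  have hoa : orderOf (e a') = q + 1 := by rw [MulEquiv.orderOf_eq, Subgroup.orderOf_mk, ha]
  have hob : orderOf (e b') = q + 1 := by rw [MulEquiv.orderOf_eq, Subgroup.orderOf_mk, hb]
  have hab : e a' * e b' = e b' * e a' := by
    rw [← map_mul, ← map_mul]
    exact congrArg e (Subtype.ext (hcomm a haD b hbD))
  have hfa : act (e a') pA = pA := (memA a').1 (hA.1 haD)
  have hfb : act (e b') pB = pB := (memB b').1 (hB'.1 hbD)
  -- the fixed vectors are perpendicular
  have hperp : hB hF 3 pB pA = 0 := by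
    obtain ⟨x, hx⟩ : ∃ x : F, act (e b') pA = x • pA :=
      eq_smul_of_fixed hF hq hpA ((memA a').1 (hA.1 haD)) hoa (by rw [← act_mul, hab, act_mul, hfa])
    by_contra hne
    have h := form_act hF (e b') pB pA
    rw [hfb, hx, map_smul, smul_eq_mul] at h
    have hx1 : x = 1 := mul_right_cancel₀ hne (by rw [h, one_mul])
    rw [hx1, one_smul] at hx
    obtain ⟨y, hy⟩ := eq_smul_of_fixed hF hq hpB ((memB b').1 (hB'.1 hbD)) hob hx
    have hAB : fixP (q := q) pA = fixP pB := by
      have hy0 : y ≠ 0 := fun e0 => by rw [hy, e0, zero_smul] at hpA; simp at hpA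
      ext g
      show act g pA = pA ↔ act g pB = pB
      rw [hy, act_smul]
      exact ⟨fun h => smul_right_injective _ hy0 h, fun h => by rw [h]⟩
    have hABG : A = B := by
      refine le_antisymm (fun g hg => ?_) fun g hg => ?_
      · have := (memA ⟨g, Subgroup.mem_sup_left hg⟩).1 hg
        rw [hAB] at this
        exact (memB _).2 this
      · have := (memB ⟨g, Subgroup.mem_sup_right hg⟩).1 hg
        rw [← hAB] at this
        exact (memA _).2 this
    -- then the whole of `SU 3` would fix a vector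
    have htop : fixP (q := q) pA = ⊤ := by
      refine eq_top_iff.2 fun g _ => ?_
      obtain ⟨x, rfl⟩ := e.surjective g
      refine (memA x).1 ?_
      have h2 : A ⊔ B = A := by rw [← hABG, sup_idem]
      exact (SetLike.ext_iff.1 h2 (x : G)).1 x.2
    obtain ⟨g, hg⟩ := exists_cnj hF hpA
    rw [htop] at hg
    have hlo : (lo (F := F) (q := q)).range = ⊤ := by
      refine Subgroup.map_injective (f := (AutPSU.cnj g).toMonoidHom) (AutPSU.cnj g).injective ?_
      rw [← hg, Subgroup.map_top_of_surjective _ (AutPSU.cnj g).surjective]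
    obtain ⟨w, w00, w01, w10, w11⟩ := exists_swap hF
    obtain ⟨k, hk⟩ : hi w ∈ (lo (F := F) (q := q)).range := hlo ▸ Subgroup.mem_top _
    have h := congrArg (fun y => mat y 1 2) hk
    simp [mat_lo, mat_hi, w01] at h
  obtain ⟨g, hg0, hg2⟩ := exists_frame hF hpB hpA hperp
  refine Or.inl ⟨(AutPSU.cnj g).trans e.symm, ?_, ?_⟩
  · rw [← range_lo, ← fixP_single_two hF, ← Subgroup.map_map,
      show ((AutPSU.cnj g).trans e.symm).toMonoidHom = e.symm.toMonoidHom.comp (AutPSU.cnj g).toMonoidHom from rfl,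
      ← Subgroup.map_map, map_cnj_fixP hF, hg2]
    ext x
    constructor
    · rintro ⟨y, ⟨s, hs, rfl⟩, rfl⟩
      exact (memA _).2 (by rw [show e (e.symm.toMonoidHom s) = s from e.apply_symm_apply s]; exact hs)
    · intro hx
      exact ⟨⟨x, Subgroup.mem_sup_left hx⟩, ⟨e ⟨x, Subgroup.mem_sup_left hx⟩, (memA _).1 hx, e.symm_apply_apply _⟩, rfl⟩
  · rw [← range_hi, ← fixP_single_zero hF, ← Subgroup.map_map,
      show ((AutPSU.cnj g).trans e.symm).toMonoidHom = e.symm.toMonoidHom.comp (AutPSU.cnj g).toMonoidHom from rfl,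
      ← Subgroup.map_map, map_cnj_fixP hF, hg0]
    ext x
    constructor
    · rintro ⟨y, ⟨s, hs, rfl⟩, rfl⟩
      exact (memB _).2 (by rw [show e (e.symm.toMonoidHom s) = s from e.apply_symm_apply s]; exact hs)
    · intro hx
      exact ⟨⟨x, Subgroup.mem_sup_right hx⟩, ⟨e ⟨x, Subgroup.mem_sup_right hx⟩, (memB _).1 hx, e.symm_apply_apply _⟩, rfl⟩

end Cfsg.Lib.Phan
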