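import Cfsg.Agent.Lib.Phan.TwoField
import Cfsg.Agent.Lib.Phan.StdPair
import Cfsg.Agent.Lib.Phan.Cover

/-!
# Maps of `SU 3` over the field with four elements are determined by the two blocks

The two blocks generate a normal subgroup of index four; a map into `SU 4` that agrees there with a block embedding
differs from it by a central character of exponent dividing three and four.
-/

set_option autoImplicit false
set_option linter.unusedSectionVars false
set_option linter.style.haveILetI false

namespace Cfsg.Lib.Phan.Two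

open Cfsg Cfsg.Lib.Linear Cfsg.Lib.Linear.Herm Cfsg.Lib.UnitMult.Step Cfsg.Lib.Phan
open scoped Matrix

variable {F : Type*} [Field F] [Fintype F] (hF : Fintype.card F = 2 ^ 2)

set_option quotPrecheck false in
local notation "G₃" => ↥(Cfsg.SU 3 F 2)

/-- The subgroup generated by the two blocks. -/
noncomputable def Mon (F : Type*) [Field F] : Subgroup ↥(Cfsg.SU 3 F 2) :=
  (lo (F := F) (q := 2)).range ⊔ hi.range

theorem lo_mem_mon (s : Cfsg.SU 2 F 2) : lo s ∈ Mon F := Subgroup.mem_sup_left ⟨s, rfl⟩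

theorem hi_mem_mon (s : Cfsg.SU 2 F 2) : hi s ∈ Mon F := Subgroup.mem_sup_right ⟨s, rfl⟩

theorem act_smul' {n : ℕ} (g : Cfsg.SU n F 2) (a : F) (v : Fin n → F) : act g (a • v) = a • act g v :=
  Matrix.mulVec_smul _ _ _

include hF

theorem act_lo (s : Cfsg.SU 2 F 2) (v : Fin 3 → F) :
    act (lo s) v = ![mat s 0 0 * v 0 + mat s 0 1 * v 1, mat s 1 0 * v 0 + mat s 1 1 * v 1, v 2] := by
  funext i
  fin_cases i <;> simp [act, mat_lo, Matrix.mulVec, dotProduct, Fin.sum_univ_three]

theorem act_hi (s : Cfsg.SU 2 F 2) (v : Fin 3 → F) :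
    act (hi s) v = ![v 0, mat s 0 0 * v 1 + mat s 0 1 * v 2, mat s 1 0 * v 1 + mat s 1 1 * v 2] := by
  funext i
  fin_cases i <;> simp [act, mat_hi, Matrix.mulVec, dotProduct, Fin.sum_univ_three]

theorem form_three (u v : Fin 3 → F) : hB hF 3 u v = u 0 ^ 2 * v 0 + u 1 ^ 2 * v 1 + u 2 ^ 2 * v 2 := by
  rw [hB_apply, Cfsg.hermForm, Fin.sum_univ_three]
  ring

/-- An element fixing a coordinate vector is in the subgroup. -/
theorem mem_mon_of_fix {g : G₃} {k : Fin 3} (h : act g (Pi.single k 1) = Pi.single k 1) : g ∈ Mon F := by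
  have h2 : ∀ {y : G₃}, act y (Pi.single 2 1) = Pi.single 2 1 → y ∈ Mon F := fun {y} hy =>
    Subgroup.mem_sup_left (fixP_single_two hF ▸ (hy : y ∈ fixP (Pi.single 2 1)))
  fin_cases k
  · exact Subgroup.mem_sup_right (fixP_single_zero hF ▸ (h : g ∈ fixP (Pi.single 0 1)))
  · set w := hi (tt hF) with hw
    have hw1 : act w (Pi.single 1 1) = Pi.single 2 1 := by
      funext i; rw [hw, act_hi hF, mat_tt]; fin_cases i <;> simp
    have hw2 : act w (Pi.single 2 1) = Pi.single 1 1 := by
      funext i; rw [hw, act_hi hF, mat_tt]; fin_cases i <;> simp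
    have hm : w * g * w ∈ Mon F := h2 (by
      rw [act_mul, act_mul, hw2]
      show act w (act g (Pi.single 1 1)) = _
      rw [show act g (Pi.single 1 1) = Pi.single 1 1 from h, hw1])
    have hww : w * w = 1 := by rw [hw, ← map_mul, tt_tt, map_one]
    have hwm : w ∈ Mon F := hi_mem_mon _
    have := mul_mem (mul_mem hwm hm) hwm
    rwa [show w * (w * g * w) * w = (w * w) * g * (w * w) by group, hww, one_mul, mul_one] at this
  · exact h2 h

/-- Conjugates of an element fixing the perpendicular of an isotropic vector. -/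
theorem conj_mem {x : G₃} {c : Fin 3 → F} (hc : hB hF 3 c c = 0) (hfix : ∀ v, hB hF 3 c v = 0 → act x v = v)
    (g : G₃) : g * x * g⁻¹ ∈ Mon F := by
  obtain ⟨k, hk⟩ : ∃ k, act g c k = 0 := by
    by_contra hno
    push Not at hno
    have h := form_act hF g c c
    rw [hc, form_three] at h
    refine one_ne_zero (α := F) ?_
    linear_combination h - cube hF (hno 0) - cube hF (hno 1) - cube hF (hno 2) - two_zero hF
  refine mem_mon_of_fix hF (k := k) ?_
  rw [act_mul, act_mul, hfix, act_act_inv]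
  rw [← form_act hF g, act_act_inv]
  exact swap0 hF (by rw [hB_single_left, hk])

theorem mon_normal : (Mon F).Normal := by
  refine ⟨fun n hn g => ?_⟩
  let S : Subgroup G₃ := (Mon F).comap (MulAut.conj g).toMonoidHom
  suffices Mon F ≤ S from this hn
  have gen : ∀ (χ : Cfsg.SU 2 F 2 →* G₃) (c c' : Fin 3 → F), hB hF 3 c c = 0 → hB hF 3 c' c' = 0 →
      (∀ v, hB hF 3 c v = 0 → act (χ (tt hF)) v = v) →
      (∀ v, hB hF 3 c' v = 0 → act (χ (dd hF * tt hF)) v = v) → χ.range ≤ S := by
    intro χ c c' hc hc' h1 h2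
    have ht : tt hF ∈ S.comap χ := conj_mem hF hc h1 g
    have hdt : dd hF * tt hF ∈ S.comap χ := conj_mem hF hc' h2 g
    have hd : dd hF ∈ S.comap χ := by
      have := mul_mem hdt ht
      rwa [mul_assoc, tt_tt, mul_one] at this
    rintro _ ⟨s, rfl⟩
    have hs : s ∈ S.comap χ := by rw [gen_le hF hd ht]; exact Subgroup.mem_top s
    exact hs
  have e1 := two_zero hF
  have e3 := om_cube hF
  refine sup_le (gen lo ![1, 1, 0] ![1, om hF ^ 2, 0] ?_ ?_ ?_ ?_) (gen hi ![0, 1, 1] ![0, 1, om hF ^ 2] ?_ ?_ ?_ ?_)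
  · rw [form_three]; simp; linear_combination e1
  · rw [form_three]; simp; linear_combination e1 + (om hF ^ 3 + 1) * e3
  · intro v hv
    rw [form_three] at hv
    simp at hv
    funext i; rw [act_lo hF, mat_tt]
    fin_cases i <;> simp
    · linear_combination hv - v 0 * e1
    · linear_combination hv - v 1 * e1
  · intro v hv
    rw [form_three] at hv
    simp at hv
    funext i; rw [act_lo hF, mat_ddtt]
    fin_cases i <;> simp
    · linear_combination hv - v 0 * e1 - om hF * v 1 * e3
    · linear_combination om hF ^ 2 * hv - v 1 * e1 - (om hF ^ 3 + 1) * v 1 * e3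
  · rw [form_three]; simp; linear_combination e1
  · rw [form_three]; simp; linear_combination e1 + (om hF ^ 3 + 1) * e3
  · intro v hv
    rw [form_three] at hv
    simp at hv
    funext i; rw [act_hi hF, mat_tt]
    fin_cases i <;> simp
    · linear_combination hv - v 1 * e1
    · linear_combination hv - v 2 * e1
  · intro v hv
    rw [form_three] at hv
    simp at hv
    funext i; rw [act_hi hF, mat_ddtt]
    fin_cases i <;> simp
    · linear_combination hv - v 1 * e1 - om hF * v 2 * e3
    · linear_combination om hF ^ 2 * hv - v 2 * e1 - (om hF ^ 3 + 1) * v 2 * e3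

theorem index_mon : (Mon F).index = 4 := by
  classical
  -- the orbit of the first coordinate vector
  let S : Set (Fin 3 → F) := Set.range fun p : Fin 3 × Fˣ => Pi.single p.1 (p.2 : F)
  have hS : S.ncard = 9 := by
    rw [Set.ncard_range_of_injective, Nat.card_prod, Nat.card_fin, Nat.card_units, Nat.card_eq_fintype_card, hF]
    · rfl
    rintro ⟨i, a⟩ ⟨j, b⟩ h
    have h' : (Pi.single i (a : F) : Fin 3 → F) = Pi.single j (b : F) := h
    have hij : i = j := by
      by_contra hne
      have := congrFun h' i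
      rw [Pi.single_eq_same, Pi.single_eq_of_ne hne] at this
      exact a.ne_zero this
    subst hij
    rw [Units.ext (Pi.single_injective i h')]
  let T : Subgroup G₃ :=
    { carrier := {g | ∀ v ∈ S, act g v ∈ S}
      one_mem' := fun v hv => by rw [act_one]; exact hv
      mul_mem' := fun {a b} ha hb v hv => by rw [act_mul]; exact ha _ (hb v hv)
      inv_mem' := fun {a} ha v hv => by
        obtain ⟨⟨w, hw⟩, e⟩ := (Finite.injective_iff_surjective
          (f := fun w : S => (⟨act a w, ha w w.2⟩ : S))).1 (fun w w' e => by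
            have := congrArg (act a⁻¹) (congrArg Subtype.val e)
            simp only [act_inv_act] at this
            exact Subtype.ext this) ⟨v, hv⟩
        rw [← show act a w = v from congrArg Subtype.val e, act_inv_act]
        exact hw }
  have hone : ∀ {i : Fin 3} {a : F}, a ≠ 0 → (Pi.single i a : Fin 3 → F) ∈ S := fun {i a} ha =>
    ⟨(i, Units.mk0 a ha), rfl⟩
  have hMT : Mon F ≤ T := by
    have gen : ∀ (χ : Cfsg.SU 2 F 2 →* G₃), χ (dd hF) ∈ T → χ (tt hF) ∈ T → χ.range ≤ T := by
      rintro χ hd ht _ ⟨s, rfl⟩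
      have : s ∈ T.comap χ := by rw [gen_le hF (S := T.comap χ) hd ht]; exact Subgroup.mem_top s
      exact this
    have ho := om_ne_zero hF
    refine sup_le (gen lo ?_ ?_) (gen hi ?_ ?_) <;> rintro _ ⟨⟨i, a⟩, rfl⟩ <;> fin_cases i <;>
      [skip; skip; skip; skip; skip; skip; skip; skip; skip; skip; skip; skip]
    · exact ⟨(0, Units.mk0 _ ho * a), by funext j; simp [act_lo hF, mat_dd]; fin_cases j <;> simp⟩
    · exact ⟨(1, Units.mk0 _ ho * Units.mk0 _ ho * a), by
        funext j; simp [act_lo hF, mat_dd]; fin_cases j <;> simp [sq]⟩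
    · exact ⟨(2, a), by funext j; simp [act_lo hF, mat_dd]; fin_cases j <;> simp⟩
    · exact ⟨(1, a), by funext j; simp [act_lo hF, mat_tt]; fin_cases j <;> simp⟩
    · exact ⟨(0, a), by funext j; simp [act_lo hF, mat_tt]; fin_cases j <;> simp⟩
    · exact ⟨(2, a), by funext j; simp [act_lo hF, mat_tt]; fin_cases j <;> simp⟩
    · exact ⟨(0, a), by funext j; simp [act_hi hF, mat_dd]; fin_cases j <;> simp⟩
    · exact ⟨(1, Units.mk0 _ ho * a), by funext j; simp [act_hi hF, mat_dd]; fin_cases j <;> simp⟩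
    · exact ⟨(2, Units.mk0 _ ho * Units.mk0 _ ho * a), by
        funext j; simp [act_hi hF, mat_dd]; fin_cases j <;> simp [sq]⟩
    · exact ⟨(0, a), by funext j; simp [act_hi hF, mat_tt]; fin_cases j <;> simp⟩
    · exact ⟨(2, a), by funext j; simp [act_hi hF, mat_tt]; fin_cases j <;> simp⟩
    · exact ⟨(1, a), by funext j; simp [act_hi hF, mat_tt]; fin_cases j <;> simp⟩
  -- orbit and stabiliser
  let f : Mon F → S := fun m => ⟨act (m : G₃) (Pi.single 0 1), hMT m.2 _ (hone one_ne_zero)⟩
  have hsurj : ∀ v ∈ S, ∃ m ∈ Mon F, act m (Pi.single 0 1) = v := by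
    rintro _ ⟨⟨i, a⟩, rfl⟩
    obtain ⟨m0, hm0, e0⟩ : ∃ m ∈ Mon F, act m (Pi.single 0 1) = Pi.single 0 (a : F) := by
      have hd : act (lo (dd hF)) (Pi.single 0 1) = Pi.single 0 (om hF) := by
        funext j; rw [act_lo hF, mat_dd]; fin_cases j <;> simp
      rcases cube_cases hF (cube hF a.ne_zero) with e | e | e <;> rw [e]
      · exact ⟨1, one_mem _, act_one _⟩
      · exact ⟨_, lo_mem_mon _, hd⟩
      · refine ⟨_, lo_mem_mon (dd hF * dd hF), ?_⟩
        funext j; rw [act_lo hF, mat_dd2]; fin_cases j <;> simp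
    have h1 : act (lo (tt hF)) (Pi.single 0 (a : F)) = Pi.single 1 (a : F) := by
      funext j; rw [act_lo hF, mat_tt]; fin_cases j <;> simp
    have h2 : act (hi (tt hF)) (Pi.single 1 (a : F)) = Pi.single 2 (a : F) := by
      funext j; rw [act_hi hF, mat_tt]; fin_cases j <;> simp
    fin_cases i
    · exact ⟨m0, hm0, e0⟩
    · exact ⟨_, mul_mem (lo_mem_mon (tt hF)) hm0, by rw [act_mul, e0, h1]; rfl⟩
    · exact ⟨_, mul_mem (hi_mem_mon (tt hF)) (mul_mem (lo_mem_mon (tt hF)) hm0), by
        rw [act_mul, act_mul, e0, h1, h2]; rfl⟩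
  choose sec hsecm hsec using fun v : S => hsurj v v.2
  have e : (S × ↥(Cfsg.SU 2 F 2)) ≃ Mon F := by
    refine Equiv.ofBijective (fun p => ⟨sec p.1 * hi p.2, mul_mem (hsecm p.1) (hi_mem_mon p.2)⟩) ⟨?_, ?_⟩
    · rintro ⟨v, s⟩ ⟨w, t⟩ h
      have h' : sec v * hi s = sec w * hi t := congrArg Subtype.val h
      have hfix : ∀ s, act (hi s) (Pi.single 0 (1 : F)) = Pi.single 0 1 := fun s => by
        funext j; rw [act_hi hF]; fin_cases j <;> simp
      have hvw : v = w := Subtype.ext (by
        rw [← hsec v, ← hsec w, ← hfix s, ← act_mul, h', act_mul, hfix, hfix])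
      subst hvw
      rw [blk_injective _ (mul_left_cancel h')]
    · rintro ⟨m, hm⟩
      have hv : act m (Pi.single 0 1) ∈ S := hMT hm _ (hone one_ne_zero)
      have hfixm : (sec ⟨_, hv⟩)⁻¹ * m ∈ fixP (Pi.single 0 (1 : F)) := by
        show act _ _ = _
        rw [act_mul]
        exact (congrArg (act (sec ⟨_, hv⟩)⁻¹) (hsec ⟨_, hv⟩).symm).trans (act_inv_act _ _)
      rw [fixP_single_zero hF] at hfixm
      obtain ⟨s, hs⟩ := hfixm
      exact ⟨(⟨_, hv⟩, s), Subtype.ext (by show sec _ * hi s = m; rw [hs, mul_inv_cancel_left])⟩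
  have hcard : Nat.card (Mon F) = 54 := by
    rw [← Nat.card_congr e, Nat.card_prod, Nat.card_coe_set_eq, hS, card_su_two hF]
  have h3 : Nat.card G₃ = 216 := by
    have h1 := Herm.card_SU hF (n := 3) (by norm_num)
    rw [Herm.card_GU hF] at h1
    simp [Finset.prod_range_succ, Nat.even_iff] at h1
    norm_num at h1
    rw [Nat.card_eq_fintype_card]
    omega
  have := (Mon F).card_mul_index
  rw [hcard, h3] at this
  omega

theorem emb_single_act (ι : Fin 3 ↪ Fin 4) (g : G₃) (i : Fin 3) :
    act (blk ι g) (Pi.single (ι i) 1) = emb ι (act g (Pi.single i 1)) := by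
  rw [← emb_single, act_blk_emb]

/-- A map agreeing with a block embedding on both blocks is that embedding. -/
theorem eq_blk (φ : G₃ →* Cfsg.SU 4 F 2) (ι : Fin 3 ↪ Fin 4) (hlo : ∀ s, φ (lo s) = blk ι (lo s))
    (hhi : ∀ s, φ (hi s) = blk ι (hi s)) : φ = blk ι := by
  classical
  have hM : ∀ m ∈ Mon F, φ m = blk ι m := by
    have : Mon F ≤ φ.eqLocus (blk ι) := sup_le (by rintro _ ⟨s, rfl⟩; exact hlo s) (by rintro _ ⟨s, rfl⟩; exact hhi s)
    exact fun m hm => this hm
  refine MonoidHom.ext fun g => ?_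
  set h := (blk ι g)⁻¹ * φ g with hh
  have hcomm : ∀ m ∈ Mon F, h * blk ι m = blk ι m * h := by
    intro m hm
    have h1 := hM _ ((mon_normal hF).conj_mem m hm g)
    rw [map_mul, map_mul, map_mul, map_mul, map_inv, map_inv, hM m hm] at h1
    rw [hh, mul_assoc, mul_inv_eq_iff_eq_mul.1 h1]
    group
  have ho := om_ne_one hF
  have ho2 := om2_ne_one hF
  have hoo := om2_ne_om hF
  -- the images of the coordinate vectors
  have key : ∀ (m : G₃) (l : Fin 3 → F), m ∈ Mon F → (∀ v i, act m v i = l i * v i) → ∀ (u : Fin 4) (c : F),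
      act (blk ι m) (Pi.single u 1) = c • Pi.single u 1 →
      (∀ i, l i ≠ c → act h (Pi.single u 1) (ι i) = 0) ∧
        ∀ x, x ∉ Set.range ι → c ≠ 1 → act h (Pi.single u 1) x = 0 := by
    intro m l hm hl u c hu
    have e := congrArg (fun y => act y (Pi.single u 1)) (hcomm m hm)
    simp only [act_mul] at e
    rw [hu, act_smul'] at e
    refine ⟨fun i hi => ?_, fun x hx hc => ?_⟩
    · have e' := congrFun e (ι i)
      rw [act_blk, hl, Pi.smul_apply, smul_eq_mul, Function.comp_apply] at e'
      exact (mul_eq_zero.1 (by linear_combination -e' : (l i - c) * act h (Pi.single u 1) (ι i) = 0)).resolve_left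
        (sub_ne_zero.2 hi)
    · have e' := congrFun e x
      rw [act_blk_off ι m _ hx, Pi.smul_apply, smul_eq_mul] at e'
      exact (mul_eq_zero.1 (by linear_combination e' : (c - 1) * act h (Pi.single u 1) x = 0)).resolve_left
        (sub_ne_zero.2 hc)
  have hl1 : ∀ v i, act (lo (dd hF)) v i = ![om hF, om hF ^ 2, 1] i * v i := fun v i => by
    rw [act_lo hF, mat_dd]; fin_cases i <;> simp
  have hl2 : ∀ v i, act (hi (dd hF)) v i = ![1, om hF, om hF ^ 2] i * v i := fun v i => by
    rw [act_hi hF, mat_dd]; fin_cases i <;> simp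
  have hdiag : ∀ (m : G₃) (l : Fin 3 → F), (∀ v i, act m v i = l i * v i) → ∀ j,
      act (blk ι m) (Pi.single (ι j) 1) = l j • Pi.single (ι j) 1 := by
    intro m l hl j
    rw [← emb_single, act_blk_emb, emb_single]
    funext x
    by_cases hx : x ∈ Set.range ι
    · obtain ⟨i, rfl⟩ := hx
      rw [emb_apply, hl, Pi.smul_apply, smul_eq_mul]
      by_cases hij : i = j
      · subst hij; simp
      · rw [Pi.single_eq_of_ne hij, Pi.single_eq_of_ne fun e => hij (ι.injective e), mul_zero, mul_zero]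
    · rw [emb_off _ _ hx, Pi.smul_apply, Pi.single_eq_of_ne fun e => hx ⟨j, e.symm⟩, smul_zero]
  have hin : ∀ j : Fin 3, ∀ x, x ≠ ι j → act h (Pi.single (ι j) 1) x = 0 := by
    intro j x hxj
    obtain ⟨a1, b1⟩ := key _ _ (lo_mem_mon (dd hF)) hl1 _ _ (hdiag _ _ hl1 j)
    obtain ⟨a2, b2⟩ := key _ _ (hi_mem_mon (dd hF)) hl2 _ _ (hdiag _ _ hl2 j)
    by_cases hx : x ∈ Set.range ι
    · obtain ⟨i, rfl⟩ := hx
      have hij : i ≠ j := fun e => hxj (congrArg ι e)
      fin_cases i <;> fin_cases j
      all_goals first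
        | exact absurd rfl hij
        | exact a1 _ (by simp [ho, ho2, hoo, ho.symm, ho2.symm, hoo.symm])
        | exact a2 _ (by simp [ho, ho2, hoo, ho.symm, ho2.symm, hoo.symm])
    · fin_cases j
      · exact b1 x hx (by simp [ho])
      · exact b1 x hx (by simp [ho2])
      · exact b2 x hx (by simp [ho2])
  have hout : ∀ k, k ∉ Set.range ι → ∀ x, x ≠ k → act h (Pi.single k 1) x = 0 := by
    intro k hk x hxk
    have hfix : ∀ m : G₃, act (blk ι m) (Pi.single k 1) = (1 : F) • Pi.single k 1 := fun m => by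
      rw [one_smul]
      funext y
      by_cases hy : y ∈ Set.range ι
      · obtain ⟨i, rfl⟩ := hy
        rw [act_blk, show (Pi.single k 1 : Fin 4 → F) ∘ ι = 0 from funext fun j => Pi.single_eq_of_ne
          (fun e => hk ⟨j, e⟩) _, Pi.single_eq_of_ne fun e => hk ⟨i, e⟩]
        simp [act]
      · rw [act_blk_off ι m _ hy]
    obtain ⟨a1, -⟩ := key _ _ (lo_mem_mon (dd hF)) hl1 _ _ (hfix _)
    obtain ⟨a2, -⟩ := key _ _ (hi_mem_mon (dd hF)) hl2 _ _ (hfix _)
    by_cases hx : x ∈ Set.range ι
    · obtain ⟨i, rfl⟩ := hx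
      fin_cases i
      · exact a1 _ (by simp [ho])
      · exact a1 _ (by simp [ho2])
      · exact a2 _ (by simp [ho2])
    · exfalso
      have h4 : Fintype.card {i : Fin 4 // i ∉ Set.range ι} = 1 := by
        rw [Fintype.card_subtype_compl, Fintype.card_fin, ← Nat.card_eq_fintype_card, Nat.card_coe_set_eq,
          Set.ncard_range_of_injective ι.injective, Nat.card_fin]
      exact hxk (congrArg Subtype.val
        ((Fintype.card_le_one_iff_subsingleton.1 h4.le).elim (⟨x, hx⟩ : {i : Fin 4 // i ∉ Set.range ι}) ⟨k, hk⟩))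
  set y : Fin 4 → F := fun u => act h (Pi.single u 1) u with hy
  have hmat : mat h = Matrix.diagonal y := by
    refine Matrix.ext fun a b => ?_
    have e : mat h a b = act h (Pi.single b 1) a := by simp [act]
    rw [e]
    by_cases hab : a = b
    · subst hab; rw [Matrix.diagonal_apply_eq]
    · rw [Matrix.diagonal_apply_ne _ hab]
      by_cases hb : b ∈ Set.range ι
      · obtain ⟨j, rfl⟩ := hb; exact hin j a hab
      · exact hout b hb a hab
  have hact : ∀ v u, act h v u = y u * v u := fun v u => by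
    show (mat h *ᵥ v) u = _
    rw [hmat, Matrix.mulVec_diagonal]
  have hstep : ∀ (m : G₃) (i j : Fin 3), m ∈ Mon F → (∀ v, act m v i = v j) → y (ι i) = y (ι j) := by
    intro m i j hm hmv
    have e := congrFun (congrArg (fun z => act z (Pi.single (ι j) 1)) (hcomm m hm)) (ι i)
    simp only [act_mul] at e
    rw [hact, act_blk, hmv, Function.comp_apply, Pi.single_eq_same, mul_one, act_blk, hmv, Function.comp_apply,
      hact, Pi.single_eq_same, mul_one] at e
    exact e
  have h01 : y (ι 0) = y (ι 1) := hstep _ 0 1 (lo_mem_mon (tt hF)) fun v => by rw [act_lo hF, mat_tt]; simp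
  have h12 : y (ι 1) = y (ι 2) := hstep _ 1 2 (hi_mem_mon (tt hF)) fun v => by rw [act_hi hF, mat_tt]; simp
  have hy3 : ∀ u, y u ^ 3 = 1 := fun u => by
    refine cube hF fun h0 => ?_
    have := congrArg (fun v => v u) (act_act_inv h (Pi.single u (1 : F)))
    simp only [Pi.single_eq_same] at this
    rw [hact, h0, zero_mul] at this
    exact zero_ne_one this
  set x := y (ι 0) with hx
  have hyι : ∀ i, y (ι i) = x := fun i => by
    fin_cases i
    exacts [rfl, h01.symm, (h01.trans h12).symm]
  have hyk : ∀ k, k ∉ Set.range ι → y k = 1 := by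
    intro k hk
    have hd := (h : Matrix.SpecialLinearGroup (Fin 4) F).2
    change (mat h).det = 1 at hd
    rw [hmat, Matrix.det_diagonal, ← (split ι).prod_comp y, Fintype.prod_sum_type] at hd
    have h4 : Fintype.card {i : Fin 4 // i ∉ Set.range ι} = 1 := by
      rw [Fintype.card_subtype_compl, Fintype.card_fin, ← Nat.card_eq_fintype_card, Nat.card_coe_set_eq,
        Set.ncard_range_of_injective ι.injective, Nat.card_fin]
    haveI := Fintype.card_le_one_iff_subsingleton.1 h4.le
    rw [Fintype.prod_subsingleton _ (⟨k, hk⟩ : {i : Fin 4 // i ∉ Set.range ι}), Fin.prod_univ_three, split_inl,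
      split_inl, split_inl, split_inr, hyι, hyι, hyι] at hd
    have := hy3 (ι 0)
    linear_combination hd - y k * this
  -- the central element
  have hz0 : (Matrix.diagonal fun _ : Fin 3 => x).det = 1 := by
    rw [Matrix.det_diagonal, Fin.prod_univ_three]; linear_combination hy3 (ι 0)
  let z : G₃ := ⟨⟨Matrix.diagonal fun _ => x, hz0⟩, fun u v => by
    show Cfsg.hermForm 3 F 2 (Matrix.diagonal (fun _ => x) *ᵥ u) (Matrix.diagonal (fun _ => x) *ᵥ v) = _
    simp only [Cfsg.hermForm, Fin.sum_univ_three, Matrix.mulVec_diagonal, mul_pow]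
    linear_combination (u 0 * v 0 ^ 2 + u 1 * v 1 ^ 2 + u 2 * v 2 ^ 2) * hy3 (ι 0)⟩
  have hzact : ∀ v i, act z v i = x * v i := fun v i => Matrix.mulVec_diagonal _ _ i
  have hhz : h = blk ι z := act_ext fun u => funext fun w => by
    rw [hact]
    by_cases hw : w ∈ Set.range ι
    · obtain ⟨i, rfl⟩ := hw
      rw [act_blk, hzact, Function.comp_apply, hyι]
    · rw [act_blk_off ι z _ hw, hyk w hw, one_mul]
  have hg : φ g = blk ι (g * z) := by rw [map_mul, ← hhz, hh, mul_inv_cancel_left]
  have hzc : Commute g z := mat_ext (by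
    show mat g * Matrix.diagonal (fun _ => x) = Matrix.diagonal (fun _ => x) * mat g
    rw [← Matrix.smul_one_eq_diagonal, Matrix.mul_smul, Matrix.smul_mul, one_mul, mul_one])
  have h4 : g ^ 4 ∈ Mon F := by
    have := mon_normal hF
    have := (Mon F).pow_index_mem g
    rwa [index_mon hF] at this
  have e4 : blk ι ((g * z) ^ 4) = blk ι (g ^ 4) := by rw [map_pow, ← hg, ← map_pow, hM _ h4]
  have e := blk_injective ι e4
  rw [hzc.mul_pow, mul_eq_left] at e
  have hz4 := congrArg (fun w : G₃ => mat w 0 0) e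
  have hmz : mat (z ^ 4) = Matrix.diagonal (fun _ => x ^ 4) := by
    show mat z ^ 4 = _
    show (Matrix.diagonal fun _ : Fin 3 => x) ^ 4 = _
    rw [Matrix.diagonal_pow]
    rfl
  simp only [hmz, mat_one', Matrix.diagonal_apply_eq, Matrix.one_apply_eq] at hz4
  have hx1 : x = 1 := by linear_combination hz4 - x * hy3 (ι 0)
  rw [hg]
  congr 1
  rw [mul_eq_left]
  refine mat_ext ?_
  show Matrix.diagonal (fun _ : Fin 3 => x) = 1
  rw [hx1, Matrix.diagonal_one]

end Cfsg.Lib.Phan.Two
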