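import Cfsg.Agent.Lib.Phan.Geo

/-!
# A function agreeing on orthogonal nondegenerate perpendiculars of a degenerate vector is constant
-/

set_option autoImplicit false
set_option linter.unusedSectionVars false

namespace Cfsg.Lib.Phan

open Cfsg Cfsg.Lib.Linear Cfsg.Lib.Linear.Herm Cfsg.Lib.UnitMult.Step
open scoped Matrix

variable {F : Type*} [Field F] [Fintype F] {q n : ℕ} (hF : Fintype.card F = q ^ 2)

local notation:max "⟪" x ", " y "⟫" => hB hF _ x y

/-- A unit perpendicular to `v` whose plane with `a` is nondegenerate. -/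
def InS (a v f : Fin n → F) : Prop :=
  ⟪f, f⟫ = 1 ∧ ⟪v, f⟫ = 0 ∧ nr hF ⟪a, f⟫ ≠ 1

/-- A unit perpendicular to `a` and `v`. -/
def InB (a v b : Fin n → F) : Prop := ⟪b, b⟫ = 1 ∧ ⟪a, b⟫ = 0 ∧ ⟪v, b⟫ = 0

/-- The projection of `a` perpendicular to `v`. -/
noncomputable def z0 (a v : Fin n → F) : Fin n → F := a - ⟪v, a⟫ • v

include hF

theorem InB.inS {a v b : Fin n → F} (h : InB hF a v b) : InS hF a v b :=
  ⟨h.1, h.2.2, by rw [h.2.1, nr_zero]; exact zero_ne_one⟩

variable {a v : Fin n → F}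

theorem hB_z0 {x : Fin n → F} (hx : ⟪v, x⟫ = 0) : ⟪z0 hF a v, x⟫ = ⟪a, x⟫ := by
  rw [z0, map_sub, LinearMap.map_smulₛₗ, LinearMap.sub_apply, LinearMap.smul_apply, hx, smul_zero, sub_zero]

theorem v_z0 (hv : ⟪v, v⟫ = 1) : ⟪v, z0 hF a v⟫ = 0 := by
  rw [z0, map_sub, map_smul, hv, smul_eq_mul, mul_one, sub_self]

theorem z0_isotropic (ha : ⟪a, a⟫ = 1) (hv : ⟪v, v⟫ = 1) (h1 : nr hF ⟪a, v⟫ = 1) :
    ⟪z0 hF a v, z0 hF a v⟫ = 0 := by
  rw [hB_z0 hF (v_z0 hF hv), z0, map_sub, map_smul, ha, smul_eq_mul]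
  rw [nr] at h1
  rw [← hB_symm hF a v]
  linear_combination -h1

theorem z0_ne (ha : ⟪a, a⟫ = 1) (hne : ∀ c : F, v ≠ c • a) : z0 hF a v ≠ 0 := by
  have ha0 : a ≠ 0 := fun h => by simp [h] at ha
  intro h
  have e : a = hB hF n v a • v := sub_eq_zero.1 h
  by_cases h0 : hB hF n v a = 0
  · rw [h0, zero_smul] at e
    exact ha0 e
  · exact hne (hB hF n v a)⁻¹ ((inv_smul_smul₀ h0 v).symm.trans (congrArg _ e.symm))

section

variable (hq : 3 ≤ q) (hn : 4 ≤ n) (ha : hB hF n a a = 1) (hv : hB hF n v v = 1) (h1 : nr hF (hB hF n a v) = 1)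
  (hne : ∀ c : F, v ≠ c • a) {X : Type*} (Ψ : (Fin n → F) → X)
  (hΨ : ∀ f f' : Fin n → F, InS hF a v f → InS hF a v f' → hB hF n f f' = 0 → Ψ f = Ψ f')
include hq hn ha hv h1 hne hΨ

/-- Two vectors with a common perpendicular in the set have equal values. -/
theorem eq_of_common {x y f : Fin n → F} (hx : InS hF a v x) (hy : InS hF a v y) (hf : InS hF a v f)
    (hxf : ⟪x, f⟫ = 0) (hyf : ⟪y, f⟫ = 0) : Ψ x = Ψ y :=
  (hΨ x f hx hf hxf).trans (hΨ y f hy hf hyf).symm

/-- A perpendicular in the set of a nondegenerate tuple perpendicular to the isotropic projection. -/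
theorem exists_inS {k : ℕ} {s : Fin k → (Fin n → F)} (hg : GramInj hF s) (hs : ∀ i, ⟪s i, z0 hF a v⟫ = 0)
    (i0 : Fin k) (hi0 : s i0 = v) : ∃ f, InS hF a v f ∧ ∀ i, ⟪s i, f⟫ = 0 := by
  obtain ⟨γ, hγf, hγ0, hγ1⟩ := exists_fixed_ne hF hq 1
  obtain ⟨f, hf, hfs, hzf⟩ := exists_link hF hg (z0_ne hF ha hne) (z0_isotropic hF ha hv h1) hs hγ0 hγf
  have hvf : hB hF n v f = 0 := hi0 ▸ hfs i0
  exact ⟨f, ⟨hf, hvf, by rw [← hB_z0 hF hvf, hzf]; exact hγ1⟩, hfs⟩

theorem eq_of_nr_ne {b b' : Fin n → F} (hb : InB hF a v b) (hb' : InB hF a v b')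
    (h : nr hF ⟪b, b'⟫ ≠ 1) : Ψ b = Ψ b' := by
  obtain ⟨f, hf, hfs⟩ := exists_inS hF hq hn ha hv h1 hne Ψ hΨ
    (s := ![v, b, b']) (gram_three hF hv hb.1 hb'.1 hb.2.2 hb'.2.2 h) (fun i => by
      fin_cases i
      · exact v_z0 hF hv
      · show hB hF n b (z0 hF a v) = 0
        exact swap0 hF ((hB_z0 hF hb.2.2).trans hb.2.1)
      · show hB hF n b' (z0 hF a v) = 0
        exact swap0 hF ((hB_z0 hF hb'.2.2).trans hb'.2.1)) 0 rfl
  exact eq_of_common hF hq hn ha hv h1 hne Ψ hΨ (InB.inS hF hb) (InB.inS hF hb') hf (hfs 1) (hfs 2)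

theorem connect_five (h5 : 5 ≤ n) {b b' : Fin n → F} (hb : InB hF a v b) (hb' : InB hF a v b') : Ψ b = Ψ b' := by
  by_cases h : nr hF ⟪b, b'⟫ = 1
  swap
  · exact eq_of_nr_ne hF hq hn ha hv h1 hne Ψ hΨ hb hb' h
  set z := z0 hF a v with hz
  have hbz : hB hF n b z = 0 := swap0 hF ((hB_z0 hF hb.2.2).trans hb.2.1)
  have hb'z : hB hF n b' z = 0 := swap0 hF ((hB_z0 hF hb'.2.2).trans hb'.2.1)
  set y := b' - hB hF n b b' • b with hy
  have hvy : hB hF n v y = 0 := by rw [hy, map_sub, map_smul, hb'.2.2, hb.2.2, smul_zero, sub_zero]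
  have hby : hB hF n b y = 0 := by rw [hy, map_sub, map_smul, hb.1, smul_eq_mul, mul_one, sub_self]
  have hzy : hB hF n z y = 0 := by
    rw [hy, map_sub, map_smul, swap0 hF hb'z, swap0 hF hbz, smul_zero, sub_zero]
  have hyy : hB hF n y y = 0 := by
    have e1 : hB hF n (b' - hB hF n b b' • b) y = hB hF n b' y := by
      simp only [map_sub, LinearMap.map_smulₛₗ, LinearMap.sub_apply, LinearMap.smul_apply, hby, smul_zero, sub_zero]
    rw [← hy] at e1
    rw [e1, hy, map_sub, map_smul, hb'.1, ← hB_symm hF b b', smul_eq_mul]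
    rw [nr] at h
    linear_combination -h
  by_cases hspan : y ∈ Submodule.span F (Set.range ![v, b, z])
  · obtain ⟨c, hc⟩ := (Submodule.mem_span_range_iff_exists_fun F).1 hspan
    simp [Fin.sum_univ_three] at hc
    obtain ⟨f, hf, hfs⟩ := exists_common hF ![a, v, b] ![v, b]
      (fun l => Submodule.subset_span ⟨![1, 2] l, by fin_cases l <;> rfl⟩) (gram_two hF hv hb.1 hb.2.2) (by omega)
    have hvf : hB hF n v f = 0 := hfs 1
    have hbf : hB hF n b f = 0 := hfs 2
    have hzf : hB hF n z f = 0 := (hB_z0 hF hvf).trans (hfs 0)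
    have hyf : hB hF n y f = 0 := by
      rw [← hc]
      simp [hvf, hbf, hzf]
    have hb'f : hB hF n b' f = 0 := by
      rw [show b' = y + hB hF n b b' • b by rw [hy, sub_add_cancel]]
      simp [hyf, hbf]
    exact eq_of_common hF hq hn ha hv h1 hne Ψ hΨ (InB.inS hF hb) (InB.inS hF hb')
      ⟨hf, hvf, by rw [show hB hF n a f = 0 from hfs 0, nr_zero]; exact zero_ne_one⟩ hbf hb'f
  · obtain ⟨u, hu, hyu⟩ := exists_perp_ne_zero (frob_frob hF) (hB_isSymm hF n) (hB_nondegenerate hF n) _ hspan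
    obtain ⟨γ, hγf, hγ0, hγ1⟩ := exists_fixed_ne hF hq 1
    obtain ⟨x, l, hm, hym⟩ := exists_unit_in_plane hF hyy hyu hγ0 hγf
    set m := x • y + l • u with hmdef
    have hperp : ∀ w ∈ ({v, b, z} : Set (Fin n → F)), hB hF n w y = 0 → hB hF n w m = 0 := fun w hw hwy => by
      rw [hmdef, map_add, map_smul, map_smul, hwy, hu w ?_, smul_zero, smul_zero, add_zero]
      rcases hw with rfl | rfl | rfl
      exacts [Submodule.subset_span ⟨0, rfl⟩, Submodule.subset_span ⟨1, rfl⟩, Submodule.subset_span ⟨2, rfl⟩]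
    have hvm := hperp v (by simp) hvy
    have hbm := hperp b (by simp) hby
    have hzm := hperp z (by simp) hzy
    have hmB : InB hF a v m := ⟨hm, by rw [← hB_z0 hF hvm]; exact hzm, hvm⟩
    have hb'm : nr hF ⟪m, b'⟫ ≠ 1 := by
      have e2 : hB hF n b' m = hB hF n y m := by
        have := congrArg (fun w => hB hF n w m) (sub_add_cancel b' (hB hF n b b' • b))
        simp only [← hy] at this
        simpa [hbm] using this.symm
      rw [nr_form_symm hF m b', e2, hym]
      exact hγ1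
    exact (eq_of_nr_ne hF hq hn ha hv h1 hne Ψ hΨ hb hmB (by rw [hbm, nr_zero]; exact zero_ne_one)).trans
      (eq_of_nr_ne hF hq hn ha hv h1 hne Ψ hΨ hmB hb' hb'm)

theorem eq_smul {b : Fin n → F} (hb : InB hF a v b) {c : F} (hc : nr hF c = 1) : Ψ (c • b) = Ψ b := by
  have hcb : InB hF a v (c • b) := ⟨by rw [hB_smul_self, hc, hb.1, one_mul],
    by rw [map_smul, hb.2.1, smul_zero], by rw [map_smul, hb.2.2, smul_zero]⟩
  obtain ⟨f, hf, hfs⟩ := exists_inS hF hq hn ha hv h1 hne Ψ hΨ (s := ![v, b])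
    (gram_two hF hv hb.1 hb.2.2) (fun i => by
      fin_cases i
      · exact v_z0 hF hv
      · show hB hF n b (z0 hF a v) = 0
        exact swap0 hF ((hB_z0 hF hb.2.2).trans hb.2.1)) 0 rfl
  refine eq_of_common hF hq hn ha hv h1 hne Ψ hΨ (InB.inS hF hcb) (InB.inS hF hb) hf ?_ (hfs 1)
  rw [LinearMap.map_smulₛₗ, LinearMap.smul_apply, show hB hF n b f = 0 from hfs 1, smul_zero]

theorem connect_four (hq4 : 4 ≤ q) (h4 : n = 4) {b b' : Fin n → F} (hb : InB hF a v b) (hb' : InB hF a v b') :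
    Ψ b = Ψ b' := by
  set z := z0 hF a v with hz
  have hzz : hB hF n z z = 0 := z0_isotropic hF ha hv h1
  have hvz : hB hF n v z = 0 := v_z0 hF hv
  have hBz : ∀ {w}, InB hF a v w → hB hF n z w = 0 := fun {w} hw => (hB_z0 hF hw.2.2).trans hw.2.1
  have hline : ∀ μ : F, InB hF a v (b + μ • z) := fun μ => by
    refine ⟨?_, ?_, by rw [map_add, map_smul, hb.2.2, hvz, smul_zero, add_zero]⟩
    · simp [hb.1, hzz, hBz hb, swap0 hF (hBz hb)]
    · have hza : hB hF n a z = 0 := by rw [← hB_z0 hF hvz, hzz]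
      rw [map_add, map_smul, hb.2.1, hza, smul_zero, add_zero]
  -- one step along the line
  obtain ⟨γ, hγf, hγ0, hγ1, -⟩ := exists_fixed_avoid hF hq4 1 1
  obtain ⟨γ', hγf', hγ0', hγ1', hγs⟩ := exists_fixed_avoid hF hq4 1 (-γ)
  set c0 := γ'⁻¹ + γ⁻¹ with hc0
  have hc0ne : c0 ≠ 0 := by
    intro h
    have h' : γ + γ' = 0 := by
      rw [hc0] at h
      field_simp at h
      linear_combination h
    exact hγs (by linear_combination h')
  have hc0f : frob hF c0 = c0 := by rw [hc0, map_add, map_inv₀, map_inv₀, hγf, hγf']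
  have step : ∀ μ m : F, nr hF m = c0 → Ψ (b + μ • z) = Ψ (b + (μ + m) • z) := by
    intro μ m hm
    set e := b + μ • z with he
    have hev : hB hF n v e = 0 := (hline μ).2.2
    have hze : hB hF n z e = 0 := hBz (hline μ)
    have hee : hB hF n e e = 1 := (hline μ).1
    have hzM : z ∉ Submodule.span F (Set.range ![v, e]) := by
      intro h
      obtain ⟨c, hc⟩ := (Submodule.mem_span_range_iff_exists_fun F).1 h
      simp [Fin.sum_univ_two] at hc
      have h0 := congrArg (hB hF n v) hc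
      have h1' := congrArg (hB hF n e) hc
      simp [hv, hev, hvz, swap0 hF hev, hee, swap0 hF hze] at h0 h1'
      exact z0_ne hF ha hne (by rw [← hz, ← hc]; simp [h0, h1'])
    obtain ⟨u₀, hu₀, hzu₀⟩ := exists_perp_ne_zero (frob_frob hF) (hB_isSymm hF n) (hB_nondegenerate hF n) _ hzM
    set u₁ := (hB hF n z u₀)⁻¹ • u₀ with hu₁
    have hzu₁ : hB hF n z u₁ = 1 := by rw [hu₁, map_smul, smul_eq_mul, inv_mul_cancel₀ hzu₀]
    have hfix1 : frob hF (-hB hF n u₁ u₁) = -hB hF n u₁ u₁ := by rw [map_neg, self_fix hF u₁]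
    obtain ⟨k, hk⟩ := exists_trace_eq (frob_ne_id hF) (frob_frob hF) hfix1
    set u := u₁ + k • z with hu'
    have hzu : hB hF n z u = 1 := by rw [hu', map_add, hzu₁, map_smul, hzz, smul_zero, add_zero]
    have huz : hB hF n u z = 1 := by rw [← hB_symm hF z u, hzu, map_one]
    have huu : hB hF n u u = 0 := by
      have hu1z : hB hF n u₁ z = 1 := by rw [← hB_symm hF z u₁, hzu₁, map_one]
      rw [hu']
      simp [hzu₁, hu1z, hzz]
      linear_combination hk
    have hsu : ∀ w ∈ ({v, e} : Set (Fin n → F)), hB hF n w z = 0 → hB hF n w u = 0 := fun w hw hwz => by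
      have : hB hF n w u₀ = 0 := hu₀ w (by
        rcases hw with rfl | rfl
        exacts [Submodule.subset_span ⟨0, rfl⟩, Submodule.subset_span ⟨1, rfl⟩])
      rw [hu', hu₁, map_add, map_smul, map_smul, this, hwz, smul_zero, smul_zero, add_zero]
    have hvu := hsu v (by simp) hvz
    have heu := hsu e (by simp) (swap0 hF hze)
    obtain ⟨y, hy⟩ := exists_nr hF hγ0 hγf
    obtain ⟨y', hy'⟩ := exists_nr hF hγ0' hγf'
    obtain ⟨p, hp⟩ := exists_trace_eq (frob_ne_id hF) (frob_frob hF) (map_one (frob hF))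
    have hy0 : y ≠ 0 := fun h => hγ0 (by rw [← hy, h, nr_zero])
    have hfy0 : frob hF y ≠ 0 := fun h => hy0 ((map_eq_zero _).1 h)
    obtain ⟨s, hsy⟩ : ∃ s, s * frob hF y = frob hF p := ⟨_, div_mul_cancel₀ _ hfy0⟩
    obtain ⟨r, hr⟩ : ∃ r, r = -(frob hF m * y') := ⟨_, rfl⟩
    obtain ⟨s', hs'y⟩ : ∃ s', s' * frob hF y = -(frob hF s * y') := ⟨_, div_mul_cancel₀ _ hfy0⟩
    set f := s • z + y • u with hf
    set f' := s' • z + r • e + y' • u with hf'
    have hez : hB hF n e z = 0 := swap0 hF hze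
    have hue : hB hF n u e = 0 := swap0 hF heu
    have hvf : hB hF n v f = 0 := by simp [hf, hvz, hvu]
    have hvf' : hB hF n v f' = 0 := by simp [hf', hvz, hvu, hev]
    have hff : hB hF n f f = 1 := by
      have h1 : frob hF s * y = p := by
        have := congrArg (frob hF) hsy
        rwa [map_mul, frob_frob, frob_frob] at this
      simp [hf, hzz, hzu, huz, huu]
      linear_combination h1 + hsy + hp
    have hsy' : frob hF s * y = p := by
      have := congrArg (frob hF) hsy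
      rwa [map_mul, frob_frob, frob_frob] at this
    have hs'y' : frob hF s' * y = -(s * frob hF y') := by
      have := congrArg (frob hF) hs'y
      rwa [map_mul, map_neg, map_mul, frob_frob, frob_frob] at this
    have hyy : frob hF y * y = γ := hy
    have hyy' : frob hF y' * y' = γ' := hy'
    have hmm : (frob hF m * m) * (γ * γ') = γ + γ' := by
      rw [show frob hF m * m = c0 from hm, hc0]
      field_simp
    have hff' : hB hF n f' f' = 1 := by
      simp [hf', hr, hzz, hzu, huz, huu, hez, hze, hue, heu, hee, frob_frob]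
      have : γ * (frob hF s' * y' + frob hF y' * s' + m * frob hF y' * (frob hF m * y') - 1) = 0 := by
        rw [← hyy]
        linear_combination (frob hF y * y') * hs'y' + (frob hF y' * y) * hs'y
          - (y' * frob hF y') * (hsy' + hsy + hp) + hmm
          + ((frob hF m * m) * γ - 1) * hyy' + ((frob hF m * m) * (frob hF y' * y') - 1) * hyy
      rcases mul_eq_zero.1 this with h | h
      · exact absurd h hγ0
      · linear_combination h
    have hfS : InS hF a v f := ⟨hff, hvf, by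
      rw [← hB_z0 hF hvf, hf]; simp [← hz, hzz, hzu, hy, hγ1]⟩
    have hfS' : InS hF a v f' := ⟨hff', hvf', by
      rw [← hB_z0 hF hvf', hf']; simp [← hz, hzz, hzu, hze, hy', hγ1']⟩
    have horth : hB hF n f f' = 0 := by
      simp [hf, hf', hzz, hzu, huz, huu, hze, hue]
      linear_combination hs'y
    have h1e : hB hF n e f = 0 := by simp [hf, hez, heu]
    have hem : b + (μ + m) • z = e + m • z := by rw [he, add_smul, add_assoc]
    have h2e : hB hF n (b + (μ + m) • z) f' = 0 := by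
      rw [hem]
      simp [hf', hr, hez, heu, hee, hzz, hze, hzu]
    exact ((hΨ _ _ (InB.inS hF (hline μ)) hfS h1e).trans (hΨ _ _ hfS hfS' horth)).trans
      (hΨ _ _ (InB.inS hF (hline _)) hfS' h2e).symm
  -- the whole line
  have hall : ∀ μ : F, Ψ (b + μ • z) = Ψ b := by
    intro μ
    let A : AddSubgroup F :=
      { carrier := {m | ∀ ν, Ψ (b + (ν + m) • z) = Ψ (b + ν • z)}
        add_mem' := fun {x y} hx hy ν => by rw [← add_assoc, hy, hx]
        zero_mem' := fun ν => by rw [add_zero]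
        neg_mem' := fun {x} hx ν => by
          have := hx (ν + -x)
          rw [neg_add_cancel_right] at this
          exact this.symm }
    have hA := addSubgroup_top_of_circle hF hc0ne hc0f A fun m hm ν => (step ν m hm).symm
    have h2 := (hA ▸ AddSubgroup.mem_top μ : μ ∈ A) 0
    simpa using h2
  -- every member is a multiple of a point of the line
  have hbasis : ∀ w, InB hF a v w → ∃ c μ : F, nr hF c = 1 ∧ w = c • (b + μ • z) := by
    intro w hw
    have hzsp : z ∉ Submodule.span F (Set.range ![v, b]) := fun h => by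
      obtain ⟨c, hc⟩ := (Submodule.mem_span_range_iff_exists_fun F).1 h
      simp [Fin.sum_univ_two] at hc
      have h0 := congrArg (hB hF n v) hc
      have h1' := congrArg (hB hF n b) hc
      simp [hv, hb.1, hb.2.2, hvz, swap0 hF hb.2.2, swap0 hF (hBz hb)] at h0 h1'
      exact z0_ne hF ha hne (by rw [← hz, ← hc]; simp [h0, h1'])
    obtain ⟨u, hu, hzu⟩ := exists_perp_ne_zero (frob_frob hF) (hB_isSymm hF n) (hB_nondegenerate hF n) _ hzsp
    have hvu : hB hF n v u = 0 := hu v (Submodule.subset_span ⟨0, rfl⟩)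
    have hbu : hB hF n b u = 0 := hu b (Submodule.subset_span ⟨1, rfl⟩)
    have hind : LinearIndependent F ![v, b, z, u] := by
      rw [Fintype.linearIndependent_iff]
      intro c hc
      simp [Fin.sum_univ_four] at hc
      have e0 := congrArg (hB hF n v) hc
      have e1 := congrArg (hB hF n b) hc
      have e2 := congrArg (hB hF n z) hc
      simp [hv, hb.1, hb.2.2, hvz, hvu, hbu, swap0 hF hb.2.2, swap0 hF (hBz hb)] at e0 e1
      simp [swap0 hF hvz, hBz hb, hzz, hzu] at e2
      have e3 : c 2 = 0 := by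
        rw [e0, e1, e2] at hc
        simp at hc
        exact hc.resolve_right (z0_ne hF ha hne)
      intro i; fin_cases i <;> assumption
    have htop : w ∈ Submodule.span F (Set.range ![v, b, z, u]) := by
      rw [hind.span_eq_top_of_card_eq_finrank (by rw [Module.finrank_fin_fun, Fintype.card_fin, h4])]
      exact Submodule.mem_top
    obtain ⟨c, hc⟩ := (Submodule.mem_span_range_iff_exists_fun F).1 htop
    simp [Fin.sum_univ_four] at hc
    have e0 : c 0 = 0 := by
      have := congrArg (hB hF n v) hc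
      simpa [hv, hb.2.2, hvz, hvu, hw.2.2] using this
    have e3 : c 3 = 0 := by
      have := congrArg (hB hF n z) hc
      simpa [swap0 hF hvz, hBz hb, hzz, hzu, hBz hw] using this
    rw [e0, e3, zero_smul, zero_smul, add_zero, zero_add] at hc
    have hc1 : nr hF (c 1) = 1 := by
      have h := hw.1
      rw [← hc] at h
      simpa [hb.1, hzz, hBz hb, swap0 hF (hBz hb), nr, mul_comm] using h
    have hc10 : c 1 ≠ 0 := fun h => by rw [h, nr_zero] at hc1; exact zero_ne_one hc1
    exact ⟨c 1, c 2 / c 1, hc1, by rw [← hc, smul_add, smul_smul, mul_div_cancel₀ _ hc10]⟩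
  obtain ⟨c, μ, hc, rfl⟩ := hbasis b' hb'
  rw [eq_smul hF hq hn ha hv h1 hne Ψ hΨ (hline μ) hc, hall μ]

/-- The function is constant on the units perpendicular to `a` and `v`. -/
theorem connect (hbig : 4 ≤ q ∨ 5 ≤ n) {b b' : Fin n → F} (hb : InB hF a v b) (hb' : InB hF a v b') : Ψ b = Ψ b' := by
  by_cases h5 : 5 ≤ n
  · exact connect_five hF hq hn ha hv h1 hne Ψ hΨ h5 hb hb'
  · exact connect_four hF hq hn ha hv h1 hne Ψ hΨ (by omega) (by omega) hb hb'

end

end Cfsg.Lib.Phan
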