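import Cfsg.Agent.Lib.Phan.BaseTwo

/-!
# The covering theorem for Phan amalgams over the field with four elements

Here the second graph is one of `SU 4`. Orthogonal edges always have a common perpendicular unit, and lifts are unique
since the first three coordinates commute with the last ones.
-/

set_option autoImplicit false
set_option linter.unusedSectionVars false

namespace Cfsg.Lib.Phan.Two

open Cfsg Cfsg.Lib.Linear Cfsg.Lib.Linear.Herm Cfsg.Lib.UnitMult.Step Cfsg.Lib.Phan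
open scoped Matrix

variable {F : Type*} [Field F] [Fintype F]

section
variable (hF : Fintype.card F = 2 ^ 2)
include hF

theorem form_self_cases {n : ℕ} (v : Fin n → F) : hB hF n v v = 0 ∨ hB hF n v v = 1 := by
  have h := self_fix hF v
  rw [frob_apply] at h
  by_cases h0 : hB hF n v v = 0
  · exact Or.inl h0
  · exact Or.inr (mul_left_cancel₀ h0 (by linear_combination h))

/-- Every vector is moved into the first two coordinates. -/
theorem exists_rep {m : ℕ} (hm : 3 ≤ m) (z : Fin m → F) :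
    ∃ (r : Cfsg.SU m F 2) (u : Fin 2 → F), act r (emb (sh 0 (by omega)) u) = z := by
  have h2m : 0 + 2 ≤ m := by omega
  by_cases hz : z = 0
  · subst hz
    refine ⟨1, 0, ?_⟩
    rw [act_one]
    funext x
    by_cases hx : x ∈ Set.range (sh 0 h2m)
    · obtain ⟨i, rfl⟩ := hx
      rw [emb_apply]; rfl
    · rw [emb_off _ _ hx]; rfl
  rcases form_self_cases hF z with h0 | h1
  · obtain ⟨u1, hu1, -, hzu⟩ := exists_link hF (s := (![] : Fin 0 → (Fin m → F))) (fun c _ => funext fun i => i.elim0) hz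
      h0 (fun i => i.elim0) one_ne_zero (map_one _)
    set c := hB hF m u1 z with hc
    set y := z - c • u1 with hy
    have hcc : frob hF c * c = 1 := by
      have := (nr_form_symm hF u1 z).trans hzu
      exact this
    have hu1y : hB hF m u1 y = 0 := by rw [hy, map_sub, map_smul, hu1, smul_eq_mul, mul_one, sub_self]
    have hyy : hB hF m y y = 1 := by
      rw [hy]
      simp only [map_sub, LinearMap.map_smulₛₗ, map_smul, LinearMap.sub_apply, LinearMap.smul_apply, smul_eq_mul,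
        RingHom.id_apply, h0, hu1, ← hc]
      rw [← hB_symm hF u1 z, ← hc]
      linear_combination (-1 : F) * hcc - two_zero hF
    obtain ⟨r, hr0, hr1⟩ := exists_map_two hF hm (hB_single hF (sh 0 h2m 0)) (hB_single hF (sh 0 h2m 1))
      (hB_single_ne hF (fun e => by simpa using (sh 0 h2m).injective e)) hu1 hyy hu1y
    refine ⟨r, ![c, 1], ?_⟩
    have e : emb (sh 0 h2m) (![c, 1] : Fin 2 → F) =
        c • Pi.single (sh 0 h2m 0) 1 + Pi.single (sh 0 h2m 1) 1 := by
      funext x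
      by_cases hx : x ∈ Set.range (sh 0 h2m)
      · obtain ⟨i, rfl⟩ := hx
        rw [emb_apply]
        fin_cases i <;> simp [Pi.single_apply, Fin.ext_iff, sh_val]
      · rw [emb_off _ _ hx, Pi.add_apply, Pi.smul_apply, Pi.single_eq_of_ne fun e => hx ⟨0, e.symm⟩,
          Pi.single_eq_of_ne fun e => hx ⟨1, e.symm⟩, smul_zero, add_zero]
    rw [e]
    show mat r *ᵥ _ = z
    rw [Matrix.mulVec_add, Matrix.mulVec_smul]
    show c • act r _ + act r _ = z
    rw [hr0, hr1, hy, add_sub_cancel]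
  · obtain ⟨r, hr⟩ := exists_map_one hF (by omega) (hB_single hF (sh 0 h2m 0)) h1
    exact ⟨r, Pi.single 0 1, by rw [emb_single, hr]⟩

theorem emb_cons {k : ℕ} (h : 0 + 3 ≤ k + 2) (h' : 0 + 2 ≤ k + 1) (ξ : F) (u : Fin 2 → F) :
    emb (sh 0 h) (Fin.cons ξ u : Fin 3 → F) = Fin.cons ξ (emb (sh 0 h') u) := by
  funext x
  refine Fin.cases ?_ (fun j => ?_) x
  · conv_lhs => rw [show (0 : Fin (k + 2)) = sh 0 h 0 from Fin.ext (by simp [sh_val]), emb_apply]
    simp
  rw [Fin.cons_succ]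
  by_cases hj : j ∈ Set.range (sh 0 h')
  · obtain ⟨i, rfl⟩ := hj
    rw [emb_apply, show (sh 0 h' i).succ = sh 0 h i.succ from Fin.ext (by simp [sh_val]), emb_apply, Fin.cons_succ]
  · rw [emb_off _ _ hj, emb_off]
    rw [mem_range_sh] at hj ⊢
    simp
    omega

end

/-- The data of an amalgam step. -/
structure Amal (F : Type*) [Field F] [Fintype F] (k : ℕ) (G : Type*) [Group G] where
  hF : Fintype.card F = 2 ^ 2
  hk : 3 ≤ k
  ρ : Cfsg.SU (k + 1) F 2 →* G
  κ : Cfsg.SU 4 F 2 →* G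
  agree : ∀ g : Cfsg.SU 3 F 2, κ (up g) = ρ (blk (sh 0 (by omega)) g)
  comm : ∀ (g : Cfsg.SU 2 F 2) (h : Cfsg.SU k F 2), Commute (κ (blk (sh 0 (by omega)) g)) (ρ (up h))
  comm3 : ∀ (a : Cfsg.SU 3 F 2) (h : Cfsg.SU (k - 1) F 2),
    Commute (κ (blk (sh 0 (by omega)) a)) (ρ (blk (sh 2 (by omega)) h))

namespace Amal

variable {k : ℕ} {G : Type*} [Group G] (D : Amal F k G)

theorem four_le (D : Amal F k G) : 0 + 4 ≤ k + 2 := by have := D.hk; omega

/-- The graph of the first map. -/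
noncomputable def rhat : Cfsg.SU (k + 1) F 2 →* Cfsg.SU (k + 2) F 2 × G := (up).prod D.ρ

/-- The graph of the second map. -/
noncomputable def khat : Cfsg.SU 4 F 2 →* Cfsg.SU (k + 2) F 2 × G := (blk (sh 0 D.four_le)).prod D.κ

/-- The subgroup generated by the graphs. -/
noncomputable def Gh : Subgroup (Cfsg.SU (k + 2) F 2 × G) := D.rhat.range ⊔ D.khat.range

theorem rhat_mem (r : Cfsg.SU (k + 1) F 2) : D.rhat r ∈ D.Gh := Subgroup.mem_sup_left ⟨r, rfl⟩

theorem khat_mem (a : Cfsg.SU 4 F 2) : D.khat a ∈ D.Gh := Subgroup.mem_sup_right ⟨a, rfl⟩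

theorem khat_up (g : Cfsg.SU 3 F 2) :
    D.khat (up g) = D.rhat (blk (sh 0 (by have := D.hk; omega : 0 + 3 ≤ k + 1)) g) :=
  Prod.ext (by
    show blk (sh 0 _) (up g) = up (blk (sh 0 _) g)
    rw [blk_sh, blk_sh]) (D.agree g)

theorem commute_hat (g : Cfsg.SU 2 F 2) (h : Cfsg.SU k F 2) :
    Commute (D.khat (blk (sh 0 (by omega)) g)) (D.rhat (up h)) := by
  have hk := D.hk
  refine Prod.ext ?_ (D.comm g h)
  show blk (sh 0 _) (blk (sh 0 _) g) * up (up h) = up (up h) * blk (sh 0 _) (blk (sh 0 _) g)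
  rw [blk_sh 0 0 (by omega) (by omega) g,
    show up (up h) = blk (sh (1 + 1) (by omega)) h from blk_sh 1 1 (by omega) (by omega) h]
  exact blk_commute _ _ (fun i j e => by
    have := congrArg Fin.val e
    have := i.2
    simp [sh_val] at *
    omega) g h

theorem commute_hat3 (a : Cfsg.SU 3 F 2) (h : Cfsg.SU (k - 1) F 2) :
    Commute (D.khat (blk (sh 0 (by omega)) a)) (D.rhat (blk (sh 2 (by have := D.hk; omega)) h)) := by
  have hk := D.hk
  refine Prod.ext ?_ (D.comm3 a h)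
  show blk (sh 0 _) (blk (sh 0 _) a) * up (blk (sh 2 _) h) = up (blk (sh 2 _) h) * blk (sh 0 _) (blk (sh 0 _) a)
  rw [blk_sh 0 0 (by omega) (by omega) a,
    show up (blk (sh 2 (by omega : 2 + (k - 1) ≤ k + 1)) h) = blk (sh (1 + 2) (by omega)) h from
      blk_sh 2 1 (by omega) (by omega) h]
  exact blk_commute _ _ (fun i j e => by
    have := congrArg Fin.val e
    have := i.2
    simp [sh_val] at *
    omega) a h

/-- The points. -/
abbrev Pt : Type _ := (Cfsg.SU (k + 2) F 2 × G) ⧸ D.rhat.range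

/-- The base point. -/
noncomputable def o : D.Pt := QuotientGroup.mk 1

/-- The unit vector under a point. -/
noncomputable def pb (x : D.Pt) : Fin (k + 2) → F :=
  Quotient.liftOn' x (fun g => act g.1 (e0 (k + 1) F)) fun g g' h => by
    obtain ⟨r, hr⟩ := QuotientGroup.leftRel_apply.1 h
    have e : g'.1 = g.1 * up r := by
      have := congrArg Prod.fst hr
      rw [Prod.fst_mul, Prod.fst_inv, eq_inv_mul_iff_mul_eq] at this
      exact this.symm
    show act g.1 _ = act g'.1 _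
    rw [e, act_mul, act_up_e0]

theorem pb_smul (g : Cfsg.SU (k + 2) F 2 × G) (x : D.Pt) : D.pb (g • x) = act g.1 (D.pb x) := by
  induction x using QuotientGroup.induction_on with
  | _ h => exact act_mul g.1 h.1 _

theorem pb_o : D.pb D.o = e0 (k + 1) F := act_one _

theorem smul_o_eq_iff {g h : Cfsg.SU (k + 2) F 2 × G} : g • D.o = h • D.o ↔ ∃ r, g * D.rhat r = h := by
  show (QuotientGroup.mk (g * 1) : D.Pt) = QuotientGroup.mk (h * 1) ↔ _
  rw [mul_one, mul_one, QuotientGroup.eq]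
  exact ⟨fun ⟨r, hr⟩ => ⟨r, by rw [hr, mul_inv_cancel_left]⟩, fun ⟨r, hr⟩ => ⟨r, by rw [← hr, inv_mul_cancel_left]⟩⟩

theorem rhat_o (r : Cfsg.SU (k + 1) F 2) : D.rhat r • D.o = D.o := by
  conv_rhs => rw [← one_smul (Cfsg.SU (k + 2) F 2 × G) D.o]
  exact D.smul_o_eq_iff.2 ⟨r⁻¹, by rw [map_inv, mul_inv_cancel]⟩

theorem pb_khat (a : Cfsg.SU 4 F 2) : D.pb (D.khat a • D.o) = emb (sh 0 D.four_le) (act a (e0 3 F)) := by
  rw [pb_smul, pb_o, ← act_blk_emb, e0_eq, e0_eq, emb_single]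
  rfl

/-- Two points of the orbit of the small graph over the same vector agree. -/
theorem khat_eq {a b : Cfsg.SU 4 F 2} (h : act a (e0 3 F) = act b (e0 3 F)) : D.khat a • D.o = D.khat b • D.o := by
  obtain ⟨g, hg⟩ := mem_range_up D.hF (g := a⁻¹ * b) (by rw [act_mul, ← h, act_inv_act])
  refine D.smul_o_eq_iff.2 ⟨blk (sh 0 (by have := D.hk; omega : 0 + 3 ≤ k + 1)) g, ?_⟩
  rw [← khat_up, ← map_mul, show up g = a⁻¹ * b from hg, mul_inv_cancel_left]

theorem act_sw : act (blk (sh 0 (show 0 + 2 ≤ 4 by omega)) (tt D.hF)) (e0 3 F) = Pi.single 1 1 := by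
  rw [e0_eq]
  exact blk_tt_left D.hF 0 (by omega)

/-- The standard neighbour of the base point. -/
noncomputable def o1 : D.Pt := D.khat (blk (sh 0 (show 0 + 2 ≤ 4 by omega)) (tt D.hF)) • D.o

theorem pb_o1 : D.pb D.o1 = Pi.single (⟨1, by omega⟩ : Fin (k + 2)) 1 := by
  rw [o1, pb_khat, D.act_sw, emb_single]
  congr 1

/-- Adjacency. -/
def Adj (x y : D.Pt) : Prop := ∃ g ∈ D.Gh, g • D.o = x ∧ g • D.o1 = y

variable {D}

theorem Adj.smul {x y : D.Pt} (h : D.Adj x y) {g : Cfsg.SU (k + 2) F 2 × G} (hg : g ∈ D.Gh) :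
    D.Adj (g • x) (g • y) := by
  obtain ⟨g', hg', hx, hy⟩ := h
  exact ⟨g * g', mul_mem hg hg', by rw [mul_smul, hx], by rw [mul_smul, hy]⟩

theorem Adj.form {x y : D.Pt} (h : D.Adj x y) :
    hB D.hF _ (D.pb x) (D.pb x) = 1 ∧ hB D.hF _ (D.pb y) (D.pb y) = 1 ∧ hB D.hF _ (D.pb x) (D.pb y) = 0 := by
  obtain ⟨g, -, rfl, rfl⟩ := h
  rw [pb_smul, pb_smul, form_act, form_act, form_act, pb_o, pb_o1, hB_e0_self, hB_e0, hB_single D.hF,
    Pi.single_eq_of_ne (fun e => by simpa using congrArg Fin.val e)]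
  exact ⟨rfl, rfl, rfl⟩

variable (D)

theorem adj_khat {a b : Cfsg.SU 4 F 2} (h : hB D.hF 4 (act a (e0 3 F)) (act b (e0 3 F)) = 0) :
    D.Adj (D.khat a • D.o) (D.khat b • D.o) := by
  obtain ⟨c, hc, hc'⟩ := exists_map_two D.hF (n := 4) (by omega) (hB_e0_self D.hF) (hB_single D.hF 1)
    (by rw [hB_e0]; rfl) (by rw [form_act, hB_e0_self]) (by rw [form_act, hB_e0_self]) h
  refine ⟨D.khat c, D.khat_mem c, D.khat_eq hc, ?_⟩
  rw [o1, ← mul_smul, ← map_mul]
  exact D.khat_eq (by rw [act_mul, D.act_sw, hc'])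

theorem adj_o_khat {a : Cfsg.SU 4 F 2} (h : hB D.hF 4 (e0 3 F) (act a (e0 3 F)) = 0) :
    D.Adj D.o (D.khat a • D.o) := by
  have := D.adj_khat (a := 1) (b := a) (by rw [act_one, h])
  rwa [map_one, one_smul] at this

theorem adj_o1 : D.Adj D.o1 D.o := by
  have h := D.adj_khat (a := blk (sh 0 (show 0 + 2 ≤ 4 by omega)) (tt D.hF)) (b := 1) (by
    rw [D.act_sw, act_one, e0_eq, hB_single_left]; rfl)
  rwa [map_one, one_smul] at h

variable {D}

theorem Adj.symm {x y : D.Pt} (h : D.Adj x y) : D.Adj y x := by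
  obtain ⟨g, hg, rfl, rfl⟩ := h
  exact D.adj_o1.smul hg

/-- The points in the orbit. -/
def InX (x : D.Pt) : Prop := ∃ g ∈ D.Gh, g • D.o = x

theorem Adj.inX {x y : D.Pt} (h : D.Adj x y) : InX x := by
  obtain ⟨g, hg, hx, -⟩ := h
  exact ⟨g, hg, hx⟩

theorem nb_exists {x : D.Pt} (hx : InX x) {w : Fin (k + 2) → F} (hw : hB D.hF _ w w = 1)
    (h : hB D.hF _ (D.pb x) w = 0) : ∃ y, D.Adj x y ∧ D.pb y = w := by
  obtain ⟨g, hg, rfl⟩ := hx
  rw [pb_smul, pb_o] at h
  obtain ⟨t, ht⟩ : ∃ t, act g.1⁻¹ w = Fin.cons 0 t := by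
    have h0 : act g.1⁻¹ w 0 = 0 := by
      rw [← hB_e0 D.hF (act g.1⁻¹ w), ← form_act D.hF g.1, act_act_inv, h]
    exact ⟨Fin.tail (act g.1⁻¹ w), by rw [← h0, Fin.cons_self_tail]⟩
  have htt : hB D.hF _ t t = 1 := by
    have := form_act D.hF g.1⁻¹ w w
    rw [ht, hB_cons, hw] at this
    simpa using this
  obtain ⟨r, hr⟩ := exists_map_one D.hF (by have := D.hk; omega)
    (hB_single D.hF (⟨0, by omega⟩ : Fin (k + 1))) htt
  refine ⟨(g * D.rhat r) • D.o1, ⟨g * D.rhat r, mul_mem hg (D.rhat_mem r), by rw [mul_smul, rhat_o], rfl⟩, ?_⟩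
  rw [pb_smul, pb_o1, Prod.fst_mul, act_mul,
    show (⟨1, by omega⟩ : Fin (k + 2)) = (⟨0, by omega⟩ : Fin (k + 1)).succ from rfl, ← cons_zero_single]
  show act g.1 (act (up r) _) = w
  rw [act_up, hr, ← ht, act_act_inv]

theorem nb_unique {x y y' : D.Pt} (h : D.Adj x y) (h' : D.Adj x y') (he : D.pb y = D.pb y') : y = y' := by
  obtain ⟨g, -, rfl, rfl⟩ := h
  obtain ⟨g', -, hx, rfl⟩ := h'
  obtain ⟨r, rfl⟩ := D.smul_o_eq_iff.1 hx.symm
  rw [pb_smul, pb_smul, pb_o1, Prod.fst_mul, act_mul] at he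
  have he' := congrArg (act g.1⁻¹) he
  rw [act_inv_act, act_inv_act, show (⟨1, by omega⟩ : Fin (k + 2)) = (⟨0, by omega⟩ : Fin (k + 1)).succ from rfl,
    ← cons_zero_single] at he'
  have hr : act r (e0 k F) = e0 k F := by
    have h1 := (congrArg Fin.tail (he'.trans (act_up r _ _))).symm
    rw [Fin.tail_cons, Fin.tail_cons] at h1
    rw [e0_eq]
    exact h1
  obtain ⟨h, rfl⟩ := mem_range_up D.hF hr
  rw [mul_smul, o1, ← mul_smul (D.rhat (up h)), ← (D.commute_hat _ h).eq, mul_smul, rhat_o]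

/-- Two neighbours over orthogonal vectors are adjacent. -/
theorem tri {x y y' : D.Pt} (h : D.Adj x y) (h' : D.Adj x y') (hyy : hB D.hF _ (D.pb y) (D.pb y') = 0) :
    D.Adj y y' := by
  obtain ⟨g, hg, rfl, rfl⟩ := h
  have h3 : 3 ≤ k + 1 := by have := D.hk; omega
  obtain ⟨-, hu, hu0⟩ := h'.form
  set u := act g.1⁻¹ (D.pb y') with hu'
  have huu : hB D.hF _ u u = 1 := by rw [hu', form_act, hu]
  have hu_0 : u 0 = 0 := by
    rw [← hB_e0 D.hF u, ← form_act D.hF g.1, hu', act_act_inv, ← D.pb_o, ← pb_smul, hu0]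
  have hu_1 : u ⟨1, by omega⟩ = 0 := by
    rw [← hB_single_left D.hF (⟨1, by omega⟩ : Fin (k + 2)) u, ← form_act D.hF g.1, hu', act_act_inv, ← D.pb_o1,
      ← pb_smul, hyy]
  obtain ⟨t, ht⟩ : ∃ t, u = Fin.cons 0 t := ⟨Fin.tail u, by rw [← hu_0, Fin.cons_self_tail]⟩
  have htt : hB D.hF _ t t = 1 := by
    rw [ht, hB_cons] at huu
    simpa using huu
  have ht0 : t ⟨0, by omega⟩ = 0 := by
    rw [ht, show (⟨1, by omega⟩ : Fin (k + 2)) = (⟨0, by omega⟩ : Fin (k + 1)).succ from rfl, Fin.cons_succ] at hu_1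
    exact hu_1
  obtain ⟨r, hr0, hr1⟩ := exists_map_two D.hF h3 (hB_single D.hF (⟨0, by omega⟩ : Fin (k + 1)))
    (hB_single D.hF (⟨1, by omega⟩ : Fin (k + 1)))
    (by rw [hB_single_left, Pi.single_eq_of_ne (by simp [Fin.ext_iff])])
    (hB_single D.hF (⟨0, by omega⟩ : Fin (k + 1))) htt (by rw [hB_single_left, ht0])
  obtain ⟨a2, ha2⟩ := exists_map_one D.hF (n := 4) (by omega) (hB_e0_self D.hF) (hB_single D.hF (2 : Fin 4))
  set G' := g * D.rhat r with hG'
  have hG : G' ∈ D.Gh := mul_mem hg (D.rhat_mem r)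
  set o2 := D.khat a2 • D.o with ho2
  have hpb2 : D.pb o2 = Pi.single (⟨1, by omega⟩ : Fin (k + 1)).succ 1 := by
    rw [ho2, pb_khat, ha2, emb_single]
    congr 1
  have ho : D.Adj D.o o2 := D.adj_o_khat (by rw [ha2, hB_e0]; rfl)
  have h12 : D.Adj D.o1 o2 := D.adj_khat (by rw [D.act_sw, ha2, hB_single_left]; rfl)
  have e1 : G' • D.o1 = g • D.o1 := by
    refine nb_unique (x := g • D.o) ⟨G', hG, by rw [mul_smul, rhat_o], rfl⟩ ⟨g, hg, rfl, rfl⟩ ?_
    rw [pb_smul, pb_smul, pb_o1, hG', Prod.fst_mul, act_mul,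
      show (⟨1, by omega⟩ : Fin (k + 2)) = (⟨0, by omega⟩ : Fin (k + 1)).succ from rfl, ← cons_zero_single]
    show act g.1 (act (up r) _) = _
    rw [act_up, hr0]
  have e2 : G' • o2 = y' := by
    have hx : D.Adj (g • D.o) (G' • o2) := by
      have := ho.smul hG
      rwa [show G' • D.o = g • D.o by rw [mul_smul, rhat_o]] at this
    refine nb_unique hx h' ?_
    rw [pb_smul, hpb2, hG', Prod.fst_mul, act_mul, ← cons_zero_single]
    show act g.1 (act (up r) _) = _
    rw [act_up, hr1, ← ht, hu', act_act_inv]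
  rw [← e1, ← e2]
  exact h12.smul hG

variable (D)

/-- The lifts of a vector by paths of length two. -/
def Lift (v : Fin (k + 2) → F) (x : D.Pt) : Prop := ∃ y, D.Adj D.o y ∧ D.Adj y x ∧ D.pb x = v ∧
  InB D.hF (e0 (k + 1) F) v (D.pb y)

/-- The lift is unique. -/
def Uq (v : Fin (k + 2) → F) : Prop := ∀ x x', D.Lift v x → D.Lift v x' → x = x'

theorem inX_o : InX D.o := ⟨1, one_mem _, one_smul _ _⟩

variable {D}

theorem Lift.of_adj {y x : D.Pt} (hoy : D.Adj D.o y) (hyx : D.Adj y x) : D.Lift (D.pb x) x :=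
  ⟨y, hoy, hyx, rfl, hoy.form.2.1, by rw [← D.pb_o]; exact hoy.form.2.2, swap0 D.hF hyx.form.2.2⟩

theorem Lift.unit {v : Fin (k + 2) → F} {x : D.Pt} (h : D.Lift v x) : hB D.hF _ v v = 1 := by
  obtain ⟨y, -, h', rfl, -⟩ := h
  exact h'.form.2.1

variable (D) in
theorem lift_of_mid {b v : Fin (k + 2) → F} (hb : InB D.hF (e0 (k + 1) F) v b)
    (hv : hB D.hF _ v v = 1) : ∃ y x, D.Adj D.o y ∧ D.pb y = b ∧ D.Adj y x ∧ D.Lift v x := by
  obtain ⟨y, hy, rfl⟩ := nb_exists D.inX_o hb.1 (by rw [pb_o]; exact hb.2.1)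
  obtain ⟨x, hx, rfl⟩ := nb_exists hy.symm.inX hv (swap0 D.hF hb.2.2)
  exact ⟨y, x, hy, rfl, hx, Lift.of_adj hy hx⟩

theorem exists_lift {v : Fin (k + 2) → F} (D : Amal F k G) (hv : hB D.hF _ v v = 1) : ∃ x, D.Lift v x := by
  obtain ⟨b, hb⟩ := exists_perp2 D.hF (by have := D.hk; omega) (hB_e0_self D.hF) v
  obtain ⟨-, x, -, -, -, hx⟩ := D.lift_of_mid hb hv
  exact ⟨x, hx⟩

theorem Lift.smul {v : Fin (k + 2) → F} {x : D.Pt} (h : D.Lift v x) (r : Cfsg.SU (k + 1) F 2) :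
    D.Lift (act (up r) v) (D.rhat r • x) := by
  obtain ⟨y, hoy, hyx, rfl, -⟩ := h
  have h1 := hoy.smul (D.rhat_mem r)
  rw [rhat_o] at h1
  have := Lift.of_adj h1 (hyx.smul (D.rhat_mem r))
  rwa [pb_smul] at this

theorem lift_perp {y : D.Pt} (hy : D.Adj D.o y) : D.Lift (D.pb y) y := by
  obtain ⟨b, hb⟩ := exists_perp2 D.hF (by have := D.hk; omega) (hB_e0_self D.hF) (D.pb y)
  obtain ⟨y', hy', hpy⟩ := nb_exists D.inX_o hb.1 (by rw [pb_o]; exact hb.2.1)
  exact Lift.of_adj hy' (tri hy' hy (by rw [hpy]; exact swap0 D.hF hb.2.2))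

/-- Lifts over orthogonal middle vectors agree. -/
theorem link {y y' x x' : D.Pt} (hy : D.Adj D.o y) (hy' : D.Adj D.o y') (hx : D.Adj y x) (hx' : D.Adj y' x')
    (he : D.pb x = D.pb x') (horth : hB D.hF _ (D.pb y) (D.pb y') = 0) : x = x' := by
  have hyy := tri hy hy' horth
  have h1 : D.Adj y x' := tri hyy.symm hx' (by rw [← he]; exact hx.form.2.2)
  exact nb_unique hx h1 he

variable (D)

/-- The lift of a vector of the first three coordinates is unique. -/
theorem uq_rep {w : Fin 3 → F} (hw0 : w 0 ≠ 0) (a : Cfsg.SU 3 F 2) (ha : act a (e0 2 F) = w) {x : D.Pt}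
    (hx : D.Lift (emb (sh 0 (by have := D.hk; omega)) w) x) :
    x = D.khat (blk (sh 0 (by omega)) a) • D.o := by
  have hk := D.hk
  have hF := D.hF
  set ι : Fin 3 ↪ Fin (k + 2) := sh 0 (by omega) with hι
  set X := D.khat (blk (sh 0 (show 0 + 3 ≤ 4 by omega)) a) • D.o with hX
  have hX' : act (blk (sh 0 (show 0 + 3 ≤ 4 by omega)) a) (e0 3 F) = emb (sh 0 (show 0 + 3 ≤ 4 by omega)) w := by
    rw [← ha, ← act_blk_emb, e0_eq, e0_eq, emb_single]
    rfl
  have hpX : D.pb X = emb ι w := by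
    rw [hX, pb_smul, pb_o, khat, MonoidHom.prod_apply, blk_sh 0 0 (by omega) D.four_le, ← ha, ← act_blk_emb, e0_eq,
      e0_eq, emb_single]
    rfl
  obtain ⟨a3, ha3⟩ := exists_map_one hF (n := 4) (by omega) (hB_e0_self hF) (hB_single hF (3 : Fin 4))
  set Y := D.khat a3 • D.o with hY
  have hoY : D.Adj D.o Y := D.adj_o_khat (by rw [ha3, hB_e0]; rfl)
  have hYX : D.Adj Y X := D.adj_khat (by
    rw [ha3, hB_single_left, hX', emb_off _ _ (by rw [mem_range_sh]; simp)])
  have hpY : D.pb Y = Pi.single (⟨3, by omega⟩ : Fin (k + 2)) 1 := by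
    rw [hY, pb_khat, ha3, emb_single]
    rfl
  set κ' : Fin (k - 1) ↪ Fin (k + 2) := sh 3 (by omega) with hκ
  have hκι : ∀ i j, κ' i ≠ ι j := fun i j e => by
    have h1 := congrArg Fin.val e
    have h2 := j.2
    simp [hκ, hι, sh_val] at h1
    omega
  have hnot : ∀ x : Fin (k + 2), x ∉ Set.range ι → 3 ≤ (x : ℕ) := fun x hx => by
    rw [hι, mem_range_sh] at hx
    omega
  -- every unit of the last coordinates gives the same lift
  have hfar : ∀ d : Fin (k - 1) → F, hB hF _ d d = 1 →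
      ∃ y, D.Adj D.o y ∧ D.pb y = emb κ' d ∧ D.Adj y X := by
    intro d hd
    obtain ⟨h, hh⟩ := exists_map_one hF (by omega) (hB_single hF (⟨0, by omega⟩ : Fin (k - 1))) hd
    set R := D.rhat (blk (sh 2 (show 2 + (k - 1) ≤ k + 1 by omega)) h) with hR
    have h1 := hoY.smul (g := R) (D.rhat_mem _)
    rw [hR, rhat_o] at h1
    have h2 := hYX.smul (g := R) (D.rhat_mem _)
    have hRX : R • X = X := by
      rw [hR, hX, ← mul_smul, ← (D.commute_hat3 a h).eq, mul_smul, rhat_o]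
    rw [hRX] at h2
    refine ⟨_, h1, ?_, h2⟩
    rw [pb_smul, hpY, rhat, MonoidHom.prod_apply,
      show up (blk (sh 2 (show 2 + (k - 1) ≤ k + 1 by omega)) h) = blk (sh (1 + 2) (by omega)) h from
        blk_sh 2 1 (by omega) (by omega) h,
      show (⟨3, by omega⟩ : Fin (k + 2)) = κ' ⟨0, by omega⟩ from Fin.ext (by simp [hκ, sh_val]), ← emb_single,
      show blk (sh (1 + 2) _) h = blk κ' h from rfl, act_blk_emb, hh]
  obtain ⟨y, hoy, hyx, hpx, hb1, hb2, hb3⟩ := hx
  set b := D.pb y with hb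
  have hb0 : b (ι 0) = 0 := by
    rw [hB_e0] at hb2
    rw [show ι 0 = 0 from Fin.ext (by simp [hι, sh_val])]
    exact hb2
  set p := b ∘ ι with hp
  set rest := b ∘ κ' with hrest
  have hb3' : hB hF 3 w p = 0 := by
    have h := hb3
    rw [hB_apply, hermForm_split ι, Finset.sum_eq_zero (fun i _ => by
      rw [emb_off ι w i.2, zero_pow two_ne_zero, mul_zero]), add_zero] at h
    rw [hB_apply]
    rw [show emb ι w ∘ ι = w from funext (emb_apply ι w)] at h
    exact h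
  have hpart : hB hF _ b b = hB hF 3 p p + hB hF _ rest rest := by
    rw [hB_apply, hermForm_split ι, hB_apply, hB_apply]
    congr 1
    refine Finset.sum_bij' (fun i _ => (⟨(i : Fin (k + 2)) - 3, by
        have h := hnot _ i.2
        have := (i : Fin (k + 2)).2
        omega⟩ : Fin (k - 1)))
      (fun j _ => ⟨κ' j, fun ⟨l, hl⟩ => hκι j l hl.symm⟩) (fun _ _ => Finset.mem_univ _)
      (fun _ _ => Finset.mem_univ _) ?_ ?_ ?_
    · intro i _
      refine Subtype.ext (Fin.ext ?_)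
      have h := hnot _ i.2
      simp [hκ, sh_val]
      omega
    · intro j _
      refine Fin.ext ?_
      simp [hκ, sh_val]
    · intro i _
      have h := hnot _ i.2
      simp only [hrest, Function.comp_apply]
      rw [show κ' _ = (i : Fin (k + 2)) from Fin.ext (by simp [hκ, sh_val]; omega)]
  have hzero : p 0 = 0 := hb0
  rcases form_self_cases hF rest with hr | hr
  · -- one of the second and third coordinates is free
    have hpp : hB hF 3 p p = 1 := by rw [hb1, hr, add_zero] at hpart; exact hpart.symm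
    rw [form_three hF, hzero, mul_zero, zero_add] at hpp
    have hww : hB hF 3 w w = 1 := by rw [← ha, form_act, hB_e0_self]
    rw [form_three hF] at hww
    have c0 := cube hF hw0
    have e := hb3'
    rw [form_three hF, hzero, mul_zero, zero_add] at e
    obtain ⟨i, hi0, hpi, hwi⟩ : ∃ i : Fin 3, i ≠ 0 ∧ p i = 0 ∧ w i = 0 := by
      by_cases h1 : p 1 = 0
      · have h2 : p 2 ≠ 0 := fun h2 => by rw [h1, h2] at hpp; simp at hpp
        have w2 : w 2 = 0 := by
          rw [h1, mul_zero, zero_add, mul_eq_zero] at e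
          exact pow_eq_zero_iff two_ne_zero |>.1 (e.resolve_right h2)
        refine ⟨1, by decide, h1, by_contra fun w1 => ?_⟩
        rw [w2] at hww
        exact one_ne_zero (α := F) (by linear_combination two_zero hF - hww + c0 + cube hF w1)
      · by_cases h2 : p 2 = 0
        · have w1 : w 1 = 0 := by
            rw [h2, mul_zero, add_zero, mul_eq_zero] at e
            exact pow_eq_zero_iff two_ne_zero |>.1 (e.resolve_right h1)
          refine ⟨2, by decide, h2, by_contra fun w2 => ?_⟩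
          rw [w1] at hww
          exact one_ne_zero (α := F) (by linear_combination two_zero hF - hww + c0 + cube hF w2)
        · exact absurd hpp fun h => one_ne_zero (α := F) (by
            linear_combination two_zero hF - h + cube hF h1 + cube hF h2)
    set c : Fin (k + 2) → F := Pi.single (ι i) 1 with hc
    have hi' : (ι i : Fin (k + 2)) ≠ 0 := fun h => hi0 (ι.injective (h.trans (Fin.ext (by simp [hι, sh_val]))))
    have hcv : InB hF (e0 (k + 1) F) (emb ι w) c := by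
      refine ⟨hB_single hF _, ?_, swap0 hF ?_⟩
      · rw [hB_e0, hc, Pi.single_eq_of_ne (Ne.symm hi')]
      · rw [hc, hB_single_left, emb_apply, hwi]
    obtain ⟨y1, x1, hy1, hpy1, hx1, -, -, -, hpx1, -⟩ := D.lift_of_mid hcv (by rw [← hpX, hYX.form.2.1])
    have e1 : x = x1 := link hoy hy1 hyx hx1 (hpx.trans hpx1.symm) (by
      rw [hpy1]
      refine swap0 hF ?_
      rw [hc, hB_single_left]
      exact hpi)
    rw [e1]
    refine link hy1 hoY hx1 hYX (hpx1.trans hpX.symm) ?_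
    rw [hpy1, hpY, hc, hB_single_ne]
    intro h
    have := congrArg Fin.val h
    have := i.2
    simp [hι, sh_val] at *
    omega
  · obtain ⟨d, hd, hd'⟩ := exists_common hF ![rest] ![rest]
      (fun l => Submodule.subset_span ⟨l, rfl⟩) (gram_one hF hr) (by omega)
    obtain ⟨y', hy', hpy', hy'X⟩ := hfar d hd
    refine link hoy hy' hyx hy'X (hpx.trans hpX.symm) ?_
    rw [← hb, hpy']
    refine swap0 hF ?_
    rw [hB_apply, hermForm_split κ', Finset.sum_eq_zero (fun i _ => by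
      rw [emb_off κ' d i.2, zero_pow two_ne_zero, mul_zero]), add_zero]
    rw [show emb κ' d ∘ κ' = d from funext (emb_apply κ' d), ← hB_apply hF]
    exact swap0 hF (hd' 0)

theorem uq {v : Fin (k + 2) → F} (hv : hB D.hF _ v v = 1) : D.Uq v := by
  have hk := D.hk
  intro x x' hx hx'
  by_cases h0 : v 0 = 0
  · obtain ⟨z, hz, hpz⟩ := nb_exists D.inX_o hv (by rw [pb_o, hB_e0, h0])
    have key : ∀ x, D.Lift v x → x = z := by
      rintro x ⟨y, hoy, hyx, hpx, -, -, hb3⟩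
      exact nb_unique hyx (tri hoy hz (by rw [hpz]; exact swap0 D.hF hb3)) (hpx.trans hpz.symm)
    rw [key x hx, key x' hx']
  obtain ⟨ξ, z, rfl⟩ : ∃ ξ z, v = Fin.cons ξ z := ⟨v 0, Fin.tail v, (Fin.cons_self_tail v).symm⟩
  rw [Fin.cons_zero] at h0
  obtain ⟨r, u, hr⟩ := exists_rep D.hF (by omega) z
  have e : act (up r⁻¹) (Fin.cons ξ z) = emb (sh 0 (by omega : 0 + 3 ≤ k + 2)) (Fin.cons ξ u : Fin 3 → F) := by
    rw [act_up, ← hr, act_inv_act, emb_cons D.hF]
  have hwu : hB D.hF 3 (Fin.cons ξ u : Fin 3 → F) (Fin.cons ξ u) = 1 := by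
    have h := congrArg (fun s => hB D.hF _ s s) e
    simp only [form_act, hB_emb] at h
    rw [← h, hv]
  obtain ⟨a, ha⟩ := exists_map_one D.hF (n := 3) (by omega) (hB_e0_self D.hF) hwu
  have key : ∀ x, D.Lift (Fin.cons ξ z) x → x = D.rhat r • D.khat (blk (sh 0 (by omega)) a) • D.o := by
    intro x hx
    have h1 := hx.smul r⁻¹
    rw [e] at h1
    rw [← D.uq_rep (by rw [Fin.cons_zero]; exact h0) a ha h1, map_inv, smul_inv_smul]
  rw [key x hx, key x' hx']

theorem adj_of_common {v w p : Fin (k + 2) → F} {x x' : D.Pt} (hx : D.Lift v x) (hx' : D.Lift w x')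
    (hvw : hB D.hF _ v w = 0) (hp : InB D.hF (e0 (k + 1) F) v p) (hwp : hB D.hF _ w p = 0) : D.Adj x x' := by
  obtain ⟨y, z, hoy, hpy, hyz, hz⟩ := D.lift_of_mid hp hx.unit
  obtain ⟨y', z', hoy', hpy', hyz', hz'⟩ := D.lift_of_mid (b := p) (v := w) ⟨hp.1, hp.2.1, hwp⟩ hx'.unit
  obtain rfl : y = y' := nb_unique hoy hoy' (hpy.trans hpy'.symm)
  rw [D.uq hx.unit x z hx hz, D.uq hx'.unit x' z' hx' hz']
  refine tri hyz hyz' ?_
  obtain ⟨-, -, -, e, -⟩ := hz
  obtain ⟨-, -, -, e', -⟩ := hz'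
  rw [e, e', hvw]

/-- Lifts of orthogonal vectors are adjacent. -/
theorem adj_lift {v w : Fin (k + 2) → F} {x x' : D.Pt} (hx : D.Lift v x) (hx' : D.Lift w x')
    (hvw : hB D.hF _ v w = 0) : D.Adj x x' := by
  have side : ∀ {v w : Fin (k + 2) → F} {x x' : D.Pt}, D.Lift v x → D.Lift w x' → hB D.hF _ v w = 0 →
      hB D.hF _ (e0 (k + 1) F) w = 0 → D.Adj x x' := by
    intro v w x x' hx hx' hvw hw0
    obtain ⟨y, z, hoy, hpy, hyz, hz⟩ := D.lift_of_mid (b := w) (v := v) ⟨hx'.unit, hw0, hvw⟩ hx.unit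
    have hl := lift_perp hoy
    rw [hpy] at hl
    rw [D.uq hx.unit x z hx hz, D.uq hx'.unit x' y hx' hl]
    exact hyz.symm
  by_cases hw0 : hB D.hF _ (e0 (k + 1) F) w = 0
  · exact side hx hx' hvw hw0
  by_cases hv0 : hB D.hF _ (e0 (k + 1) F) v = 0
  · exact (side hx' hx (swap0 D.hF hvw) hv0).symm
  obtain ⟨p, hp, hap, hvp, hwp⟩ := exists_perp3 D.hF (by have := D.hk; omega) (hB_e0_self D.hF) hx.unit hx'.unit hvw
    (Or.inr (Or.inl (by
      rw [nr_one_of_ne D.hF hv0, nr_one_of_ne D.hF hw0]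
      intro h
      exact one_ne_zero (α := F) (by linear_combination h))))
  exact D.adj_of_common hx hx' hvw ⟨hp, hap, hvp⟩ hwp

theorem lift_o : D.Lift (e0 (k + 1) F) D.o := by
  obtain ⟨b, hb⟩ := exists_perp2 D.hF (by have := D.hk; omega) (hB_e0_self D.hF) (e0 (k + 1) F)
  obtain ⟨y, hy, -⟩ := nb_exists D.inX_o hb.1 (by rw [pb_o]; exact hb.2.1)
  have := Lift.of_adj hy hy.symm
  rwa [pb_o] at this

/-- An element moving the base point to its lift maps every lift to a lift. -/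
theorem lift_smul {g : Cfsg.SU (k + 2) F 2 × G} (hg : g ∈ D.Gh) (ho : D.Lift (act g.1 (e0 (k + 1) F)) (g • D.o))
    {v : Fin (k + 2) → F} {x : D.Pt} (hx : D.Lift v x) : D.Lift (act g.1 v) (g • x) := by
  have step : ∀ {b y : _}, D.Lift b y → ∀ {z : D.Pt}, D.Adj y z →
      D.Lift (act g.1 b) (g • y) → D.Lift (D.pb (g • z)) (g • z) := by
    intro b y hy z hyz hgy
    obtain ⟨-, -, -, e, -⟩ := id hgy
    obtain ⟨w, hw⟩ := D.exists_lift (hyz.smul hg).form.2.1
    obtain ⟨-, -, -, ew, -⟩ := id hw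
    have := D.adj_lift hgy hw (by rw [← e]; exact (hyz.smul hg).form.2.2)
    rw [← nb_unique (hyz.smul hg) this ew.symm] at hw
    exact hw
  obtain ⟨y, hoy, hyx, rfl, -⟩ := hx
  have h1 := step D.lift_o hoy ho
  rw [← pb_smul]
  rw [pb_smul] at h1
  exact step (lift_perp hoy) hyx h1

/-- Every element of the generated group moves the base point to the lift of the image. -/
theorem lift_gh {g : Cfsg.SU (k + 2) F 2 × G} (hg : g ∈ D.Gh) :
    D.Lift (act g.1 (e0 (k + 1) F)) (g • D.o) := by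
  have hk := D.hk
  let T : Subgroup (Cfsg.SU (k + 2) F 2 × G) :=
    { carrier := {g | g ∈ D.Gh ∧ ∀ v x, D.Lift v x → D.Lift (act g.1 v) (g • x)}
      one_mem' := ⟨one_mem _, fun v x h => by rw [Prod.fst_one, act_one, one_smul]; exact h⟩
      mul_mem' := fun {a b} ha hb => ⟨mul_mem ha.1 hb.1, fun v x h => by
        rw [Prod.fst_mul, act_mul, mul_smul]; exact ha.2 _ _ (hb.2 v x h)⟩
      inv_mem' := fun {a} ha => ⟨inv_mem ha.1, fun v x h => by
        obtain ⟨z, hz⟩ := D.exists_lift (v := act a.1⁻¹ v) (by rw [form_act, h.unit])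
        have h' := ha.2 _ _ hz
        rw [act_act_inv] at h'
        rw [← D.uq h.unit _ _ h' h, inv_smul_smul]
        exact hz⟩ }
  have hr : D.rhat.range ≤ T := by
    rintro _ ⟨r, rfl⟩
    exact ⟨D.rhat_mem r, fun v x h => h.smul r⟩
  suffices hT : D.Gh ≤ T from (hT hg).2 _ _ D.lift_o
  refine sup_le hr ?_
  rintro _ ⟨a, rfl⟩
  refine ⟨D.khat_mem a, fun v x hx => D.lift_smul (D.khat_mem a) ?_ hx⟩
  obtain ⟨p, hp, hp0, hpa⟩ := exists_perp2 D.hF (n := 4) le_rfl (hB_e0_self D.hF) (act a (e0 3 F))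
  obtain ⟨b, hb⟩ := exists_map_one D.hF (n := 4) (by omega) (hB_e0_self D.hF) hp
  have h1 : D.Adj D.o (D.khat b • D.o) := D.adj_o_khat (by rw [hb, hp0])
  have h2 : D.Adj (D.khat b • D.o) (D.khat a • D.o) := D.adj_khat (by rw [hb]; exact swap0 D.hF hpa)
  have := Lift.of_adj h1 h2
  rwa [pb_smul, pb_o] at this

/-- The covering theorem. -/
theorem exists_extend (D : Amal F k G) : ∃ f : Cfsg.SU (k + 2) F 2 →* G,
    (∀ r, f (up r) = D.ρ r) ∧ ∀ a, f (blk (sh 0 D.four_le) a) = D.κ a := by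
  set π : D.Gh →* Cfsg.SU (k + 2) F 2 := (MonoidHom.fst _ _).comp D.Gh.subtype with hπ
  have hinj : Function.Injective π := by
    rw [injective_iff_map_eq_one]
    intro g hg
    have hg1 : (g : Cfsg.SU (k + 2) F 2 × G).1 = 1 := hg
    have h1 := D.lift_gh g.2
    rw [hg1, act_one] at h1
    have h2 := D.uq (hB_e0_self D.hF) _ _ D.lift_o h1
    conv_lhs at h2 => rw [← one_smul (Cfsg.SU (k + 2) F 2 × G) D.o]
    obtain ⟨r, hr⟩ := D.smul_o_eq_iff.1 h2
    rw [one_mul] at hr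
    have hr1 : up r = 1 := (congrArg Prod.fst hr).trans hg1
    have : r = 1 := blk_injective _ (hr1.trans (map_one _).symm)
    exact Subtype.ext (by rw [← hr, this, map_one]; rfl)
  have hsurj : Function.Surjective π := by
    intro g
    obtain ⟨x, hx⟩ := D.exists_lift (v := act g (e0 (k + 1) F)) (by rw [form_act, hB_e0_self])
    obtain ⟨y, hoy, hyx, hpx, -⟩ := hx
    obtain ⟨h, hh, rfl⟩ := hyx.symm.inX
    rw [pb_smul, pb_o] at hpx
    obtain ⟨r, hr⟩ := mem_range_up D.hF (g := h.1⁻¹ * g) (by rw [act_mul, ← hpx, act_inv_act])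
    refine ⟨⟨h * D.rhat r, mul_mem hh (D.rhat_mem r)⟩, ?_⟩
    show h.1 * up r = g
    rw [hr, mul_inv_cancel_left]
  set e := MulEquiv.ofBijective π ⟨hinj, hsurj⟩
  refine ⟨(MonoidHom.snd _ _).comp (D.Gh.subtype.comp e.symm.toMonoidHom), fun r => ?_, fun a => ?_⟩
  · have : e.symm (up r) = ⟨_, D.rhat_mem r⟩ := e.symm_apply_eq.2 rfl
    show ((e.symm (up r) : D.Gh) : Cfsg.SU (k + 2) F 2 × G).2 = _
    rw [this]
    rfl
  · have : e.symm (blk (sh 0 D.four_le) a) = ⟨_, D.khat_mem a⟩ := e.symm_apply_eq.2 rfl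
    show ((e.symm (blk (sh 0 D.four_le) a) : D.Gh) : Cfsg.SU (k + 2) F 2 × G).2 = _
    rw [this]
    rfl

end Amal

end Cfsg.Lib.Phan.Two
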