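import Cfsg.Agent.Lib.UnitMult.StepForm
import Cfsg.Prelude.Def_PhanSystems

/-!
# Block embeddings of special unitary groups

For an injection `ι : Fin m ↪ Fin n` of coordinates, `blk ι` embeds `SU m` in `SU n` as the subgroup supported on
the range of `ι`; `sh k` is the injection onto the coordinates `k, …, k + m - 1`.
-/

set_option autoImplicit false
set_option linter.unusedSectionVars false

namespace Cfsg.Lib.Phan

open Cfsg Cfsg.Lib.Linear Cfsg.Lib.Linear.Herm
open scoped Matrix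

variable {F : Type*} [Field F] {q n m l : ℕ}

/-- The matrix of an element. -/
abbrev mat (g : Cfsg.SU n F q) : Matrix (Fin n) (Fin n) F :=
  ((g : Matrix.SpecialLinearGroup (Fin n) F) : Matrix (Fin n) (Fin n) F)

/-- The natural action. -/
abbrev act (g : Cfsg.SU n F q) (v : Fin n → F) : Fin n → F := mat g *ᵥ v

theorem act_one (v : Fin n → F) : act (1 : Cfsg.SU n F q) v = v := Matrix.one_mulVec v

theorem act_mul (g h : Cfsg.SU n F q) (v : Fin n → F) : act (g * h) v = act g (act h v) :=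
  (Matrix.mulVec_mulVec v (mat g) (mat h)).symm

theorem act_inv_act (g : Cfsg.SU n F q) (v : Fin n → F) : act g⁻¹ (act g v) = v := by
  rw [← act_mul, inv_mul_cancel, act_one]

theorem act_act_inv (g : Cfsg.SU n F q) (v : Fin n → F) : act g (act g⁻¹ v) = v := by
  rw [← act_mul, mul_inv_cancel, act_one]

theorem mat_ext {g h : Cfsg.SU n F q} (e : mat g = mat h) : g = h := Subtype.ext (Subtype.ext e)

theorem act_ext {g h : Cfsg.SU n F q} (e : ∀ i, act g (Pi.single i 1) = act h (Pi.single i 1)) : g = h :=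
  mat_ext (Matrix.ext_of_mulVec_single e)

theorem form_act [Fintype F] (hF : Fintype.card F = q ^ 2) (g : Cfsg.SU n F q) (x y : Fin n → F) :
    hB hF n (act g x) (act g y) = hB hF n x y := g.2 y x

/-- The coordinates inside and outside the range of an injection. -/
noncomputable def split (ι : Fin m ↪ Fin n) : Fin m ⊕ {i : Fin n // i ∉ Set.range ι} ≃ Fin n :=
  Equiv.ofBijective (Sum.elim ι Subtype.val) ⟨by
    rintro (i | ⟨i, hi⟩) (j | ⟨j, hj⟩) h <;> simp only [Sum.elim_inl, Sum.elim_inr] at h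
    · exact congrArg _ (ι.injective h)
    · exact absurd ⟨i, h⟩ hj
    · exact absurd ⟨j, h.symm⟩ hi
    · subst h; rfl, fun x => by
    by_cases hx : x ∈ Set.range ι
    · obtain ⟨i, rfl⟩ := hx; exact ⟨Sum.inl i, rfl⟩
    · exact ⟨Sum.inr ⟨x, hx⟩, rfl⟩⟩

theorem split_inl (ι : Fin m ↪ Fin n) (i : Fin m) : split ι (Sum.inl i) = ι i := rfl

theorem split_inr (ι : Fin m ↪ Fin n) (i : {i : Fin n // i ∉ Set.range ι}) : split ι (Sum.inr i) = i := rfl

theorem split_symm_app (ι : Fin m ↪ Fin n) (i : Fin m) : (split ι).symm (ι i) = Sum.inl i :=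
  (split ι).symm_apply_eq.2 rfl

theorem split_symm_off (ι : Fin m ↪ Fin n) {x : Fin n} (hx : x ∉ Set.range ι) :
    (split ι).symm x = Sum.inr ⟨x, hx⟩ :=
  (split ι).symm_apply_eq.2 rfl

open scoped Classical in
/-- The matrix supported on the range of an injection. -/
noncomputable def blkMat (ι : Fin m ↪ Fin n) (A : Matrix (Fin m) (Fin m) F) : Matrix (Fin n) (Fin n) F :=
  Matrix.reindex (split ι) (split ι) (Matrix.fromBlocks A 0 0 1)

theorem blkMat_mulVec (ι : Fin m ↪ Fin n) (A : Matrix (Fin m) (Fin m) F) (v : Fin n → F) (i : Fin m) :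
    (blkMat ι A *ᵥ v) (ι i) = (A *ᵥ (v ∘ ι)) i := by
  classical
  rw [blkMat, Matrix.reindex_apply, Matrix.submatrix_mulVec_equiv, Function.comp_apply, split_symm_app,
    Matrix.fromBlocks_mulVec]
  simp [Sum.elim_inl, Function.comp_def, split_inl]

theorem blkMat_mulVec_off (ι : Fin m ↪ Fin n) (A : Matrix (Fin m) (Fin m) F) (v : Fin n → F) {x : Fin n}
    (hx : x ∉ Set.range ι) : (blkMat ι A *ᵥ v) x = v x := by
  classical
  rw [blkMat, Matrix.reindex_apply, Matrix.submatrix_mulVec_equiv, Function.comp_apply, split_symm_off ι hx,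
    Matrix.fromBlocks_mulVec]
  simp [Sum.elim_inr, Function.comp_def, split_inr]

theorem hermForm_split (ι : Fin m ↪ Fin n) (u v : Fin n → F) :
    Cfsg.hermForm n F q u v = Cfsg.hermForm m F q (u ∘ ι) (v ∘ ι) +
      ∑ i : {i : Fin n // i ∉ Set.range ι}, u i * v i ^ q := by
  classical
  rw [Cfsg.hermForm, Cfsg.hermForm, ← (split ι).sum_comp, Fintype.sum_sum_type]
  simp [split_inl, split_inr]

/-- The block embedding. -/
noncomputable def blk (ι : Fin m ↪ Fin n) : Cfsg.SU m F q →* Cfsg.SU n F q where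
  toFun g := ⟨⟨blkMat ι (mat g), by
      classical
      rw [blkMat, Matrix.det_reindex_self, Matrix.det_fromBlocks_zero₂₁, Matrix.det_one, mul_one]
      exact (g : Matrix.SpecialLinearGroup (Fin m) F).2⟩, fun u v => by
    show Cfsg.hermForm n F q (blkMat ι (mat g) *ᵥ u) (blkMat ι (mat g) *ᵥ v) = _
    rw [hermForm_split ι, hermForm_split ι u]
    congr 1
    · rw [show (blkMat ι (mat g) *ᵥ u) ∘ ι = mat g *ᵥ (u ∘ ι) from funext (blkMat_mulVec ι _ u),
        show (blkMat ι (mat g) *ᵥ v) ∘ ι = mat g *ᵥ (v ∘ ι) from funext (blkMat_mulVec ι _ v)]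
      exact g.2 _ _
    · exact Finset.sum_congr rfl fun i _ => by rw [blkMat_mulVec_off ι _ u i.2, blkMat_mulVec_off ι _ v i.2]⟩
  map_one' := Subtype.ext (Subtype.ext (by
    classical
    show blkMat ι (1 : Matrix (Fin m) (Fin m) F) = 1
    rw [blkMat, Matrix.fromBlocks_one]
    simp))
  map_mul' g h := Subtype.ext (Subtype.ext (by
    classical
    show blkMat ι (mat g * mat h) = blkMat ι (mat g) * blkMat ι (mat h)
    simp only [blkMat, Matrix.reindex_apply, Matrix.submatrix_mul_equiv, Matrix.fromBlocks_multiply]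
    simp))

theorem act_blk (ι : Fin m ↪ Fin n) (g : Cfsg.SU m F q) (v : Fin n → F) (i : Fin m) :
    act (blk ι g) v (ι i) = act g (v ∘ ι) i := blkMat_mulVec ι (mat g) v i

theorem act_blk_off (ι : Fin m ↪ Fin n) (g : Cfsg.SU m F q) (v : Fin n → F) {x : Fin n}
    (hx : x ∉ Set.range ι) : act (blk ι g) v x = v x := blkMat_mulVec_off ι (mat g) v hx

theorem blk_injective (ι : Fin m ↪ Fin n) : Function.Injective (blk (F := F) (q := q) ι) := fun g h e => by
  classical
  refine mat_ext ?_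
  have h1 : blkMat ι (mat g) = blkMat ι (mat h) := congrArg mat e
  rw [blkMat, blkMat, EmbeddingLike.apply_eq_iff_eq, Matrix.fromBlocks_inj] at h1
  exact h1.1

theorem blk_trans (ι : Fin l ↪ Fin m) (κ : Fin m ↪ Fin n) (g : Cfsg.SU l F q) :
    blk κ (blk ι g) = blk (ι.trans κ) g := by
  refine act_ext fun j => funext fun x => ?_
  by_cases hx : x ∈ Set.range κ
  · obtain ⟨i, rfl⟩ := hx
    rw [act_blk]
    by_cases hi : i ∈ Set.range ι
    · obtain ⟨k, rfl⟩ := hi
      rw [act_blk, show κ (ι k) = (ι.trans κ) k from rfl, act_blk]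
      rfl
    · rw [act_blk_off ι g _ hi, act_blk_off (ι.trans κ) g _ fun ⟨k, hk⟩ => hi ⟨k, κ.injective hk⟩]
      rfl
  · rw [act_blk_off κ _ _ hx, act_blk_off (ι.trans κ) g _ fun ⟨k, hk⟩ => hx ⟨ι k, hk⟩]

/-- Blocks on disjoint coordinates commute. -/
theorem blk_commute (ι : Fin m ↪ Fin n) (κ : Fin l ↪ Fin n) (hd : ∀ i j, ι i ≠ κ j) (g : Cfsg.SU m F q)
    (h : Cfsg.SU l F q) : Commute (blk ι g) (blk κ h) := by
  refine act_ext fun s => funext fun x => ?_
  rw [act_mul, act_mul]
  by_cases hx : x ∈ Set.range ι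
  · obtain ⟨i, rfl⟩ := hx
    rw [act_blk, act_blk_off κ h _ (fun ⟨j, hj⟩ => hd i j hj.symm), act_blk]
    exact congrFun (congrArg (act g) (funext fun k => act_blk_off κ h _ fun ⟨j, hj⟩ => hd k j hj.symm)) i
  · rw [act_blk_off ι g _ hx]
    by_cases hx' : x ∈ Set.range κ
    · obtain ⟨j, rfl⟩ := hx'
      rw [act_blk, act_blk]
      exact congrFun (congrArg (act h) (funext fun k => (act_blk_off ι g _ fun ⟨i, hi⟩ => hd i k hi).symm)) j
    · rw [act_blk_off κ h _ hx', act_blk_off κ h _ hx', act_blk_off ι g _ hx]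

/-- The injection onto the coordinates from `k` on. -/
def sh (k : ℕ) (h : k + m ≤ n) : Fin m ↪ Fin n :=
  ⟨fun i => ⟨k + i, by have := i.2; omega⟩, fun i j e => Fin.ext (by simpa using congrArg Fin.val e)⟩

theorem sh_val (k : ℕ) (h : k + m ≤ n) (i : Fin m) : ((sh k h i : Fin n) : ℕ) = k + i := rfl

theorem mem_range_sh {k : ℕ} {h : k + m ≤ n} {x : Fin n} :
    x ∈ Set.range (sh k h) ↔ k ≤ (x : ℕ) ∧ (x : ℕ) < k + m := by
  constructor
  · rintro ⟨i, rfl⟩; have := i.2; rw [sh_val]; omega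
  · rintro ⟨h1, h2⟩; exact ⟨⟨(x : ℕ) - k, by omega⟩, Fin.ext (by rw [sh_val]; simp; omega)⟩

theorem sh_trans (j k : ℕ) (hj : j + l ≤ m) (hk : k + m ≤ n) :
    (sh j hj).trans (sh k hk) = sh (k + j) (by omega) := by
  ext i
  simp [sh_val, Function.Embedding.trans_apply, add_assoc]

theorem blk_sh (j k : ℕ) (hj : j + l ≤ m) (hk : k + m ≤ n) (g : Cfsg.SU l F q) :
    blk (sh k hk) (blk (sh j hj) g) = blk (sh (k + j) (by omega)) g := by
  rw [blk_trans, sh_trans]

/-- The identity off a set of coordinates. -/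
theorem mem_range_blk (ι : Fin m ↪ Fin n) (g : Cfsg.SU n F q)
    (hg : ∀ k, k ∉ Set.range ι → mat g k k = 1 ∧ ∀ j, j ≠ k → mat g k j = 0 ∧ mat g j k = 0) :
    g ∈ (blk (F := F) (q := q) ι).range := by
  classical
  set A : Matrix (Fin m) (Fin m) F := (mat g).submatrix ι ι with hA
  have hM : blkMat ι A = mat g := by
    rw [blkMat]
    ext x y
    rw [Matrix.reindex_apply, Matrix.submatrix_apply]
    by_cases hx : x ∈ Set.range ι <;> by_cases hy : y ∈ Set.range ι
    · obtain ⟨i, rfl⟩ := hx; obtain ⟨j, rfl⟩ := hy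
      rw [split_symm_app, split_symm_app]; rfl
    · obtain ⟨i, rfl⟩ := hx
      rw [split_symm_app, split_symm_off ι hy]
      exact (((hg y hy).2 (ι i) fun e => hy ⟨i, e⟩).2).symm
    · obtain ⟨j, rfl⟩ := hy
      rw [split_symm_app, split_symm_off ι hx]
      exact (((hg x hx).2 (ι j) fun e => hx ⟨j, e⟩).1).symm
    · rw [split_symm_off ι hx, split_symm_off ι hy]
      show (1 : Matrix {i : Fin n // i ∉ Set.range ι} {i : Fin n // i ∉ Set.range ι} F) ⟨x, hx⟩ ⟨y, hy⟩ = _
      by_cases e : x = y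
      · subst e; rw [Matrix.one_apply_eq, (hg x hx).1]
      · rw [Matrix.one_apply_ne fun e' => e (congrArg Subtype.val e'), ((hg x hx).2 y (Ne.symm e)).1]
  have hdet : A.det = 1 := by
    have h := (g : Matrix.SpecialLinearGroup (Fin n) F).2
    change (mat g).det = 1 at h
    rwa [← hM, blkMat, Matrix.det_reindex_self, Matrix.det_fromBlocks_zero₂₁, Matrix.det_one, mul_one] at h
  refine ⟨⟨⟨A, hdet⟩, fun u v => ?_⟩, mat_ext hM⟩
  show Cfsg.hermForm m F q (A *ᵥ u) (A *ᵥ v) = _
  let ext0 : (Fin m → F) → Fin n → F := fun w => Function.extend ι w 0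
  have h1 : ∀ w, ext0 w ∘ ι = w := fun w => funext fun i => ι.injective.extend_apply w 0 i
  have h := g.2 (ext0 u) (ext0 v)
  change Cfsg.hermForm n F q (mat g *ᵥ ext0 u) (mat g *ᵥ ext0 v) = _ at h
  rw [← hM, hermForm_split ι, hermForm_split ι (ext0 u), h1, h1,
    show (blkMat ι A *ᵥ ext0 u) ∘ ι = A *ᵥ u by
      funext i; rw [Function.comp_apply, blkMat_mulVec, h1],
    show (blkMat ι A *ᵥ ext0 v) ∘ ι = A *ᵥ v by
      funext i; rw [Function.comp_apply, blkMat_mulVec, h1]] at h
  have h3 : ∀ (w : Fin m → F) (i : {i : Fin n // i ∉ Set.range ι}), (blkMat ι A *ᵥ ext0 w) i = ext0 w i :=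
    fun w i => blkMat_mulVec_off ι A _ i.2
  simp only [h3] at h
  exact add_right_cancel h

/-- The block subgroup is the range of the embedding. -/
theorem range_blk (ι : Fin m ↪ Fin n) :
    (blk (F := F) (q := q) ι).range = Cfsg.suBlock n F q (Set.range ι) := by
  classical
  refine le_antisymm ?_ ((Subgroup.closure_le _).2 fun g hg => mem_range_blk ι g hg)
  rintro _ ⟨g, rfl⟩
  refine Subgroup.subset_closure fun k hk => ?_
  show blkMat ι (mat g) k k = 1 ∧ ∀ j, j ≠ k → blkMat ι (mat g) k j = 0 ∧ blkMat ι (mat g) j k = 0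
  simp only [blkMat, Matrix.reindex_apply, Matrix.submatrix_apply, split_symm_off ι hk]
  refine ⟨by simp, fun j hj => ?_⟩
  by_cases hj' : j ∈ Set.range ι
  · obtain ⟨i, rfl⟩ := hj'
    simp [split_symm_app]
  · rw [split_symm_off ι hj']
    have : (⟨j, hj'⟩ : {i : Fin n // i ∉ Set.range ι}) ≠ ⟨k, hk⟩ := fun e => hj (congrArg Subtype.val e)
    exact ⟨by simp [Matrix.one_apply_ne (Ne.symm this)], by simp [Matrix.one_apply_ne this]⟩

theorem range_sh01 : Set.range (sh (m := 2) (n := 3) 0 (by omega)) = ({0, 1} : Set (Fin 3)) := by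
  ext x; rw [mem_range_sh]; fin_cases x <;> simp

theorem range_sh12 : Set.range (sh (m := 2) (n := 3) 1 (by omega)) = ({1, 2} : Set (Fin 3)) := by
  ext x; rw [mem_range_sh]; fin_cases x <;> simp

/-- The lower block of the three dimensional group. -/
noncomputable abbrev lo : Cfsg.SU 2 F q →* Cfsg.SU 3 F q := blk (sh 0 (by omega))

/-- The upper block of the three dimensional group. -/
noncomputable abbrev hi : Cfsg.SU 2 F q →* Cfsg.SU 3 F q := blk (sh 1 (by omega))

theorem range_lo : (lo (F := F) (q := q)).range = Cfsg.suBlock 3 F q {0, 1} := by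
  rw [range_blk, range_sh01]

theorem range_hi : (hi (F := F) (q := q)).range = Cfsg.suBlock 3 F q {1, 2} := by
  rw [range_blk, range_sh12]

end Cfsg.Lib.Phan
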