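import Cfsg.Agent.Lib.Phan.Defs
import Cfsg.Agent.Lib.Linear.GLTwo
import Cfsg.Agent.Lib.Linear.AutPSL.Main
import Cfsg.Agent.S0281
import Cfsg.Agent.S0836

/-!
# Automorphisms of the two dimensional special unitary group

Through a conjugation onto the special linear group over the fixed field, every automorphism of `SU 2` is semilinear;
those preserving the diagonal torus are a diagonal conjugation following a field automorphism.
-/

set_option autoImplicit false
set_option linter.unusedSectionVars false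
set_option linter.style.haveILetI false

namespace Cfsg.Lib.Phan

open Cfsg Cfsg.Lib.Linear Cfsg.Lib.Linear.Herm
open scoped Matrix MatrixGroups

/-- `SL 2` over a field with at least four elements is perfect. -/
theorem commutator_sl_two {K : Type*} [Field K] [Fintype K] (hK : 4 ≤ Fintype.card K) : commutator SL(2, K) = ⊤ := by
  classical
  rw [eq_top_iff, ← closure_transvection_eq_top, Subgroup.closure_le]
  rintro _ ⟨i, j, h, c, rfl⟩
  have hx : ∃ x : K, x ≠ 0 ∧ x ^ 2 ≠ 1 := by
    by_contra hcon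
    push Not at hcon
    have hsub : (Finset.univ : Finset K) ⊆ {0, 1, -1} := fun x _ => by
      by_cases h0 : x = 0
      · simp [h0]
      · rcases sq_eq_one_iff.1 (hcon x h0) with e | e <;> simp [e]
    have := (Finset.card_le_card hsub).trans Finset.card_le_three
    rw [Finset.card_univ] at this
    omega
  have h1 := Cfsg.Agent.S0836.result 2 (Or.inr ⟨rfl, hx⟩) i j h c (Matrix.SpecialLinearGroup.transvection h c)
    (Matrix.SpecialLinearGroup.transvection_coe _ _)
  rw [commutator_eq_closure]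
  exact Subgroup.subset_closure h1

variable {F : Type*} [Field F] [Fintype F] {q : ℕ} (hF : Fintype.card F = q ^ 2)

set_option quotPrecheck false in
local notation "G₂" => ↥(Cfsg.SU 2 F q)

section
include hF

theorem pow_q_q (x : F) : (x ^ q) ^ q = x := by
  simpa [frob_apply hF] using frob_frob hF x

theorem neg_pow_q (x : F) : (-x) ^ q = -(x ^ q) := by
  simpa [frob_apply hF] using map_neg (frob hF) x

/-- A matrix of determinant one is unitary exactly when it has the shape `!![a, b; -b̄, ā]`. -/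
theorem mem_su_two_iff (s : SL(2, F)) :
    s ∈ Cfsg.SU 2 F q ↔ s.1 1 1 = s.1 0 0 ^ q ∧ s.1 1 0 = -(s.1 0 1 ^ q) := by
  have hd := s.2
  rw [Matrix.det_fin_two] at hd
  constructor
  · intro h
    have col : ∀ i j, s.1 0 i * s.1 0 j ^ q + s.1 1 i * s.1 1 j ^ q = if i = j then 1 else 0 := by
      intro i j
      have h' := h (Pi.single i 1) (Pi.single j 1)
      change Cfsg.hermForm 2 F q (s.1 *ᵥ Pi.single i 1) (s.1 *ᵥ Pi.single j 1) = _ at h'
      have e : Cfsg.hermForm 2 F q (Pi.single i 1) (Pi.single j 1) = if i = j then 1 else 0 := by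
        fin_cases i <;> fin_cases j <;> simp [Cfsg.hermForm, Fin.sum_univ_two, zero_pow (show q ≠ 0 by
          have := two_le_q hF; omega)]
      rw [e] at h'
      simpa [Cfsg.hermForm, Fin.sum_univ_two] using h'
    have h00 := col 0 0
    have h10 := col 1 0
    simp only [if_true, one_ne_zero, if_false, Fin.one_eq_zero_iff, OfNat.ofNat_ne_one] at h00 h10
    refine ⟨by linear_combination (s.1 0 0 ^ q) * hd - s.1 1 1 * h00 + s.1 1 0 * h10, ?_⟩
    have h3 : s.1 0 1 = -(s.1 1 0 ^ q) := by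
      linear_combination s.1 0 0 * h10 - s.1 0 1 * h00 - (s.1 1 0 ^ q) * hd
    rw [h3, neg_pow_q hF, pow_q_q hF, neg_neg]
  · rintro ⟨h11, h10⟩ u v
    show Cfsg.hermForm 2 F q (s.1 *ᵥ u) (s.1 *ᵥ v) = _
    simp only [Cfsg.hermForm, Fin.sum_univ_two, Matrix.mulVec, dotProduct, ← frob_apply hF, map_add, map_mul]
    rw [frob_apply hF (s.1 0 0), frob_apply hF (s.1 0 1), frob_apply hF (s.1 1 0), frob_apply hF (s.1 1 1),
      h11, h10, neg_pow_q hF, pow_q_q hF, pow_q_q hF]
    rw [h11, h10] at hd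
    linear_combination (u 0 * frob hF (v 0) + u 1 * frob hF (v 1)) * hd

theorem su_two_entries (g : G₂) : mat g 1 1 = mat g 0 0 ^ q ∧ mat g 1 0 = -(mat g 0 1 ^ q) :=
  (mem_su_two_iff hF g.1).1 g.2

theorem su_two_det (g : G₂) : mat g 0 0 * mat g 0 0 ^ q + mat g 0 1 * mat g 0 1 ^ q = 1 := by
  have hd := g.1.2
  rw [Matrix.det_fin_two] at hd
  obtain ⟨h1, h2⟩ := su_two_entries hF g
  change mat g 0 0 * mat g 1 1 - mat g 0 1 * mat g 1 0 = 1 at hd
  rw [h1, h2] at hd
  linear_combination hd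

theorem su_two_ext {g h : G₂} (h0 : mat g 0 0 = mat h 0 0) (h1 : mat g 0 1 = mat h 0 1) : g = h := by
  refine mat_ext (Matrix.ext fun i j => ?_)
  fin_cases i <;> fin_cases j
  · exact h0
  · exact h1
  · show mat g 1 0 = mat h 1 0
    rw [(su_two_entries hF g).2, (su_two_entries hF h).2, h1]
  · show mat g 1 1 = mat h 1 1
    rw [(su_two_entries hF g).1, (su_two_entries hF h).1, h0]

/-- The element of `SU 2` with given first row. -/
theorem exists_su_two {a b : F} (h : a * a ^ q + b * b ^ q = 1) :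
    ∃ g : G₂, mat g 0 0 = a ∧ mat g 0 1 = b ∧ mat g 1 0 = -(b ^ q) ∧ mat g 1 1 = a ^ q := by
  let s : SL(2, F) := ⟨!![a, b; -(b ^ q), a ^ q], by rw [Matrix.det_fin_two_of]; linear_combination h⟩
  have hs : s ∈ Cfsg.SU 2 F q := (mem_su_two_iff hF s).2 ⟨by simp [s], by simp [s]⟩
  exact ⟨⟨s, hs⟩, rfl, rfl, rfl, rfl⟩

/-- A norm one scalar with square different from one. -/
theorem exists_unit (hq : 2 ≤ q) : ∃ μ : F, μ ^ (q + 1) = 1 ∧ μ * μ ≠ 1 := by
  obtain ⟨g, hg⟩ := IsCyclic.exists_ofOrder_eq_natCard (α := Fˣ)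
  rw [card_units_sq hF] at hg
  refine ⟨((g ^ (q - 1) : Fˣ) : F), ?_, fun e => ?_⟩
  · rw [← Units.val_pow_eq_pow_val, ← pow_mul, mul_comm, ← hg, pow_orderOf_eq_one, Units.val_one]
  · rw [← Units.val_mul, Units.val_eq_one, ← pow_add] at e
    have h2 := Nat.le_of_dvd (by omega) (orderOf_dvd_of_pow_eq_one e)
    rw [hg] at h2
    have : 3 * (q - 1) ≤ (q + 1) * (q - 1) := Nat.mul_le_mul_right _ (by omega)
    omega

/-- The subfield fixed by the involutory automorphism, conjugated onto `SU 2`. -/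
theorem exists_conj_sl : ∃ (K : Subfield F) (_ : Fintype K) (S : GL (Fin 2) F) (Φ : SL(2, K) ≃* G₂),
    Fintype.card K = q ∧ ∀ A : SL(2, K), mat (Φ A) = S.val * A.1.map K.subtype * (S⁻¹).val := by
  classical
  set K : Subfield F := (frob hF).eqLocusField (RingHom.id F) with hK
  have hmem : ∀ x : F, x ∈ K ↔ x ^ q = x := fun x => by
    rw [hK, RingHom.mem_eqLocusField, frob_apply hF, RingHom.id_apply]
  haveI : Fintype K := Fintype.ofFinite K
  have hKc : Fintype.card K = q := by
    rw [← Nat.card_eq_fintype_card, ← Herm.card_fixed hF]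
    exact Nat.card_congr (Equiv.subtypeEquivRight hmem)
  obtain ⟨c, hc⟩ := exists_norm_fixed (frob_ne_id hF) (frob_frob hF) (neg_ne_zero.2 (one_ne_zero (α := F)))
    (by rw [map_neg, map_one])
  obtain ⟨w, hw⟩ : ∃ w : F, w ^ q ≠ w := by
    by_contra h
    push Not at h
    exact frob_ne_id hF (RingHom.ext fun x => by rw [frob_apply hF, h]; rfl)
  rw [frob_apply hF] at hc
  have hc0 : c ≠ 0 := fun e => by rw [e, mul_zero] at hc; simp at hc
  set S₀ : Matrix (Fin 2) (Fin 2) F := !![1, w; c, c * w ^ q] with hS₀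
  set dS : F := c * (w ^ q - w) with hdS
  have hdS0 : dS ≠ 0 := mul_ne_zero hc0 (sub_ne_zero.2 hw)
  have hdet : S₀.det = dS := by rw [hS₀, Matrix.det_fin_two_of, hdS]; ring
  let S : GL (Fin 2) F :=
    Matrix.GeneralLinearGroup.mk'' S₀ (by rw [hdet]; exact isUnit_iff_ne_zero.2 hdS0)
  have hSinv : (S⁻¹).val = dS⁻¹ • !![c * w ^ q, -w; -c, 1] := by
    rw [Matrix.GeneralLinearGroup.coe_inv]
    show S₀⁻¹ = _
    rw [Matrix.inv_def, hdet, Ring.inverse_eq_inv', hS₀, Matrix.adjugate_fin_two_of]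
  have hentry : ∀ M : Matrix (Fin 2) (Fin 2) F, ∀ i j, (S.val * M * (S⁻¹).val) i j =
      dS⁻¹ * ((S₀ * M) i 0 * !![c * w ^ q, -w; -c, 1] 0 j + (S₀ * M) i 1 * !![c * w ^ q, -w; -c, 1] 1 j) := by
    intro M i j
    rw [hSinv, Matrix.mul_smul, Matrix.smul_apply, Matrix.mul_apply, Fin.sum_univ_two, smul_eq_mul]
    rfl
  let f : SL(2, K) →* SL(2, F) :=
    (AutPSL.cnjHom S).toMonoidHom.comp (Matrix.SpecialLinearGroup.map K.subtype)
  have hf : ∀ A : SL(2, K), (f A).1 = S.val * A.1.map K.subtype * (S⁻¹).val := fun A => rfl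
  have hfmem : ∀ A, f A ∈ Cfsg.SU 2 F q := by
    intro A
    have fix : ∀ i j, (A.1 i j : F) ^ q = (A.1 i j : F) := fun i j => (hmem _).1 (A.1 i j).2
    have hqd : (dS⁻¹) ^ q = -(c / c ^ q) * dS⁻¹ := by
      rw [inv_pow, hdS, mul_pow, ← frob_apply hF (w ^ q - w), map_sub, frob_apply hF, frob_apply hF, pow_q_q hF]
      have h1 : w ^ q - w ≠ 0 := sub_ne_zero.2 hw
      have h2 : w - w ^ q ≠ 0 := sub_ne_zero.2 (Ne.symm hw)
      have h3 : c ^ q ≠ 0 := pow_ne_zero _ hc0
      field_simp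
      ring
    have hcq : c ^ q = -(c⁻¹) := by
      field_simp
      linear_combination hc
    rw [mem_su_two_iff hF, hf, hentry, hentry, hentry, hentry]
    simp only [hS₀, Matrix.mul_apply, Fin.sum_univ_two, Matrix.map_apply, Matrix.of_apply, Matrix.cons_val',
      Matrix.cons_val_zero, Matrix.cons_val_one, Matrix.empty_val', Matrix.cons_val_fin_one, Subfield.coe_subtype]
    simp only [← frob_apply hF, map_add, map_mul, map_neg, map_one, map_sub]
    simp only [frob_apply hF, fix, pow_q_q hF, hqd, hcq]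
    constructor <;> field_simp <;> ring
  let Φ₀ : SL(2, K) →* G₂ := f.codRestrict _ hfmem
  have hinj : Function.Injective Φ₀ := fun A B e => by
    have h1 : Matrix.SpecialLinearGroup.map K.subtype A = Matrix.SpecialLinearGroup.map K.subtype B :=
      (AutPSL.cnjHom S).injective (congrArg Subtype.val e)
    refine Subtype.ext (Matrix.map_injective K.subtype.injective ?_)
    exact congrArg Subtype.val h1
  have hbij : Function.Bijective Φ₀ := by
    rw [Nat.bijective_iff_injective_and_card]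
    exact ⟨hinj, (Nat.card_congr (Cfsg.Agent.S0281.result (F := F) (K := K) hF hKc).some.toEquiv).symm⟩
  exact ⟨K, inferInstance, S, MulEquiv.ofBijective Φ₀ hbij, hKc, fun A => rfl⟩

/-- Every automorphism of `SU 2` is semilinear. -/
theorem exists_semilinear (hq : 4 ≤ q) (α : MulAut G₂) :
    ∃ (M : GL (Fin 2) F) (σ : F ≃+* F), ∀ g, mat (α g) = M.val * (mat g).map σ * (M⁻¹).val := by
  classical
  obtain ⟨K, instK, S, Φ, hKc, hΦ⟩ := exists_conj_sl hF
  obtain ⟨p, hp⟩ := CharP.exists F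
  haveI := hp
  haveI : Fact p.Prime := ⟨CharP.char_is_prime F p⟩
  haveI : CharP K p := (K.subtype.charP_iff_charP p).2 hp
  set β : MulAut SL(2, K) := Φ.trans (α.trans Φ.symm) with hβ
  have hperf := commutator_sl_two (K := K) (hKc ▸ hq)
  let wK : GL (Fin 2) K := Matrix.GeneralLinearGroup.mk'' !![0, 1; -1, 0] (by simp [Matrix.det_fin_two_of])
  obtain ⟨g₀, τ₀, hdec⟩ : ∃ (g₀ : GL (Fin 2) K) (τ₀ : K ≃+* K),
      ∀ A, β A = AutPSL.cnjHom g₀ (AutPSL.frobHom τ₀ A) := by
    have lift : ∀ γ : MulAut SL(2, K), AutPSL.psl β = AutPSL.psl γ → ∀ A, β A = γ A := by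
      intro γ hγ
      have hz : ∀ A, (γ A)⁻¹ * β A ∈ Subgroup.center SL(2, K) := fun A =>
        QuotientGroup.eq.1 (DFunLike.congr_fun hγ (QuotientGroup.mk A)).symm
      let z : SL(2, K) →* Subgroup.center SL(2, K) :=
        { toFun := fun A => ⟨_, hz A⟩
          map_one' := Subtype.ext (by simp)
          map_mul' := fun A B => Subtype.ext (by
            show (γ (A * B))⁻¹ * β (A * B) = ((γ A)⁻¹ * β A) * ((γ B)⁻¹ * β B)
            rw [map_mul, map_mul, _root_.mul_inv_rev]
            have hc := Subgroup.mem_center_iff.1 (hz A) (γ B)⁻¹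
            calc (γ B)⁻¹ * (γ A)⁻¹ * (β A * β B) = (γ B)⁻¹ * ((γ A)⁻¹ * β A) * β B := by group
              _ = (γ A)⁻¹ * β A * (γ B)⁻¹ * β B := by rw [hc]
              _ = _ := by group) }
      intro A
      have h1 : A ∈ z.ker := by
        have : commutator SL(2, K) ≤ z.ker := by
          rw [commutator_def, Subgroup.commutator_le]
          intro a _ b _
          rw [MonoidHom.mem_ker, map_commutatorElement, commutatorElement_eq_one_iff_mul_comm]
          exact Subtype.ext (Subgroup.mem_center_iff.1 (z b).2 _)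
        exact this (hperf ▸ Subgroup.mem_top A)
      have h2 := congrArg Subtype.val (MonoidHom.mem_ker.1 h1)
      exact (inv_mul_eq_one.1 h2).symm
    obtain ⟨g, τ, h | h⟩ := AutPSL.exists_decomp (p := p) le_rfl (AutPSL.psl β)
    · exact ⟨g, τ, lift (AutPSL.cnjHom g * AutPSL.frobHom τ) (by rw [h, map_mul]; rfl)⟩
    · refine ⟨g * wK, τ, fun A => ?_⟩
      rw [lift (AutPSL.cnjHom g * AutPSL.frobHom τ * AutPSL.tinv) (by rw [h, map_mul, map_mul]; rfl)]
      rw [MulAut.mul_apply, MulAut.mul_apply, map_mul, MulAut.mul_apply]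
      congr 1
      refine Subtype.ext ?_
      rw [AutPSL.frobHom_coe, AutPSL.cnjHom_coe, AutPSL.frobHom_coe, AutPSL.tinv_coe,
        Matrix.SpecialLinearGroup.coe_inv, Matrix.adjugate_fin_two, Matrix.GeneralLinearGroup.coe_inv]
      show _ = !![0, 1; -1, 0] * _ * (!![0, 1; -1, 0])⁻¹
      rw [Matrix.inv_def, Matrix.det_fin_two_of, Matrix.adjugate_fin_two_of, Ring.inverse_eq_inv']
      ext i j
      fin_cases i <;> fin_cases j <;> simp [Matrix.mul_apply, Matrix.vecMul, dotProduct, Fin.sum_univ_two]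
  -- extend the field automorphism
  letI : Algebra (ZMod p) F := ZMod.algebra F p
  letI : Algebra (ZMod p) K := ZMod.algebra K p
  haveI : @IsScalarTower (ZMod p) K F Algebra.toSMul Algebra.toSMul Algebra.toSMul := IsScalarTower.of_algebraMap_eq fun x =>
    DFunLike.congr_fun (RingHom.ext_zmod (algebraMap (ZMod p) F)
      ((algebraMap K F).comp (algebraMap (ZMod p) K))) x
  let τ₁ : K ≃ₐ[ZMod p] K := AlgEquiv.ofRingEquiv (f := τ₀) fun x =>
    DFunLike.congr_fun (RingHom.ext_zmod ((τ₀ : K →+* K).comp (algebraMap (ZMod p) K)) (algebraMap (ZMod p) K)) x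
  let σ : F ≃+* F := (τ₁.liftNormal F).toRingEquiv
  have hσ : ∀ x : K, σ (x : F) = (τ₀ x : F) := fun x => AlgEquiv.liftNormal_commutes τ₁ F x
  let ι : GL (Fin 2) K →* GL (Fin 2) F := Matrix.GeneralLinearGroup.map K.subtype
  refine ⟨S * ι g₀ * (Matrix.GeneralLinearGroup.map (σ : F →+* F) S)⁻¹, σ, fun g => ?_⟩
  obtain ⟨A, rfl⟩ := Φ.surjective g
  have h1 : α (Φ A) = Φ (β A) := by simp [hβ]
  rw [h1, hdec, hΦ, hΦ, AutPSL.cnjHom_coe, AutPSL.frobHom_coe]
  have hmap : ∀ X Y : Matrix (Fin 2) (Fin 2) K, (X * Y).map K.subtype = X.map K.subtype * Y.map K.subtype :=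
    fun X Y => Matrix.map_mul
  have e3 : (A.1.map τ₀).map K.subtype = (A.1.map K.subtype).map σ := Matrix.ext fun i j => (hσ _).symm
  rw [hmap, hmap, e3, Matrix.map_mul, Matrix.map_mul]
  have e1 : S.val.map σ = (Matrix.GeneralLinearGroup.map (σ : F →+* F) S).val := rfl
  have e2 : (S⁻¹).val.map σ = ((Matrix.GeneralLinearGroup.map (σ : F →+* F) S)⁻¹).val := by
    rw [← map_inv]; rfl
  have e4 : g₀.val.map K.subtype = (ι g₀).val := rfl
  have e5 : (g₀⁻¹).val.map K.subtype = ((ι g₀)⁻¹).val := by rw [← map_inv]; rfl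
  rw [e1, e2, e4, e5]
  simp only [_root_.mul_inv_rev, inv_inv, Units.val_mul, Matrix.mul_assoc]
  rw [← Matrix.mul_assoc _ (Matrix.GeneralLinearGroup.map (σ : F →+* F) S).val, Units.inv_mul, Matrix.one_mul,
    ← Matrix.mul_assoc _ (Matrix.GeneralLinearGroup.map (σ : F →+* F) S).val, Units.inv_mul, Matrix.one_mul]

/-- An automorphism of `SU 2` preserving the diagonal torus is a diagonal conjugation following a field automorphism. -/
theorem exists_monomial (hq : 4 ≤ q) (α : MulAut G₂) (hD : ∀ g, mat g 0 1 = 0 → mat (α g) 0 1 = 0) :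
    ∃ (ν : F) (σ : F ≃+* F), ν ^ (q + 1) = 1 ∧
      ∀ g, mat (α g) 0 0 = σ (mat g 0 0) ∧ mat (α g) 0 1 = ν * σ (mat g 0 1) := by
  obtain ⟨M, σ, hM⟩ := exists_semilinear hF hq α
  have hq0 : q ≠ 0 := by omega
  have hmul : ∀ g, mat (α g) * M.val = M.val * (mat g).map σ := fun g => by
    rw [hM, Matrix.mul_assoc, Units.inv_mul, Matrix.mul_one]
  obtain ⟨μ, hμ, hμ2⟩ := exists_unit hF (by omega : 2 ≤ q)
  have hμ' : μ * μ ^ q = 1 := by rw [← hμ, pow_succ, mul_comm]
  obtain ⟨d, d00, d01, d10, d11⟩ := exists_su_two hF (a := μ) (b := 0) (by simp [hμ', zero_pow hq0])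
  rw [zero_pow hq0, neg_zero] at d10
  have e01 := hD d d01
  have e10 : mat (α d) 1 0 = 0 := by rw [(su_two_entries hF _).2, e01, zero_pow hq0, neg_zero]
  have hne : σ μ ≠ σ (μ ^ q) := fun e => hμ2 (by rw [← hμ', ← σ.injective e])
  have hrow : ∀ i, M.val i 0 = 0 ∨ M.val i 1 = 0 := by
    intro i
    have h0 := congrFun (congrFun (hmul d) i) 0
    have h1 := congrFun (congrFun (hmul d) i) 1
    simp only [Matrix.mul_apply, Fin.sum_univ_two, Matrix.map_apply, d00, d01, d10, d11, map_zero, mul_zero,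
      add_zero, zero_add] at h0 h1
    fin_cases i
    · simp only [Fin.zero_eta, e01, zero_mul, add_zero] at h0 h1 ⊢
      by_contra hc
      push Not at hc
      exact hne ((mul_right_cancel₀ hc.1 (h0.trans (mul_comm _ _))).symm.trans
        (mul_right_cancel₀ hc.2 (h1.trans (mul_comm _ _))))
    · simp only [Fin.mk_one, e10, zero_mul, zero_add] at h0 h1 ⊢
      by_contra hc
      push Not at hc
      exact hne ((mul_right_cancel₀ hc.1 (h0.trans (mul_comm _ _))).symm.trans
        (mul_right_cancel₀ hc.2 (h1.trans (mul_comm _ _))))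
  have hdetM : M.val 0 0 * M.val 1 1 - M.val 0 1 * M.val 1 0 ≠ 0 := by
    rw [← Matrix.det_fin_two]
    exact Matrix.GeneralLinearGroup.det_ne_zero M
  -- the two shapes
  have fin : ∀ (τ : F ≃+* F) (ν : F), (∀ g, mat (α g) 0 0 = τ (mat g 0 0) ∧ mat (α g) 0 1 = ν * τ (mat g 0 1)) →
      ν ^ (q + 1) = 1 := by
    intro τ ν h
    obtain ⟨w, w00, w01, -, -⟩ := exists_su_two hF (a := (0 : F)) (b := 1) (by simp)
    have h1 := su_two_det hF (α w)
    rw [(h w).1, (h w).2, w00, w01, map_zero, map_one, mul_one, zero_mul, zero_add] at h1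
    rw [pow_succ, mul_comm, h1]
  rcases hrow 0 with h00 | h01
  · -- antidiagonal
    have h11 : M.val 1 1 = 0 := by
      rcases hrow 1 with h | h
      · exfalso; apply hdetM; rw [h00, h, zero_mul, mul_zero, sub_zero]
      · exact h
    have h10 : M.val 1 0 ≠ 0 := fun h => hdetM (by rw [h00, h, zero_mul, mul_zero, sub_zero])
    have h01 : M.val 0 1 ≠ 0 := fun h => hdetM (by rw [h00, h, zero_mul, zero_mul, sub_zero])
    let τ : F ≃+* F := (RingEquiv.ofBijective (frob hF)
      ⟨RingHom.injective _, Finite.surjective_of_injective (RingHom.injective _)⟩).trans σ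
    have hτ : ∀ x, τ x = σ (x ^ q) := fun x => congrArg σ (frob_apply hF x)
    have key : ∀ g, mat (α g) 0 0 = τ (mat g 0 0) ∧
        mat (α g) 0 1 = (-(M.val 0 1) / M.val 1 0) * τ (mat g 0 1) := by
      intro g
      have e0 := congrFun (congrFun (hmul g) 0) 0
      have e1 := congrFun (congrFun (hmul g) 0) 1
      simp only [Matrix.mul_apply, Fin.sum_univ_two, Matrix.map_apply, h00, h11, mul_zero, zero_mul, add_zero,
        zero_add] at e0 e1
      obtain ⟨g11, g10⟩ := su_two_entries hF g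
      rw [g10, map_neg, ← hτ] at e0
      rw [g11, ← hτ] at e1
      refine ⟨mul_right_cancel₀ h01 (by rw [e1, mul_comm]), ?_⟩
      field_simp
      linear_combination e0
    exact ⟨_, τ, fin τ _ key, key⟩
  · have h00 : M.val 0 0 ≠ 0 := fun h => hdetM (by rw [h01, h, zero_mul, zero_mul, sub_zero])
    have h10 : M.val 1 0 = 0 := by
      rcases hrow 1 with h | h
      · exact h
      · exfalso; apply hdetM; rw [h01, h, zero_mul, mul_zero, sub_zero]
    have h11 : M.val 1 1 ≠ 0 := fun h => hdetM (by rw [h01, h, zero_mul, mul_zero, sub_zero])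
    have key : ∀ g, mat (α g) 0 0 = σ (mat g 0 0) ∧
        mat (α g) 0 1 = (M.val 0 0 / M.val 1 1) * σ (mat g 0 1) := by
      intro g
      have e0 := congrFun (congrFun (hmul g) 0) 0
      have e1 := congrFun (congrFun (hmul g) 0) 1
      simp only [Matrix.mul_apply, Fin.sum_univ_two, Matrix.map_apply, h01, h10, mul_zero, zero_mul, add_zero,
        zero_add] at e0 e1
      refine ⟨mul_right_cancel₀ h00 (by rw [e0, mul_comm]), ?_⟩
      field_simp
      linear_combination e1
    exact ⟨_, σ, fin σ _ key, key⟩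

end

end Cfsg.Lib.Phan
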