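import Cfsg.Agent.Lib.Phan.Defs

/-!
# Vectors of norm one and generation of `SU n` by adjacent two dimensional blocks
-/

set_option autoImplicit false
set_option linter.unusedSectionVars false

namespace Cfsg.Lib.Phan

open Cfsg Cfsg.Lib.Linear Cfsg.Lib.Linear.Herm Cfsg.Lib.UnitMult.Step
open scoped Matrix

theorem sh_one_eq {m : ℕ} (i : Fin m) : sh 1 (by omega : 1 + m ≤ m + 1) i = i.succ :=
  Fin.ext (by simp [sh_val]; omega)

variable {F : Type*} [Field F] [Fintype F] {q n m : ℕ} (hF : Fintype.card F = q ^ 2)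
include hF

/-- The norm to the fixed field. -/
noncomputable def nr (x : F) : F := frob hF x * x

theorem nr_mul (x y : F) : nr hF (x * y) = nr hF x * nr hF y := by
  simp only [nr, map_mul]; ring

theorem nr_zero : nr hF 0 = 0 := by simp [nr]

theorem nr_one : nr hF 1 = 1 := by simp [nr]

theorem nr_neg (x : F) : nr hF (-x) = nr hF x := by simp [nr]

theorem nr_frob (x : F) : nr hF (frob hF x) = nr hF x := by rw [nr, nr, frob_frob, mul_comm]

theorem nr_eq_zero {x : F} : nr hF x = 0 ↔ x = 0 := by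
  rw [nr, mul_eq_zero]
  exact ⟨fun h => h.elim (fun e => (map_eq_zero _).1 e) id, Or.inr⟩

theorem nr_fix (x : F) : frob hF (nr hF x) = nr hF x := by rw [nr, map_mul, frob_frob, mul_comm]

theorem exists_nr {μ : F} (hμ : μ ≠ 0) (h : frob hF μ = μ) : ∃ x : F, nr hF x = μ :=
  exists_norm_fixed (frob_ne_id hF) (frob_frob hF) hμ h

theorem fix_pow {x : F} (h : frob hF x = x) : x ^ q = x := by rwa [frob_apply] at h

theorem card_circle {μ : F} (hμ : μ ≠ 0) (h : frob hF μ = μ) :
    Nat.card {x : F // nr hF x = μ} = q + 1 := by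
  rw [← card_norm_eq hF hμ (fix_pow hF h)]
  exact Nat.card_congr (Equiv.subtypeEquivRight fun x => by rw [nr, frob_apply, pow_succ])

/-- There are norm one scalars outside any two given ones. -/
theorem exists_circle_ne (hq : 2 ≤ q) (a b : F) : ∃ e : F, nr hF e = 1 ∧ e ≠ a ∧ e ≠ b := by
  classical
  by_contra hno
  push Not at hno
  have : Nat.card {x : F // nr hF x = 1} ≤ 2 := by
    rw [Nat.card_eq_fintype_card, Fintype.card_subtype]
    refine (Finset.card_le_card (t := {a, b}) fun e he => ?_).trans Finset.card_le_two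
    simp only [Finset.mem_filter, Finset.mem_univ, true_and] at he
    by_cases h0 : e = a
    · simp [h0]
    · simp [hno e he h0]
  rw [card_circle hF one_ne_zero (map_one _)] at this
  omega

theorem hB_smul_self (c : F) (v : Fin n → F) : hB hF n (c • v) (c • v) = nr hF c * hB hF n v v := by
  simp only [map_smul, LinearMap.map_smulₛₗ, LinearMap.smul_apply, smul_eq_mul, nr]
  ring

theorem hB_symm (x y : Fin n → F) : frob hF (hB hF n x y) = hB hF n y x := (hB_isSymm hF n).eq x y

theorem nr_form_symm (x y : Fin n → F) : nr hF (hB hF n x y) = nr hF (hB hF n y x) := by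
  rw [← hB_symm hF x y, nr_frob]

theorem exists_su_of_iso (t : (Fin n → F) ≃ₗ[F] (Fin n → F)) (ht : t ∈ iso (hB hF n))
    (hd : (LinearEquiv.det t : F) = 1) : ∃ g : Cfsg.SU n F q, ∀ v, act g v = t v := by
  set M : Matrix (Fin n) (Fin n) F := LinearMap.toMatrix' (t : (Fin n → F) →ₗ[F] (Fin n → F)) with hM
  have hMv : ∀ v, M *ᵥ v = t v := fun v => by
    rw [hM, LinearMap.toMatrix'_mulVec]; rfl
  have hdet : M.det = 1 := by
    rw [hM, LinearMap.det_toMatrix', ← LinearEquiv.coe_det]; exact hd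
  refine ⟨⟨⟨M, hdet⟩, fun u v => ?_⟩, hMv⟩
  show Cfsg.hermForm n F q (M *ᵥ u) (M *ᵥ v) = _
  rw [hMv, hMv, ← hB_apply hF, ← hB_apply hF]
  exact ht v u

/-- An orthonormal tuple. -/
def ON {k : ℕ} (x : Fin k → (Fin n → F)) : Prop := ∀ i j, hB hF n (x i) (x j) = if i = j then 1 else 0

theorem ON.gram {k : ℕ} {x : Fin k → (Fin n → F)} (hx : ON hF x) : GramInj hF x := fun c hc => by
  funext i
  have := hc i
  simpa [hx i] using this

theorem ON.indep {k : ℕ} {x : Fin k → (Fin n → F)} (hx : ON hF x) : LinearIndependent F x := by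
  rw [Fintype.linearIndependent_iff]
  intro c hc i
  have := congrArg (hB hF n (x i)) hc
  simp only [map_sum, map_smul, smul_eq_mul, hx i, map_zero] at this
  simpa using this

/-- `SU n` is transitive on orthonormal tuples of length less than `n`. -/
theorem exists_map_on {k : ℕ} (hk : k < n) {x y : Fin k → (Fin n → F)} (hx : ON hF x) (hy : ON hF y) :
    ∃ g : Cfsg.SU n F q, ∀ i, act g (x i) = y i := by
  classical
  obtain ⟨u, hu, huy⟩ := exists_common hF y y (fun l => Submodule.subset_span ⟨l, rfl⟩) (ON.gram hF hy)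
    (by omega)
  set b := Module.Basis.span (ON.indep hF hx)
  set φ : Submodule.span F (Set.range x) →ₗ[F] (Fin n → F) := b.constr F y with hφ
  have hb : ∀ i, (b i : Fin n → F) = x i := fun i => by rw [Module.Basis.span_apply]
  have hφi : ∀ i, φ (b i) = y i := fun i => b.constr_basis F y i
  have hform : ∀ s t : Submodule.span F (Set.range x),
      hB hF n (φ s) (φ t) = hB hF n (s : Fin n → F) (t : Fin n → F) := by
    intro s t
    conv_lhs => rw [← b.sum_repr s, ← b.sum_repr t]
    conv_rhs => rw [← b.sum_repr s, ← b.sum_repr t]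
    simp only [map_sum, map_smul, hφi, Submodule.coe_sum, Submodule.coe_smul, hb, LinearMap.map_smulₛₗ,
      LinearMap.sum_apply, LinearMap.smul_apply, hx _, hy _]
  have hinj : Function.Injective φ := by
    rw [injective_iff_map_eq_zero]
    intro s hs
    have h0 : ∀ i, b.repr s i = 0 := by
      intro i
      have h2 := hform (b i) s
      rw [hs, map_zero, hb] at h2
      conv_rhs at h2 => rw [← b.sum_repr s]
      simp only [Submodule.coe_sum, Submodule.coe_smul, hb, map_sum, map_smul, hx i] at h2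
      simpa using h2.symm
    exact b.repr.injective (by rw [map_zero]; ext i; exact h0 i)
  obtain ⟨t, ht, htx⟩ := witt (frob_ne_id hF) (frob_frob hF) (hB_isSymm hF n) (hB_nondegenerate hF n)
    (Submodule.span F (Set.range x)) φ hinj hform
  set d : F := (LinearEquiv.det t : F) with hdd
  have hd : frob hF d * d = 1 := by
    have := det_GU_pow hF ((guEquiv hF n).symm ⟨t, ht⟩)
    rw [pow_succ, ← frob_apply hF] at this
    have e : ∀ v, ((guEquiv hF n).symm ⟨t, ht⟩ : GL (Fin n) F).1 *ᵥ v = t v := fun v => by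
      rw [← guEquiv_apply hF n, MulEquiv.apply_symm_apply]
    have e2 : d = (((guEquiv hF n).symm ⟨t, ht⟩ : GL (Fin n) F).1).det := by
      rw [hdd, LinearEquiv.coe_det, ← LinearMap.det_toLin']
      congr 1
      exact LinearMap.ext fun v => (e v).symm
    rw [e2]
    exact this
  have hd0 : d ≠ 0 := right_ne_zero_of_mul_eq_one hd
  have hl : (d⁻¹ - 1) + frob hF (d⁻¹ - 1) + frob hF (d⁻¹ - 1) * (d⁻¹ - 1) * hB hF n u u = 0 := by
    rw [hu, mul_one, map_sub, map_one, map_inv₀]
    have h' : (frob hF d)⁻¹ * d⁻¹ = 1 := by rw [← mul_inv, hd, inv_one]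
    linear_combination h'
  obtain ⟨g, hg⟩ := exists_su_of_iso hF (qrefl (B := hB hF n) u (d⁻¹ - 1) hl * t)
    (mul_mem (qrefl_mem_iso (hB_isSymm hF n) _ _ _) ht) (by
      rw [map_mul, Units.val_mul, Herm.det_qrefl, hu, mul_one, add_sub_cancel, ← hdd, inv_mul_cancel₀ hd0])
  refine ⟨g, fun i => ?_⟩
  have e : t (x i) = y i := by
    have := htx (b i)
    rwa [hb, hφi] at this
  rw [hg, LinearEquiv.mul_apply, e, qrefl_apply, swap0 hF (huy i), mul_zero, zero_smul, add_zero]

theorem exists_map_one (hn : 2 ≤ n) {x y : Fin n → F} (hx : hB hF n x x = 1) (hy : hB hF n y y = 1) :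
    ∃ g : Cfsg.SU n F q, act g x = y := by
  obtain ⟨g, hg⟩ := exists_map_on hF (k := 1) (by omega) (x := ![x]) (y := ![y])
    (fun i j => by fin_cases i; fin_cases j; simpa using hx)
    (fun i j => by fin_cases i; fin_cases j; simpa using hy)
  exact ⟨g, hg 0⟩

theorem on_two {x y : Fin n → F} (hx : hB hF n x x = 1) (hy : hB hF n y y = 1) (hxy : hB hF n x y = 0) :
    ON hF ![x, y] := fun i j => by
  fin_cases i <;> fin_cases j <;> simp [hx, hy, hxy, swap0 hF hxy]

theorem exists_map_two (hn : 3 ≤ n) {x x' y y' : Fin n → F} (hx : hB hF n x x = 1) (hx' : hB hF n x' x' = 1)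
    (hxx : hB hF n x x' = 0) (hy : hB hF n y y = 1) (hy' : hB hF n y' y' = 1) (hyy : hB hF n y y' = 0) :
    ∃ g : Cfsg.SU n F q, act g x = y ∧ act g x' = y' := by
  obtain ⟨g, hg⟩ := exists_map_on hF (k := 2) (by omega) (on_two hF hx hx' hxx) (on_two hF hy hy' hyy)
  exact ⟨g, hg 0, hg 1⟩

theorem hB_cons (c c' : F) (w w' : Fin m → F) :
    hB hF (m + 1) (Fin.cons c w) (Fin.cons c' w') = frob hF c * c' + hB hF m w w' := by
  simp only [hB_apply, Cfsg.hermForm, Fin.sum_univ_succ, Fin.cons_zero, Fin.cons_succ, frob_apply]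
  ring

theorem hB_single (i : Fin n) : hB hF n (Pi.single i 1) (Pi.single i 1) = 1 := by
  rw [hB_single_right]; simp

theorem hB_single_ne {i j : Fin n} (h : i ≠ j) : hB hF n (Pi.single i 1) (Pi.single j 1) = 0 := by
  rw [hB_single_right, Pi.single_eq_of_ne h.symm, zero_pow (by have := two_le_q hF; omega), one_mul]

theorem hB_single_left (i : Fin n) (v : Fin n → F) : hB hF n (Pi.single i 1) v = v i := by
  rw [← hB_symm hF, hB_single_right, one_mul, ← frob_apply hF, frob_frob]

theorem eq_of_unit_coord {v : Fin n → F} {i : Fin n} (hv : v i = 1) (h : ∀ j, j ≠ i → v j = 0) :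
    v = Pi.single i 1 := funext fun j => by
  by_cases e : j = i
  · subst e; simp [hv]
  · simp [e, h j e]

theorem exists_su_rot {x y : F} (h : nr hF x + nr hF y = 1) :
    ∃ g : Cfsg.SU 2 F q, ∀ v : Fin 2 → F, act g v = ![x * v 0 - frob hF y * v 1, y * v 0 + frob hF x * v 1] := by
  let M : Matrix (Fin 2) (Fin 2) F := !![x, -frob hF y; y, frob hF x]
  have hdet : M.det = 1 := by
    rw [Matrix.det_fin_two_of]
    simp only [nr] at h
    linear_combination h
  have hMv : ∀ v : Fin 2 → F, M *ᵥ v = ![x * v 0 - frob hF y * v 1, y * v 0 + frob hF x * v 1] := fun v => by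
    funext i; fin_cases i <;> simp [M, Matrix.mulVec, dotProduct, Fin.sum_univ_two, sub_eq_add_neg]
  refine ⟨⟨⟨M, hdet⟩, fun u v => ?_⟩, hMv⟩
  show Cfsg.hermForm 2 F q (M *ᵥ u) (M *ᵥ v) = _
  rw [hMv, hMv]
  simp only [Cfsg.hermForm, Fin.sum_univ_two, Matrix.cons_val_zero, Matrix.cons_val_one, ← frob_apply hF, map_sub,
    map_add, map_mul, frob_frob]
  simp only [nr] at h
  linear_combination (u 0 * frob hF (v 0) + u 1 * frob hF (v 1)) * h

omit hF in
/-- The embedding fixing the first coordinate. -/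
noncomputable abbrev up : Cfsg.SU m F q →* Cfsg.SU (m + 1) F q := blk (sh 1 (by omega))

omit hF in
theorem act_up (g : Cfsg.SU m F q) (c : F) (w : Fin m → F) :
    act (up g) (Fin.cons c w) = Fin.cons c (act g w) := by
  funext x
  refine Fin.cases ?_ (fun i => ?_) x
  · rw [act_blk_off _ _ _ fun h => by rw [mem_range_sh] at h; simp at h]
    simp
  · rw [← sh_one_eq i, act_blk, sh_one_eq, Fin.cons_succ]
    congr 1
    exact funext fun j => by rw [Function.comp_apply, sh_one_eq, Fin.cons_succ]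

omit hF in
/-- The first coordinate vector. -/
def e0 (m : ℕ) (F : Type*) [Field F] : Fin (m + 1) → F := Fin.cons 1 0

omit hF in
theorem e0_eq : e0 m F = Pi.single 0 1 := funext fun x => by
  refine Fin.cases ?_ (fun i => ?_) x <;> simp [e0]

theorem hB_e0 (v : Fin (m + 1) → F) : hB hF (m + 1) (e0 m F) v = v 0 := by rw [e0_eq, hB_single_left]

theorem hB_e0_self : hB hF (m + 1) (e0 m F) (e0 m F) = 1 := by rw [hB_e0]; simp [e0]

omit hF in
theorem act_up_e0 (g : Cfsg.SU m F q) : act (up g) (e0 m F) = e0 m F := by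
  rw [e0, act_up]
  simp [act]

theorem mem_range_up {g : Cfsg.SU (m + 1) F q} (hg : act g (e0 m F) = e0 m F) :
    g ∈ (up (F := F) (q := q) (m := m)).range := by
  refine mem_range_blk _ g fun k hk => ?_
  have hk0 : k = 0 := Fin.ext (by
    rw [mem_range_sh] at hk
    have := k.2
    simp only [Fin.val_zero]
    omega)
  subst hk0
  have hcol : ∀ j, mat g j 0 = e0 m F j := fun j => by
    have := congrFun hg j
    rw [e0_eq] at this
    rw [e0_eq, ← this]
    simp [act]
  refine ⟨by rw [hcol]; simp [e0], fun j hj => ⟨?_, by rw [hcol, e0_eq, Pi.single_eq_of_ne hj]⟩⟩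
  have h := form_act hF g (e0 m F) (Pi.single j 1)
  rw [hg, hB_e0, hB_e0, Pi.single_eq_of_ne (Ne.symm hj)] at h
  rw [← h]
  simp [act]

omit hF in
/-- The subgroup generated by the adjacent two dimensional blocks. -/
noncomputable def adjSub (n : ℕ) (F : Type*) [Field F] (q : ℕ) : Subgroup (Cfsg.SU n F q) :=
  ⨆ (i : ℕ) (h : i + 2 ≤ n), (blk (sh i h)).range

omit hF in
theorem adjSub_le_map : (adjSub m F q).map (up (F := F) (q := q)) ≤ adjSub (m + 1) F q := by
  simp only [adjSub, Subgroup.map_iSup, MonoidHom.map_range]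
  refine iSup₂_le fun i hi => ?_
  refine le_trans ?_ (le_iSup₂ (f := fun (j : ℕ) (h : j + 2 ≤ m + 1) => (blk (F := F) (q := q) (sh j h)).range) (1 + i) (by omega))
  rintro _ ⟨g, rfl⟩
  exact ⟨g, (blk_sh i 1 hi (by omega) g).symm⟩

omit hF in
theorem lo_mem (hm : 1 ≤ m) (g : Cfsg.SU 2 F q) :
    blk (sh 0 (by omega : 0 + 2 ≤ m + 1)) g ∈ adjSub (m + 1) F q :=
  Subgroup.mem_iSup_of_mem 0 (Subgroup.mem_iSup_of_mem (by omega) ⟨g, rfl⟩)

theorem act_lo_cons (hm : 1 ≤ m) {x y : F} {g : Cfsg.SU 2 F q}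
    (hg : ∀ v : Fin 2 → F, act g v = ![x * v 0 - frob hF y * v 1, y * v 0 + frob hF x * v 1])
    (v : Fin (m + 1) → F) :
    act (blk (sh 0 (by omega : 0 + 2 ≤ m + 1)) g) v 0 = x * v 0 - frob hF y * v ⟨1, by omega⟩ ∧
      act (blk (sh 0 (by omega : 0 + 2 ≤ m + 1)) g) v ⟨1, by omega⟩ = y * v 0 + frob hF x * v ⟨1, by omega⟩ ∧
      ∀ i : Fin (m + 1), 2 ≤ (i : ℕ) → act (blk (sh 0 (by omega : 0 + 2 ≤ m + 1)) g) v i = v i := by
  have h0 : sh 0 (by omega : 0 + 2 ≤ m + 1) (0 : Fin 2) = (0 : Fin (m + 1)) := Fin.ext (by simp [sh_val])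
  have h1 : sh 0 (by omega : 0 + 2 ≤ m + 1) (1 : Fin 2) = (⟨1, by omega⟩ : Fin (m + 1)) :=
    Fin.ext (by simp [sh_val])
  refine ⟨?_, ?_, fun i hi => act_blk_off _ _ _ (by rw [mem_range_sh]; omega)⟩
  · conv_lhs => rw [← h0]
    rw [act_blk, hg]
    simp [h0, h1]
  · conv_lhs => rw [← h1]
    rw [act_blk, hg]
    simp [h0, h1]

/-- `SU n` is generated by its adjacent two dimensional blocks. -/
theorem adjSub_eq_top (hq : 3 ≤ q) : ∀ n, 2 ≤ n → adjSub n F q = ⊤ := by
  intro n hn
  induction n, hn using Nat.le_induction with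
  | base =>
    rw [eq_top_iff]
    intro g _
    refine Subgroup.mem_iSup_of_mem 0 (Subgroup.mem_iSup_of_mem le_rfl ⟨g, ?_⟩)
    have e : ∀ i : Fin 2, sh 0 (by omega : 0 + 2 ≤ 2) i = i := fun i => Fin.ext (by simp [sh_val])
    refine act_ext fun j => funext fun x => ?_
    rw [← e x, act_blk, e x]
    congr 1
    exact funext fun k => by rw [Function.comp_apply, e]
  | succ m hm ih =>
    have hup : (up (F := F) (q := q) (m := m)).range ≤ adjSub (m + 1) F q := by
      rw [MonoidHom.range_eq_map, ← ih]; exact adjSub_le_map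
    -- every unit vector is in the orbit
    have key : ∀ v, hB hF (m + 1) v v = 1 → (nr hF (v 0) ≠ 1 ∨ Fin.tail v = 0) →
        ∃ g ∈ adjSub (m + 1) F q, act g (e0 m F) = v := by
      intro v hv hnd
      obtain ⟨ξ, z, rfl⟩ : ∃ ξ z, v = Fin.cons ξ z := ⟨v 0, Fin.tail v, (Fin.cons_self_tail v).symm⟩
      rw [hB_cons] at hv
      simp only [Fin.cons_zero, Fin.tail_cons] at hnd
      obtain ⟨c, hc, r, hr⟩ : ∃ c : F, nr hF ξ + nr hF c = 1 ∧
          ∃ r : Cfsg.SU m F q, act r (c • Pi.single (⟨0, by omega⟩ : Fin m) 1) = z := by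
        by_cases hz : z = 0
        · subst hz
          exact ⟨0, by rw [nr_zero, add_zero, nr]; simpa using hv, 1, by simp [act]⟩
        have hzz : hB hF m z z ≠ 0 := fun h => by
          rcases hnd with h1 | h1
          · exact h1 (by rw [h, add_zero] at hv; exact hv)
          · exact hz h1
        obtain ⟨c, hc⟩ := exists_nr hF hzz (self_fix hF z)
        have hc0 : c ≠ 0 := fun h => hzz (by rw [← hc, h, nr_zero])
        have hu : hB hF m (c⁻¹ • z) (c⁻¹ • z) = 1 := by
          rw [hB_smul_self, ← hc, ← nr_mul, inv_mul_cancel₀ hc0, nr_one]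
        obtain ⟨r, hr⟩ := exists_map_one hF hm (hB_single hF _) hu
        exact ⟨c, by rw [hc]; exact hv, r, by
          rw [act, Matrix.mulVec_smul]; show c • act r _ = z; rw [hr, smul_inv_smul₀ hc0]⟩
      obtain ⟨h, hh⟩ := exists_su_rot hF hc
      refine ⟨up r * blk (sh 0 (by omega)) h, mul_mem (hup ⟨r, rfl⟩) (lo_mem (by omega) h), ?_⟩
      obtain ⟨a0, a1, a2⟩ := act_lo_cons hF (m := m) (by omega) hh (e0 m F)
      have e : act (blk (sh 0 (by omega : 0 + 2 ≤ m + 1)) h) (e0 m F) =
          Fin.cons ξ (c • Pi.single (⟨0, by omega⟩ : Fin m) 1) := by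
        funext i
        refine Fin.cases ?_ (fun j => ?_) i
        · rw [a0, Fin.cons_zero]; simp [e0_eq, Fin.ext_iff]
        · rw [Fin.cons_succ]
          by_cases hj : (j : ℕ) = 0
          · rw [show j.succ = (⟨1, by omega⟩ : Fin (m + 1)) from Fin.ext (by simp [hj]), a1,
              show j = (⟨0, by omega⟩ : Fin m) from Fin.ext hj]
            simp [e0_eq, Fin.ext_iff]
          · rw [a2 _ (by simp; omega)]
            simp [e0_eq, Fin.ext_iff, hj]
      rw [act_mul, e, act_up, hr]
    have orbit : ∀ v, hB hF (m + 1) v v = 1 → ∃ g ∈ adjSub (m + 1) F q, act g (e0 m F) = v := by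
      intro v hv
      by_cases hnd : nr hF (v 0) ≠ 1 ∨ Fin.tail v = 0
      · exact key v hv hnd
      push Not at hnd
      obtain ⟨hξ, hz⟩ := hnd
      obtain ⟨i, hi⟩ : ∃ i, Fin.tail v i ≠ 0 := by
        by_contra h; push Not at h; exact hz (funext h)
      obtain ⟨r, hr⟩ := exists_map_one hF hm (hB_single hF i)
        (hB_single hF (⟨0, by omega⟩ : Fin m))
      set w := act (up r) v with hw
      have hw0 : w 0 = v 0 := by
        rw [hw, ← Fin.cons_self_tail v, act_up, Fin.cons_zero, Fin.cons_zero]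
      have hw1 : w ⟨1, by omega⟩ ≠ 0 := by
        rw [hw, ← Fin.cons_self_tail v, act_up, show (⟨1, by omega⟩ : Fin (m + 1)) = (⟨0, by omega⟩ : Fin m).succ
          from rfl, Fin.cons_succ]
        intro h
        have := form_act hF r (Pi.single i 1) (Fin.tail v)
        rw [hr, hB_single_left, hB_single_left, h] at this
        exact hi this.symm
      have hw01 : nr hF (w 0) = 1 := by rw [hw0]; exact hξ
      obtain ⟨γ, hγ, hγ0, hγ1⟩ := exists_fixed_ne hF hq 1
      obtain ⟨x, hx⟩ := exists_nr hF (sub_ne_zero.2 (Ne.symm hγ1)) (μ := 1 - γ) (by rw [map_sub, map_one, hγ])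
      obtain ⟨y, hy⟩ := exists_nr hF hγ0 hγ
      obtain ⟨A, hA⟩ : ∃ A, A = x * w 0 := ⟨_, rfl⟩
      obtain ⟨B, hB'⟩ : ∃ B, B = frob hF y * w ⟨1, by omega⟩ := ⟨_, rfl⟩
      have hA0 : A ≠ 0 := by
        rw [hA]
        refine mul_ne_zero (fun h => ?_) fun h => ?_
        · rw [h, nr_zero] at hx; exact sub_ne_zero.2 (Ne.symm hγ1) hx.symm
        · rw [h, nr_zero] at hw01; exact zero_ne_one hw01
      have hB0 : B ≠ 0 := by
        rw [hB']
        refine mul_ne_zero (fun h => ?_) hw1
        rw [map_eq_zero] at h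
        rw [h, nr_zero] at hy; exact hγ0 hy.symm
      -- the phase
      obtain ⟨e, he, hne⟩ : ∃ e, nr hF e = 1 ∧ nr hF (A - e * B) ≠ 1 := by
        by_contra hall
        push Not at hall
        have hexp : ∀ e, nr hF e = 1 → nr hF (A - e * B) =
            nr hF A + nr hF B - (frob hF A * B * e + A * frob hF B * frob hF e) := fun e he => by
          simp only [nr] at he ⊢
          simp only [map_sub, map_mul]
          linear_combination (frob hF B * B) * he
        set P := frob hF A * B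
        have hP : P ≠ 0 := mul_ne_zero (fun h => hA0 ((map_eq_zero _).1 h)) hB0
        obtain ⟨e, he, he1, he2⟩ := exists_circle_ne hF (by omega) 1 (A * frob hF B / P)
        have h1 := hexp e he
        have h2 := hexp 1 (nr_one hF)
        rw [hall e he] at h1
        rw [hall 1 (nr_one hF), map_one] at h2
        have hee : frob hF e * e = 1 := he
        have h3 : (e - 1) * (P * e - A * frob hF B) = 0 := by
          linear_combination e * h1 - e * h2 - A * frob hF B * hee
        rcases mul_eq_zero.1 h3 with h4 | h4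
        · exact he1 (sub_eq_zero.1 h4)
        · exact he2 (by rw [eq_div_iff hP, ← sub_eq_zero.1 h4, mul_comm])
      have hxy : nr hF x + nr hF (frob hF e * y) = 1 := by
        rw [nr_mul, nr_frob, he, one_mul, hx, hy]; ring
      obtain ⟨h, hh⟩ := exists_su_rot hF hxy
      set H := blk (sh 0 (by omega : 0 + 2 ≤ m + 1)) h
      obtain ⟨a0, -, -⟩ := act_lo_cons hF (m := m) (by omega) hh w
      have hH0 : nr hF (act H w 0) ≠ 1 := by
        rw [a0]
        simpa [hA, hB', frob_frob, mul_assoc] using hne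
      obtain ⟨g, hg, hge⟩ := key (act H w) (by rw [form_act, hw, form_act, hv]) (Or.inl hH0)
      exact ⟨(H * up r)⁻¹ * g, mul_mem (inv_mem (mul_mem (lo_mem (by omega) h) (hup ⟨r, rfl⟩))) hg, by
        rw [act_mul, hge, hw, ← act_mul, ← act_mul, mul_assoc, inv_mul_cancel, act_one]⟩
    rw [eq_top_iff]
    intro g _
    obtain ⟨x, hx, hxe⟩ := orbit (act g (e0 m F)) (by rw [form_act, hB_e0_self])
    have : x⁻¹ * g ∈ adjSub (m + 1) F q :=
      hup (mem_range_up hF (by rw [act_mul, ← hxe, act_inv_act]))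
    simpa using mul_mem hx this

end Cfsg.Lib.Phan
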