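import Cfsg.Agent.Lib.Phan.Gen

/-!
# The unit vectors perpendicular to two given ones

For a unit vector `a`, a vector `v` is nondegenerate when the plane of `a` and `v` is nondegenerate or a line. A
function on unit vectors perpendicular to a degenerate `v` that agrees on orthogonal nondegenerate pairs is constant
on those perpendicular to `a` and `v`.
-/

set_option autoImplicit false
set_option linter.unusedSectionVars false

namespace Cfsg.Lib.Phan

open Cfsg Cfsg.Lib.Linear Cfsg.Lib.Linear.Herm Cfsg.Lib.UnitMult.Step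
open scoped Matrix

variable {F : Type*} [Field F] [Fintype F] {q n : ℕ} (hF : Fintype.card F = q ^ 2)

local notation:max "⟪" x ", " y "⟫" => hB hF _ x y

/-- The plane of `a` and `v` is nondegenerate or a line. -/
def Nd (a v : Fin n → F) : Prop := nr hF ⟪a, v⟫ ≠ 1 ∨ ∃ c : F, v = c • a

include hF

theorem nd_of_perp {a v : Fin n → F} (h : ⟪a, v⟫ = 0) : Nd hF a v := Or.inl (by rw [h, nr_zero]; exact zero_ne_one)

/-- A fixed scalar outside three given values. -/
theorem exists_fixed_avoid (hq : 4 ≤ q) (b c : F) : ∃ s : F, frob hF s = s ∧ s ≠ 0 ∧ s ≠ b ∧ s ≠ c := by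
  classical
  by_contra hno
  push Not at hno
  have : Nat.card {a : F // a ^ q = a} ≤ 3 := by
    rw [Nat.card_eq_fintype_card, Fintype.card_subtype]
    refine (Finset.card_le_card (t := {0, b, c}) fun a ha => ?_).trans Finset.card_le_three
    simp only [Finset.mem_filter, Finset.mem_univ, true_and] at ha
    by_cases h0 : a = 0
    · simp [h0]
    by_cases h1 : a = b
    · simp [h1]
    · simp [hno a (by rw [frob_apply, ha]) h0 h1]
  rw [Herm.card_fixed hF] at this
  omega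

theorem exists_perp2 (hn : 4 ≤ n) {a : Fin n → F} (ha : ⟪a, a⟫ = 1) (v : Fin n → F) :
    ∃ b, ⟪b, b⟫ = 1 ∧ ⟪a, b⟫ = 0 ∧ ⟪v, b⟫ = 0 := by
  obtain ⟨w, hw, h⟩ := exists_common hF ![a, v] ![a]
    (fun l => Submodule.subset_span ⟨0, by fin_cases l; rfl⟩) (gram_one hF ha) (by omega)
  exact ⟨w, hw, h 0, h 1⟩

/-- The criterion for three vectors to have a common perpendicular unit. -/
theorem exists_perp3 (hn : 4 ≤ n) {a v w : Fin n → F} (ha : ⟪a, a⟫ = 1) (hv : ⟪v, v⟫ = 1) (hw : ⟪w, w⟫ = 1)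
    (hvw : ⟪v, w⟫ = 0) (h : 5 ≤ n ∨ nr hF ⟪a, v⟫ + nr hF ⟪a, w⟫ ≠ 1 ∨ ∃ c d : F, a = c • v + d • w) :
    ∃ p, ⟪p, p⟫ = 1 ∧ ⟪a, p⟫ = 0 ∧ ⟪v, p⟫ = 0 ∧ ⟪w, p⟫ = 0 := by
  rcases h with h | h | ⟨c, d, h⟩
  · obtain ⟨p, hp, h'⟩ := exists_common hF ![a, v, w] ![v, w]
      (fun l => Submodule.subset_span ⟨![1, 2] l, by fin_cases l <;> rfl⟩) (gram_two hF hv hw hvw) (by omega)
    exact ⟨p, hp, h' 0, h' 1, h' 2⟩
  · have hg : GramInj hF ![a, v, w] := fun c hc => by
      have h0 := hc 0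
      have h1 := hc 1
      have h2 := hc 2
      simp [Fin.sum_univ_three, ha, hv, hw, hvw, swap0 hF hvw, ← (hB_isSymm hF n).eq a v,
        ← (hB_isSymm hF n).eq a w] at h0 h1 h2
      have h3 : c 0 * (1 - (nr hF ⟪a, v⟫ + nr hF ⟪a, w⟫)) = 0 := by
        simp only [nr]
        linear_combination h0 - hB hF n a v * h1 - hB hF n a w * h2
      have hc0 : c 0 = 0 := (mul_eq_zero.1 h3).resolve_right (sub_ne_zero.2 (Ne.symm h))
      rw [hc0, zero_mul, zero_add] at h1 h2
      exact funext fun i => by fin_cases i <;> simp [hc0, h1, h2]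
    obtain ⟨p, hp, h'⟩ := exists_common hF ![a, v, w] ![a, v, w]
      (fun l => Submodule.subset_span ⟨l, rfl⟩) hg (by omega)
    exact ⟨p, hp, h' 0, h' 1, h' 2⟩
  · obtain ⟨p, hp, h'⟩ := exists_common hF ![v, w] ![v, w] (fun l => Submodule.subset_span ⟨l, rfl⟩)
      (gram_two hF hv hw hvw) (by omega)
    refine ⟨p, hp, ?_, h' 0, h' 1⟩
    rw [h, map_add, LinearMap.map_smulₛₗ, LinearMap.map_smulₛₗ, LinearMap.add_apply, LinearMap.smul_apply,
      LinearMap.smul_apply, show hB hF n v p = 0 from h' 0, show hB hF n w p = 0 from h' 1, smul_zero, smul_zero,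
      add_zero]

/-- In the plane of an isotropic vector and a vector not perpendicular to it there are units of every product. -/
theorem exists_unit_in_plane {y u : Fin n → F} (hy : ⟪y, y⟫ = 0) (hyu : ⟪y, u⟫ ≠ 0) {γ : F} (hγ : γ ≠ 0)
    (hγf : frob hF γ = γ) :
    ∃ x l : F, ⟪x • y + l • u, x • y + l • u⟫ = 1 ∧ nr hF ⟪y, x • y + l • u⟫ = γ := by
  obtain ⟨t, ht⟩ := exists_nr hF hγ hγf
  set l := t / hB hF n y u with hl
  have ht0 : t ≠ 0 := fun h => hγ (by rw [← ht, h, nr_zero])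
  have hlu : l * hB hF n y u = t := div_mul_cancel₀ t hyu
  have hfix : frob hF (1 - nr hF l * hB hF n u u) = 1 - nr hF l * hB hF n u u := by
    rw [map_sub, map_one, map_mul, nr_fix, self_fix hF u]
  obtain ⟨r, hr⟩ := exists_trace_eq (frob_ne_id hF) (frob_frob hF) hfix
  refine ⟨frob hF r / frob hF t, l, ?_, ?_⟩
  · have hft : frob hF t ≠ 0 := fun h => ht0 ((map_eq_zero _).1 h)
    set x := frob hF r / frob hF t with hx
    have h1 : frob hF x * t = r := by
      rw [hx, map_div₀, frob_frob, frob_frob, div_mul_cancel₀ _ ht0]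
    have h2 : x * frob hF t = frob hF r := div_mul_cancel₀ _ hft
    have hflu : frob hF l * hB hF n u y = frob hF t := by rw [← hlu, map_mul, hB_symm hF]
    simp only [map_add, LinearMap.map_smulₛₗ, map_smul, LinearMap.add_apply, LinearMap.smul_apply, smul_eq_mul,
      RingHom.id_apply, hy]
    simp only [nr] at hr
    linear_combination frob hF x * hlu + x * hflu + h1 + h2 + hr
  · rw [map_add, map_smul, map_smul, hy, smul_zero, zero_add, smul_eq_mul, hlu, ht]

/-- A unit perpendicular to a tuple with prescribed product with a perpendicular isotropic vector. -/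
theorem exists_link {k : ℕ} {s : Fin k → (Fin n → F)} (hg : GramInj hF s) {z : Fin n → F} (hz : z ≠ 0)
    (hzz : ⟪z, z⟫ = 0) (hzs : ∀ i, ⟪s i, z⟫ = 0) {γ : F} (hγ : γ ≠ 0) (hγf : frob hF γ = γ) :
    ∃ f, ⟪f, f⟫ = 1 ∧ (∀ i, ⟪s i, f⟫ = 0) ∧ nr hF ⟪z, f⟫ = γ := by
  have hzM : z ∉ Submodule.span F (Set.range s) := by
    intro h
    obtain ⟨c, hc⟩ := (Submodule.mem_span_range_iff_exists_fun F).1 h
    have h0 : c = 0 := hg c fun i => by
      have := hzs i
      rw [← hc, map_sum] at this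
      simpa [map_smul, smul_eq_mul] using this
    exact hz (by rw [← hc, h0]; simp)
  obtain ⟨u, hu, hzu⟩ := exists_perp_ne_zero (frob_frob hF) (hB_isSymm hF n) (hB_nondegenerate hF n) _ hzM
  obtain ⟨x, l, h1, h2⟩ := exists_unit_in_plane hF hzz hzu hγ hγf
  refine ⟨_, h1, fun i => ?_, h2⟩
  rw [map_add, map_smul, map_smul, hzs i, hu _ (Submodule.subset_span ⟨i, rfl⟩), smul_zero, smul_zero, add_zero]

theorem gram_pair {v b : Fin n → F} (hv : ⟪v, v⟫ = 1) (hb : ⟪b, b⟫ = 1) (hvb : ⟪v, b⟫ = 0) : GramInj hF ![v, b] :=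
  gram_two hF hv hb hvb

/-- The connecting pair for two nondegenerate orthogonal vectors without common perpendicular unit. -/
theorem exists_detour (hq : 4 ≤ q) (hn : 4 ≤ n) {a v w : Fin n → F} (ha : ⟪a, a⟫ = 1) (hv : ⟪v, v⟫ = 1)
    (hw : ⟪w, w⟫ = 1) (hvw : ⟪v, w⟫ = 0) (hdv : Nd hF a v) (hdw : Nd hF a w)
    (hno : ¬ ∃ p, ⟪p, p⟫ = 1 ∧ ⟪a, p⟫ = 0 ∧ ⟪v, p⟫ = 0 ∧ ⟪w, p⟫ = 0) :
    ∃ b d, ⟪b, b⟫ = 1 ∧ ⟪a, b⟫ = 0 ∧ ⟪v, b⟫ = 0 ∧ ⟪d, d⟫ = 1 ∧ ⟪a, d⟫ = 0 ∧ ⟪b, d⟫ = 0 ∧ ⟪w, d⟫ = 0 ∧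
      Nd hF b w := by
  have hc : ¬ (5 ≤ n) ∧ nr hF ⟪a, v⟫ + nr hF ⟪a, w⟫ = 1 ∧ ∀ c d : F, a ≠ c • v + d • w := by
    refine ⟨fun h => hno (exists_perp3 hF hn ha hv hw hvw (Or.inl h)), ?_, fun c d h =>
      hno (exists_perp3 hF hn ha hv hw hvw (Or.inr (Or.inr ⟨c, d, h⟩)))⟩
    by_contra h
    exact hno (exists_perp3 hF hn ha hv hw hvw (Or.inr (Or.inl h)))
  obtain ⟨-, hsum, hspan⟩ := hc
  have hnl : ∀ {x : Fin n → F}, ⟪x, x⟫ = 1 → Nd hF a x → (∀ c : F, a ≠ c • x) → nr hF ⟪a, x⟫ ≠ 1 := by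
    rintro x hx (h | ⟨c, rfl⟩) hne
    · exact h
    · have hc : c ≠ 0 := fun h => by simp [h] at hx
      exact absurd (inv_smul_smul₀ hc a).symm (hne c⁻¹)
  set α := nr hF ⟪a, v⟫ with hα
  set β := nr hF ⟪a, w⟫ with hβ
  have hα1 : α ≠ 1 := hnl hv hdv fun c h => hspan c 0 (by simpa using h)
  have hβ1 : β ≠ 1 := hnl hw hdw fun c h => hspan 0 c (by simpa using h)
  have h1α : 1 - α ≠ 0 := sub_ne_zero.2 (Ne.symm hα1)
  -- the projection of `w` off the plane of `a` and `v`
  set p := a - hB hF n v a • v with hp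
  have hvp : hB hF n v p = 0 := by rw [hp, map_sub, map_smul, hv, smul_eq_mul, mul_one, sub_self]
  have hpa : ∀ x, hB hF n v x = 0 → hB hF n p x = hB hF n a x := fun x hx => by
    rw [hp, map_sub, LinearMap.map_smulₛₗ, LinearMap.sub_apply, LinearMap.smul_apply, hx, smul_zero, sub_zero]
  have hpp : hB hF n p p = 1 - α := by
    rw [hpa p hvp, hp, map_sub, map_smul, ha, hα, nr, smul_eq_mul, hB_symm hF, mul_comm]
  have hpw : hB hF n p w = hB hF n a w := hpa w hvw
  set w' := w - (hB hF n a w / (1 - α)) • p with hw'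
  have hvw' : hB hF n v w' = 0 := by rw [hw', map_sub, map_smul, hvw, hvp, smul_zero, sub_zero]
  have hpw' : hB hF n p w' = 0 := by
    rw [hw', map_sub, map_smul, hpw, hpp, smul_eq_mul, div_mul_cancel₀ _ h1α, sub_self]
  have haw' : hB hF n a w' = 0 := by rw [← hpa w' hvw', hpw']
  have hw'x : ∀ x, hB hF n p x = 0 → hB hF n w' x = hB hF n w x := fun x hx => by
    rw [hw', map_sub, LinearMap.map_smulₛₗ, LinearMap.sub_apply, LinearMap.smul_apply, hx, smul_zero, sub_zero]
  have hw'0 : hB hF n w' w' = 0 := by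
    rw [hw'x w' hpw', hw', map_sub, map_smul, hw, ← hB_symm hF p w, hpw, smul_eq_mul, div_mul_eq_mul_div,
      sub_eq_zero, eq_div_iff h1α, one_mul]
    rw [hβ, nr] at hsum
    linear_combination -hsum
  have hw'ne : w' ≠ 0 := by
    intro h
    have hk : w = (hB hF n a w / (1 - α)) • p := sub_eq_zero.1 h
    set k := hB hF n a w / (1 - α)
    have hk0 : k ≠ 0 := fun h0 => by rw [h0, zero_smul] at hk; simp [hk] at hw
    refine hspan (hB hF n v a) k⁻¹ ?_
    rw [hk, inv_smul_smul₀ hk0, hp, add_sub_cancel]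
  obtain ⟨γ, hγf, hγ0, hγ1, hγα⟩ := exists_fixed_avoid hF hq 1 α
  have hg : GramInj hF ![v, p] := fun c hc => by
    have h0 := hc 0
    have h1 := hc 1
    simp [Fin.sum_univ_two, hv, hvp, swap0 hF hvp, hpp, h1α] at h0 h1
    exact funext fun i => by fin_cases i <;> simp [h0, h1]
  obtain ⟨b, hb, hbs, hbw⟩ := exists_link hF hg hw'ne hw'0 (fun i => by fin_cases i <;> assumption) hγ0 hγf
  have hvb : hB hF n v b = 0 := hbs 0
  have hpb : hB hF n p b = 0 := hbs 1
  have hab : hB hF n a b = 0 := by rw [← hpa b hvb, hpb]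
  have hwb : nr hF ⟪b, w⟫ = γ := by rw [nr_form_symm hF b w, ← hw'x b hpb, hbw]
  obtain ⟨d, hd, hwd, had, hbd⟩ := exists_perp3 hF hn hw ha hb hab (Or.inr (Or.inl (by
    rw [nr_form_symm hF w a, nr_form_symm hF w b, hwb, ← hβ]
    intro h
    exact hγα (by linear_combination h - hsum))))
  exact ⟨b, d, hb, hab, hvb, hd, had, hbd, hwd, Or.inl (by rw [hwb]; exact hγ1)⟩

omit hF in
/-- The subring generated by more than `q` elements is everything. -/
theorem addSubgroup_top_of_circle (hF : Fintype.card F = q ^ 2) {c : F} (hc : c ≠ 0) (hcf : frob hF c = c)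
    (A : AddSubgroup F) (hA : ∀ m, nr hF m = c → m ∈ A) : A = ⊤ := by
  classical
  set A0 := AddSubgroup.closure {m : F | nr hF m = c} with hA0
  suffices A0 = ⊤ from top_le_iff.1 (this ▸ (AddSubgroup.closure_le A).2 hA)
  let K : Subring F :=
    { carrier := {x | ∀ m ∈ A0, x * m ∈ A0}
      one_mem' := fun m hm => by simpa using hm
      mul_mem' := fun {x y} hx hy m hm => by rw [mul_assoc]; exact hx _ (hy m hm)
      zero_mem' := fun m _ => by simp
      add_mem' := fun {x y} hx hy m hm => by rw [add_mul]; exact A0.add_mem (hx m hm) (hy m hm)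
      neg_mem' := fun {x} hx m hm => by rw [neg_mul]; exact A0.neg_mem (hx m hm) }
  let K' : Subfield F :=
    { K with
      inv_mem' := fun x hx => by
        by_cases h0 : x = 0
        · subst h0; rw [inv_zero]; exact K.zero_mem
        · have e : x⁻¹ = x ^ (Fintype.card F - 2) := by
            refine inv_eq_of_mul_eq_one_right ?_
            rw [← pow_succ', show Fintype.card F - 2 + 1 = Fintype.card F - 1 by
              have := Fintype.one_lt_card (α := F); omega, FiniteField.pow_card_sub_one_eq_one x h0]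
          rw [e]; exact K.pow_mem hx _ }
  have hcirc : ∀ e, nr hF e = 1 → e ∈ K' := by
    intro e he m hm
    have : A0 ≤ A0.comap (AddMonoidHom.mulLeft e) := (AddSubgroup.closure_le _).2 fun x hx =>
      AddSubgroup.subset_closure (show nr hF (e * x) = c by rw [nr_mul, he, one_mul, hx])
    exact this hm
  have hcard : q < Nat.card K' := by
    have h := Nat.card_le_card_of_injective (fun e : {x : F // nr hF x = 1} => (⟨e.1, hcirc e.1 e.2⟩ : K'))
      fun e e' h => Subtype.ext (congrArg (fun z : K' => (z : F)) h :)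
    rw [card_circle hF one_ne_zero (map_one _)] at h
    omega
  have htop : ∀ x : F, x ∈ K' := by
    haveI : Fintype K' := Fintype.ofFinite _
    have hd := Module.card_eq_pow_finrank (K := K') (V := F)
    rw [hF] at hd
    rw [Nat.card_eq_fintype_card] at hcard
    have hd1 : Module.finrank K' F = 1 := by
      have hpos : 0 < Module.finrank K' F := Module.finrank_pos
      by_contra hne
      have h2 : Fintype.card K' ^ 2 ≤ Fintype.card K' ^ Module.finrank K' F :=
        Nat.pow_le_pow_right Fintype.card_pos (by omega)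
      have h3 : q ^ 2 < Fintype.card K' ^ 2 := Nat.pow_lt_pow_left hcard (by norm_num)
      omega
    intro x
    rw [hd1, pow_one] at hd
    have hK : Set.range (Subtype.val : K' → F) = Set.univ := by
      refine Set.eq_of_subset_of_ncard_le (Set.subset_univ _) ?_
      rw [Set.ncard_range_of_injective Subtype.val_injective, Set.ncard_univ, Nat.card_eq_fintype_card,
        Nat.card_eq_fintype_card, hF, hd]
    obtain ⟨y, hy⟩ := (hK.ge (Set.mem_univ x) : x ∈ Set.range (Subtype.val : K' → F))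
    exact hy ▸ y.2
  obtain ⟨m, hm⟩ := exists_nr hF hc hcf
  have hm0 : m ≠ 0 := fun h => hc (by rw [← hm, h, nr_zero])
  refine eq_top_iff.2 fun x _ => ?_
  have := htop (x / m) m (AddSubgroup.subset_closure hm)
  rwa [div_mul_cancel₀ x hm0] at this

end Cfsg.Lib.Phan
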