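import Cfsg.Agent.Lib.Phan.Cover
import Cfsg.Agent.Lib.Phan.GaugeExt

/-!
# Recognition of unitary groups from weak Phan systems
-/

set_option autoImplicit false
set_option linter.unusedSectionVars false

namespace Cfsg.Lib.Phan

open Cfsg Cfsg.Lib.Linear Cfsg.Lib.Linear.Herm
open scoped Matrix

variable {F : Type*} [Field F] [Fintype F] {q : ℕ} (hF : Fintype.card F = q ^ 2) {G : Type*} [Group G]
include hF

omit hF in
theorem blk_sh_self {m : ℕ} (h : 0 + m ≤ m) (g : Cfsg.SU m F q) : blk (sh 0 h) g = g := by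
  refine act_ext fun j => funext fun x => ?_
  have e : ∀ i : Fin m, sh 0 h i = i := fun i => Fin.ext (by simp [sh_val])
  rw [← e x, act_blk, e x]
  congr 1
  exact funext fun k => by rw [Function.comp_apply, e]

/-- Maps of a chain that agree on the shared blocks and commute when far apart come from one map, as soon as this
holds for the windows of a first length. -/
theorem exists_hom_of_agreeing (hq : 3 ≤ q) {K : ℕ} (ψ : ℕ → (Cfsg.SU 3 F q →* G))
    (hag : ∀ i, i + 1 < K → (ψ i).comp hi = (ψ (i + 1)).comp lo)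
    (hll : ∀ i j, i + 2 ≤ j → j < K → ∀ g h, Commute (ψ i (lo g)) (ψ j (lo h)))
    (hlh : ∀ i j, i + 1 ≤ j → j < K → ∀ g h, Commute (ψ i (lo g)) (ψ j (hi h)))
    {k0 : ℕ} (hk0 : 1 ≤ k0) (hbig : 4 ≤ q ∨ 2 ≤ k0)
    (hbase : ∀ d, d + k0 ≤ K → ∃ f : Cfsg.SU (k0 + 2) F q →* G,
      ∀ i (h : i + 3 ≤ k0 + 2) a, f (blk (sh i h) a) = ψ (d + i) a) :
    ∀ k, k0 ≤ k → ∀ d, d + k ≤ K →
      ∃ f : Cfsg.SU (k + 2) F q →* G, ∀ i (h : i + 3 ≤ k + 2) a, f (blk (sh i h) a) = ψ (d + i) a := by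
  intro k hk
  induction k, hk using Nat.le_induction with
  | base => exact hbase
  | succ k hk ih =>
    intro d hd
    obtain ⟨f', hf'⟩ := ih (d + 1) (by omega)
    let D : Amal F q (k + 1) G :=
      { hF := hF
        hk := by omega
        hq := hq
        hbig := hbig.imp_right fun h => by omega
        ρ := f'
        κ := ψ d
        agree := fun g => by
          have e := DFunLike.congr_fun (hag d (by omega)) g
          simp only [MonoidHom.comp_apply] at e
          rw [e, ← hf' 0 (by omega) (lo g)]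
          exact congrArg f' (blk_sh 0 0 (by omega) (by omega) g)
        comm := fun g => by
          let S : Subgroup (Cfsg.SU (k + 1) F q) := (Subgroup.centralizer {ψ d (lo g)}).comap (f'.comp up)
          have hS : adjSub (k + 1) F q ≤ S := by
            refine iSup₂_le fun j hj => ?_
            rintro _ ⟨x, rfl⟩
            show f' (up (blk (sh j hj) x)) ∈ Subgroup.centralizer {ψ d (lo g)}
            rw [Subgroup.mem_centralizer_singleton_iff, show up (blk (sh j hj) x) = blk (sh (1 + j) (by omega)) x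
              from blk_sh j 1 hj (by omega) x]
            by_cases hlast : j + 2 ≤ k
            · have e := blk_sh 0 (1 + j) (show 0 + 2 ≤ 3 by omega) (show 1 + j + 3 ≤ k + 2 by omega) x
              have e2 := hf' (1 + j) (by omega) (lo x)
              rw [show blk (sh (1 + j) _) (lo x) = blk (sh (1 + j) (by omega : 1 + j + 2 ≤ k + 2)) x from e] at e2
              rw [e2]
              exact (hll d (d + 1 + (1 + j)) (by omega) (by omega) g x).eq.symm
            · have e := blk_sh 1 j (show 1 + 2 ≤ 3 by omega) (show j + 3 ≤ k + 2 by omega) x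
              have e2 := hf' j (by omega) (hi x)
              rw [show blk (sh j _) (hi x) = blk (sh (1 + j) (by omega : 1 + j + 2 ≤ k + 2)) x by
                rw [e]; simp only [add_comm 1 j]] at e2
              rw [e2]
              exact (hlh d (d + 1 + j) (by omega) (by omega) g x).eq.symm
          intro h
          have := hS (by rw [adjSub_eq_top hF (by omega) _ (by omega)]; exact Subgroup.mem_top h)
          exact (Subgroup.mem_centralizer_singleton_iff.1 this).symm }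
    obtain ⟨f, hfr, hfk⟩ := D.exists_extend
    refine ⟨f, fun i h a => ?_⟩
    rcases Nat.eq_zero_or_pos i with rfl | hi
    · exact hfk a
    · obtain ⟨j, rfl⟩ : ∃ j, i = 1 + j := ⟨i - 1, by omega⟩
      rw [← blk_sh j 1 (by omega : j + 3 ≤ k + 2) (by omega) a]
      refine (hfr _).trans ?_
      show f' _ = _
      rw [hf' j, ← add_assoc]

/-- The recognition theorem for given agreeing maps. -/
theorem exists_surjective_of_maps {n : ℕ} (hq : 3 ≤ q) (U : Fin n → Subgroup G)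
    (V : Fin n → Fin n → Subgroup G)
    (h1 : ∀ i j : Fin n, (i : ℕ) + 2 ≤ j → ∀ x ∈ U i, ∀ y ∈ U j, x * y = y * x)
    (hgen : (⨆ i, U i) ⊔ (⨆ (i : Fin n) (j : Fin n) (_ : (i : ℕ) + 1 = j), V i j) = ⊤)
    (ψ : ℕ → (Cfsg.SU 3 F q →* G))
    (hψ : ∀ i, ∀ h : i + 1 < n, (ψ i).range = V ⟨i, by omega⟩ ⟨i + 1, h⟩ ∧
      ((ψ i).comp lo).range = U ⟨i, by omega⟩ ∧ ((ψ i).comp hi).range = U ⟨i + 1, h⟩)
    (hag : ∀ i, i + 2 < n → (ψ i).comp hi = (ψ (i + 1)).comp lo)
    {k0 : ℕ} (hk0 : 1 ≤ k0) (hn : k0 + 1 ≤ n) (hbig : 4 ≤ q ∨ 2 ≤ k0)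
    (hbase : ∀ d, d + k0 + 1 ≤ n → ∃ f : Cfsg.SU (k0 + 2) F q →* G,
      ∀ i (h : i + 3 ≤ k0 + 2) a, f (blk (sh i h) a) = ψ (d + i) a) :
    ∃ f : Cfsg.SU (n + 1) F q →* G, Function.Surjective f := by
  obtain ⟨k, rfl⟩ : ∃ k, n = k + 1 := ⟨n - 1, by omega⟩
  have hlo : ∀ i (h : i + 1 < k + 1) g, ψ i (lo g) ∈ U ⟨i, by omega⟩ := fun i h g =>
    (hψ i h).2.1 ▸ ⟨g, rfl⟩
  have hhi : ∀ i (h : i + 1 < k + 1) g, ψ i (hi g) ∈ U ⟨i + 1, h⟩ := fun i h g =>
    (hψ i h).2.2 ▸ ⟨g, rfl⟩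
  obtain ⟨f, hf⟩ := exists_hom_of_agreeing hF hq ψ (K := k) (fun i h => hag i (by omega))
    (fun i j hij hj g h => h1 ⟨i, by omega⟩ ⟨j, by omega⟩ hij _ (hlo i (by omega) g) _ (hlo j (by omega) h))
    (fun i j hij hj g h => h1 ⟨i, by omega⟩ ⟨j + 1, by omega⟩ (by simp; omega) _ (hlo i (by omega) g) _
      (hhi j (by omega) h))
    hk0 hbig (fun d hd => hbase d (by omega)) k (by omega) 0 (by omega)
  simp only [zero_add] at hf
  refine ⟨f, MonoidHom.range_eq_top.1 (top_le_iff.1 ?_)⟩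
  have hV : ∀ i (h : i + 1 < k + 1), V ⟨i, by omega⟩ ⟨i + 1, h⟩ ≤ f.range := fun i h => by
    rw [← (hψ i h).1]
    rintro _ ⟨a, rfl⟩
    exact ⟨_, hf i (by omega) a⟩
  rw [← hgen]
  refine sup_le (iSup_le fun i => ?_) (iSup₂_le fun i j => iSup_le fun hij => ?_)
  · by_cases h : (i : ℕ) + 1 < k + 1
    · rintro x hx
      have h' := hψ i h
      rw [show i = (⟨(i : ℕ), by omega⟩ : Fin (k + 1)) from rfl, ← h'.2.1] at hx
      obtain ⟨g, rfl⟩ := hx
      exact ⟨_, hf i (by omega) (lo g)⟩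
    · rintro x hx
      have h' := hψ (k - 1) (by omega)
      rw [show i = (⟨k - 1 + 1, by omega⟩ : Fin (k + 1)) from Fin.ext (by simp; omega), ← h'.2.2] at hx
      obtain ⟨g, rfl⟩ := hx
      exact ⟨_, hf (k - 1) (by omega) (hi g)⟩
  · have e : j = ⟨(i : ℕ) + 1, by omega⟩ := Fin.ext hij.symm
    rw [e]
    exact hV i (by omega)

/-- The recognition theorem. -/
theorem exists_surjective {n : ℕ} (hn : 2 ≤ n) (hq : 4 ≤ q) (U : Fin n → Subgroup G)
    (V : Fin n → Fin n → Subgroup G)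
    (h1 : ∀ i j : Fin n, (i : ℕ) + 2 ≤ j → ∀ x ∈ U i, ∀ y ∈ U j, x * y = y * x)
    (h2 : ∀ i j : Fin n, (i : ℕ) + 1 = j → Cfsg.IsStandardUnitaryPair (V i j) (U i) (U j) F q)
    (hgen : (⨆ i, U i) ⊔ (⨆ (i : Fin n) (j : Fin n) (_ : (i : ℕ) + 1 = j), V i j) = ⊤) :
    ∃ f : Cfsg.SU (n + 1) F q →* G, Function.Surjective f := by
  obtain ⟨ψ, hψ, hag⟩ := exists_agreeing hF hq U V h1 h2
  refine exists_surjective_of_maps hF (by omega) U V h1 hgen ψ hψ hag (k0 := 1) le_rfl (by omega) (Or.inl hq)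
    fun d _ => ⟨ψ d, fun i h a => ?_⟩
  obtain rfl : i = 0 := by omega
  exact congrArg (ψ d) (blk_sh_self h a)

end Cfsg.Lib.Phan
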