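import Cfsg.Agent.Lib.Phan.BaseThree
import Cfsg.Agent.Lib.Phan.Main
import Cfsg.Agent.Lib.Linear.PSUSimple

/-!
# Recognition of unitary groups over the field with nine elements from weak Phan systems
-/

set_option autoImplicit false
set_option linter.unusedSectionVars false

namespace Cfsg.Lib.Phan

open Cfsg Cfsg.Lib.Linear Cfsg.Lib.Linear.Herm
open scoped Matrix

variable {F : Type*} [Field F] [Fintype F] (hF : Fintype.card F = 3 ^ 2) {G : Type*} [Group G]
include hF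

/-- A map with non-commutative image has scalar kernel. -/
theorem scal_of_not_commute (g : ↥(Cfsg.SU 4 F 3) →* G) {a b : G} (ha : a ∈ g.range) (hb : b ∈ g.range)
    (hab : a * b ≠ b * a) : Base.Scal g := by
  intro z hz
  have hs := psu_simple hF (n := 4) le_rfl
  have hN : (g.ker.map (QuotientGroup.mk' (Subgroup.center ↥(Cfsg.SU 4 F 3)))).Normal :=
    Subgroup.Normal.map inferInstance _ (QuotientGroup.mk'_surjective _)
  have hzc : z ∈ Subgroup.center ↥(Cfsg.SU 4 F 3) := by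
    rcases hs.eq_bot_or_eq_top_of_normal _ hN with h | h
    · exact (QuotientGroup.eq_one_iff z).1 (Subgroup.mem_bot.1 (h ▸ Subgroup.mem_map_of_mem _ hz))
    · exfalso
      obtain ⟨x, rfl⟩ := ha
      obtain ⟨y, rfl⟩ := hb
      obtain ⟨x', hx', hxe⟩ : QuotientGroup.mk' (Subgroup.center ↥(Cfsg.SU 4 F 3)) x ∈
          g.ker.map (QuotientGroup.mk' (Subgroup.center ↥(Cfsg.SU 4 F 3))) := h ▸ Subgroup.mem_top _
      have hc := Subgroup.mem_center_iff.1 (QuotientGroup.eq.1 hxe) y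
      have := congrArg g hc
      simp only [map_mul, map_inv, MonoidHom.mem_ker.1 hx', inv_one, one_mul] at this
      exact hab this.symm
  obtain ⟨c, hc, e⟩ := PSUFourSeven.center_scalar (show Fintype.card F = 9 from hF) hzc
  refine ⟨c, hc, Matrix.ext_of_mulVec_single fun i => ?_⟩
  rw [Matrix.smul_mulVec, Matrix.one_mulVec]
  exact LinearMap.congr_fun e (Pi.single i 1)

/-- The recognition theorem over the field with nine elements. -/
theorem exists_surjective_three {n : ℕ} (hn : 4 ≤ n) (U : Fin n → Subgroup G)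
    (e : ∀ i, ↥(Cfsg.SU 2 F 3) ≃* ↥(U i)) (V : Fin n → Fin n → Subgroup G)
    (h1 : ∀ i j : Fin n, (i : ℕ) + 2 ≤ j → ∀ x ∈ U i, ∀ y ∈ U j, x * y = y * x)
    (h2 : ∀ i j : Fin n, (i : ℕ) + 1 = j → Cfsg.IsStandardUnitaryPair (V i j) (U i) (U j) F 3)
    (hgen : (⨆ i, U i) ⊔ (⨆ (i : Fin n) (j : Fin n) (_ : (i : ℕ) + 1 = j), V i j) = ⊤)
    (h4 : ∀ i j k : Fin n, (i : ℕ) + 1 = j → (j : ℕ) + 1 = k →
      ∃ g : ↥(Cfsg.SU 4 F 3) →* ↥(V i j ⊔ V j k), Function.Surjective g) :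
    ∃ f : ↥(Cfsg.SU (n + 1) F 3) →* G, Function.Surjective f := by
  obtain ⟨ψ, hψ, hag⟩ := exists_agreeing_of_monomial hF (Quat.exists_monomial hF) U V h1 h2
  have inj : ∀ (χ : ↥(Cfsg.SU 2 F 3) →* G) (i : Fin n), χ.range = U i → Function.Injective χ := by
    intro χ i hχ
    haveI : Finite χ.range := Finite.of_surjective χ.rangeRestrict χ.rangeRestrict_surjective
    have hc : Nat.card ↥(Cfsg.SU 2 F 3) = Nat.card χ.range := by rw [hχ]; exact Nat.card_congr (e i).toEquiv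
    have hb : Function.Bijective χ.rangeRestrict :=
      (Nat.bijective_iff_surjective_and_card _).2 ⟨χ.rangeRestrict_surjective, hc⟩
    exact fun x y h => hb.1 (Subtype.ext h)
  refine exists_surjective_of_maps hF le_rfl U V h1 hgen ψ hψ hag (k0 := 2) (by omega) (by omega) (Or.inr le_rfl)
    fun d hd => ?_
  obtain ⟨hr0, hl0, hh0⟩ := hψ d (by omega)
  obtain ⟨hr1, hl1, hh1⟩ := hψ (d + 1) (by omega)
  obtain ⟨g4, hg4⟩ := h4 ⟨d, by omega⟩ ⟨d + 1, by omega⟩ ⟨d + 1 + 1, by omega⟩ rfl rfl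
  set g := (Subgroup.subtype _).comp g4 with hg
  have hrange : ∀ x, x ∈ V ⟨d, by omega⟩ ⟨d + 1, by omega⟩ ⊔ V ⟨d + 1, by omega⟩ ⟨d + 1 + 1, by omega⟩ →
      ∃ y, g y = x := fun x hx => by
    obtain ⟨y, hy⟩ := hg4 ⟨x, hx⟩
    exact ⟨y, congrArg Subtype.val hy⟩
  have φlo := inj ((ψ d).comp lo) _ hl0
  have φr : ∀ a, ∃ y, g y = ψ d a := fun a => hrange _ (Subgroup.mem_sup_left (hr0 ▸ ⟨a, rfl⟩))
  have ψr : ∀ a, ∃ y, g y = ψ (d + 1) a := fun a => hrange _ (Subgroup.mem_sup_right (hr1 ▸ ⟨a, rfl⟩))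
  have hne : ψ d (lo (Quat.w hF)) * ψ d (lo (Quat.v hF)) ≠ ψ d (lo (Quat.v hF)) * ψ d (lo (Quat.w hF)) := by
    intro h
    have h' : (ψ d).comp lo (Quat.w hF * Quat.v hF) = (ψ d).comp lo (Quat.v hF * Quat.w hF) := by
      simpa only [map_mul, MonoidHom.comp_apply] using h
    have := (φlo h').symm
    rw [Quat.v_mul_w] at this
    exact Quat.n1_ne_one hF (mul_eq_right.1 this)
  let D : Base.Data F G :=
    { hF := hF
      g := g
      hg := scal_of_not_commute hF g (φr _) (φr _) hne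
      φ := ψ d
      ψ := ψ (d + 1)
      agree := hag d (by omega)
      φlo := φlo
      φhi := inj _ _ hh0
      ψlo := inj _ _ hl1
      ψhi := inj _ _ hh1
      φr := φr
      ψr := ψr
      comm := fun s t => h1 ⟨d, by omega⟩ ⟨d + 1 + 1, by omega⟩ le_rfl _
        (by rw [← hl0]; exact ⟨s, rfl⟩) _ (by rw [← hh1]; exact ⟨t, rfl⟩) }
  obtain ⟨f, hf0, hf1⟩ := D.exists_hom
  refine ⟨f, fun i h a => ?_⟩
  obtain rfl | rfl : i = 0 ∨ i = 1 := by omega
  · exact hf0 a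
  · exact hf1 a

end Cfsg.Lib.Phan
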