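import Cfsg.Agent.Lib.Phan.CoverTwo
import Cfsg.Agent.Lib.Linear.PSUSimple
import Cfsg.Agent.Lib.Linear.UnitaryCenter

/-!
# Recognition of unitary groups over the field with four elements from weak Phan systems
-/

set_option autoImplicit false
set_option linter.unusedSectionVars false

namespace Cfsg.Lib.Phan.Two

open Cfsg Cfsg.Lib.Linear Cfsg.Lib.Linear.Herm Cfsg.Lib.Phan
open scoped Matrix

variable {F : Type*} [Field F] [Fintype F] (hF : Fintype.card F = 2 ^ 2) {G : Type*} [Group G]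
include hF

omit hF in
theorem blk_self {m : ℕ} (h : 0 + m ≤ m) (g : Cfsg.SU m F 2) : blk (sh 0 h) g = g := by
  refine act_ext fun j => funext fun x => ?_
  have e : ∀ i : Fin m, sh 0 h i = i := fun i => Fin.ext (by simp [sh_val])
  rw [← e x, act_blk, e x]
  congr 1
  exact funext fun k => by rw [Function.comp_apply, e]

/-- `SU n` is generated by its consecutive three dimensional blocks. -/
theorem eq_top_of_blocks : ∀ {n : ℕ}, 3 ≤ n → ∀ S : Subgroup (Cfsg.SU n F 2),
    (∀ i (h : i + 3 ≤ n) (a : Cfsg.SU 3 F 2), blk (sh i h) a ∈ S) → S = ⊤ := by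
  intro n hn
  induction n, hn using Nat.le_induction with
  | base =>
    intro S hS
    refine eq_top_iff.2 fun g _ => ?_
    rw [← blk_self (by omega) g]
    exact hS 0 _ g
  | succ m hm ih =>
    obtain ⟨k, rfl⟩ : ∃ k, m = k + 1 := ⟨m - 1, by omega⟩
    intro S hS
    have hup : ∀ r, up r ∈ S := by
      intro r
      have h := ih (S.comap up) fun i hi a => by
        show up (blk (sh i hi) a) ∈ S
        rw [show up (blk (sh i hi) a) = blk (sh (1 + i) (by omega)) a from blk_sh i 1 hi (by omega) a]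
        exact hS _ _ a
      exact (h.symm ▸ Subgroup.mem_top r : r ∈ S.comap up)
    refine eq_top_iff.2 fun g _ => ?_
    obtain ⟨ξ, z, hv⟩ : ∃ ξ z, act g (e0 (k + 1) F) = Fin.cons ξ z :=
      ⟨_, _, (Fin.cons_self_tail _).symm⟩
    obtain ⟨r, u, hr⟩ := exists_rep hF (by omega) z
    have e : act (up r⁻¹) (Fin.cons ξ z) = emb (sh 0 (by omega : 0 + 3 ≤ k + 2)) (Fin.cons ξ u : Fin 3 → F) := by
      rw [act_up, ← hr, act_inv_act, emb_cons hF]
    have hwu : hB hF 3 (Fin.cons ξ u : Fin 3 → F) (Fin.cons ξ u) = 1 := by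
      have h := congrArg (fun s => hB hF _ s s) e
      simp only [form_act, hB_emb] at h
      rw [← h, ← hv, form_act, hB_e0_self]
    obtain ⟨a, ha⟩ := exists_map_one hF (n := 3) (by omega) (hB_e0_self hF) hwu
    set A := blk (sh 0 (by omega : 0 + 3 ≤ k + 2)) a
    obtain ⟨s, hs⟩ := mem_range_up hF (g := A⁻¹ * (up r⁻¹ * g)) (by
      rw [act_mul, act_mul, hv, e, ← ha, ← act_blk_emb, e0_eq, emb_single, e0_eq,
        show sh 0 (by omega : 0 + 3 ≤ k + 2) (0 : Fin 3) = 0 from Fin.ext (by simp [sh_val]), act_inv_act])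
    have he : g = up r * (A * up s) := by
      rw [hs, mul_inv_cancel_left, map_inv, mul_inv_cancel_left]
    rw [he]
    exact mul_mem (hup r) (mul_mem (hS 0 _ a) (hup s))

/-- A map with non-trivial image is injective. -/
theorem injective_of_ne (g : Cfsg.SU 4 F 2 →* G) (h : ∃ y, g y ≠ 1) : Function.Injective g := by
  have hc : Subgroup.center ↥(Cfsg.SU 4 F 2) = ⊥ :=
    Subgroup.eq_bot_of_card_eq _ (by rw [Herm.card_center_SU hF (by norm_num)]; rfl)
  have hs := psu_simple hF (n := 4) le_rfl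
  have hN : (g.ker.map (QuotientGroup.mk' (Subgroup.center ↥(Cfsg.SU 4 F 2)))).Normal :=
    Subgroup.Normal.map inferInstance _ (QuotientGroup.mk'_surjective _)
  rw [← MonoidHom.ker_eq_bot_iff]
  rcases hs.eq_bot_or_eq_top_of_normal _ hN with h' | h'
  · rw [eq_bot_iff]
    intro z hz
    have := (QuotientGroup.eq_one_iff z).1 (Subgroup.mem_bot.1 (h' ▸ Subgroup.mem_map_of_mem _ hz))
    rwa [hc] at this
  · exfalso
    obtain ⟨y, hy⟩ := h
    obtain ⟨x, hx, hxe⟩ : QuotientGroup.mk' (Subgroup.center ↥(Cfsg.SU 4 F 2)) y ∈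
        g.ker.map (QuotientGroup.mk' (Subgroup.center ↥(Cfsg.SU 4 F 2))) := h' ▸ Subgroup.mem_top _
    have hxy := QuotientGroup.eq.1 hxe
    rw [hc, Subgroup.mem_bot, inv_mul_eq_one] at hxy
    exact hy (hxy ▸ hx)

/-- The recognition theorem over the field with four elements. -/
theorem exists_surjective_two {n : ℕ} (hn : 4 ≤ n) (U : Fin n → Subgroup G)
    (e : ∀ i, ↥(Cfsg.SU 2 F 2) ≃* ↥(U i)) (V : Fin n → Fin n → Subgroup G)
    (h1 : ∀ i j : Fin n, (i : ℕ) + 2 ≤ j → ∀ x ∈ U i, ∀ y ∈ U j, x * y = y * x)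
    (h2 : ∀ i j : Fin n, (i : ℕ) + 1 = j → Cfsg.IsStandardUnitaryPair (V i j) (U i) (U j) F 2)
    (hgen : (⨆ i, U i) ⊔ (⨆ (i : Fin n) (j : Fin n) (_ : (i : ℕ) + 1 = j), V i j) = ⊤)
    (h4 : ∀ i j k : Fin n, (i : ℕ) + 1 = j → (j : ℕ) + 1 = k →
      ∃ g : ↥(Cfsg.SU 4 F 2) →* ↥(V i j ⊔ V j k), Function.Surjective g)
    (h5 : ∀ i j k : Fin n, (j : ℕ) + 1 = k → ((i : ℕ) + 2 ≤ j ∨ (k : ℕ) + 2 ≤ i) →
      ∀ x ∈ U i, ∀ y ∈ V j k, x * y = y * x)
    (h6 : ∀ i j k l : Fin n, (i : ℕ) + 1 = j → (k : ℕ) + 1 = l → (j : ℕ) + 2 ≤ k →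
      ∀ x ∈ V i j, ∀ y ∈ V k l, x * y = y * x) :
    ∃ f : ↥(Cfsg.SU (n + 1) F 2) →* G, Function.Surjective f := by
  obtain ⟨ψ, hψ, hag⟩ := exists_agreeing_of_monomial hF (exists_monomial hF) U V h1 h2
  have hlo : ∀ i (h : i + 1 < n) g, ψ i (lo g) ∈ U ⟨i, by omega⟩ := fun i h g =>
    (hψ i h).2.1 ▸ ⟨g, rfl⟩
  have hhi : ∀ i (h : i + 1 < n) g, ψ i (hi g) ∈ U ⟨i + 1, h⟩ := fun i h g =>
    (hψ i h).2.2 ▸ ⟨g, rfl⟩
  have hV : ∀ i (h : i + 1 < n) a, ψ i a ∈ V ⟨i, by omega⟩ ⟨i + 1, h⟩ := fun i h a =>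
    (hψ i h).1 ▸ ⟨a, rfl⟩
  -- the windows of length two
  have hbase : ∀ d, d + 3 ≤ n → ∃ f : Cfsg.SU 4 F 2 →* G,
      ∀ i (h : i + 3 ≤ 4) a, f (blk (sh i h) a) = ψ (d + i) a := by
    intro d hd
    obtain ⟨g4, hg4⟩ := h4 ⟨d, by omega⟩ ⟨d + 1, by omega⟩ ⟨d + 1 + 1, by omega⟩ rfl rfl
    set g := (Subgroup.subtype _).comp g4 with hg
    have hrange : ∀ x, x ∈ V ⟨d, by omega⟩ ⟨d + 1, by omega⟩ ⊔ V ⟨d + 1, by omega⟩ ⟨d + 1 + 1, by omega⟩ →
        ∃ y, g y = x := fun x hx => by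
      obtain ⟨y, hy⟩ := hg4 ⟨x, hx⟩
      exact ⟨y, congrArg Subtype.val hy⟩
    have hne : ψ d (lo (dd hF)) ≠ 1 := by
      intro h
      let χ := (ψ d).comp lo
      have hr : χ.range = U ⟨d, by omega⟩ := (hψ d (by omega)).2.1
      haveI : Finite χ.range := Finite.of_surjective χ.rangeRestrict χ.rangeRestrict_surjective
      have hc : Nat.card ↥(Cfsg.SU 2 F 2) = Nat.card χ.range := by rw [hr]; exact Nat.card_congr (e _).toEquiv
      have hb : Function.Bijective χ.rangeRestrict :=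
        (Nat.bijective_iff_surjective_and_card _).2 ⟨χ.rangeRestrict_surjective, hc⟩
      exact dd_ne hF (hb.1 (Subtype.ext (h.trans (map_one χ).symm)))
    have hinj : Function.Injective g := injective_of_ne hF g (by
      obtain ⟨y, hy⟩ := hrange _ (Subgroup.mem_sup_left (hV d (by omega) (lo (dd hF))))
      exact ⟨y, by rw [hy]; exact hne⟩)
    obtain ⟨f, hf0, hf1⟩ := exists_base hF g hinj (ψ d) (ψ (d + 1))
      (fun a => hrange _ (Subgroup.mem_sup_left (hV d (by omega) a)))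
      (fun a => hrange _ (Subgroup.mem_sup_right (hV (d + 1) (by omega) a)))
      (hag d (by omega)) hne
      (fun s t => h1 ⟨d, by omega⟩ ⟨d + 1 + 1, by omega⟩ le_rfl _ (hlo d (by omega) s) _ (hhi (d + 1) (by omega) t))
    refine ⟨f, fun i h a => ?_⟩
    obtain rfl | rfl : i = 0 ∨ i = 1 := by omega
    · exact hf0 a
    · exact hf1 a
  -- the longer windows
  have hstep : ∀ k, 2 ≤ k → ∀ d, d + k + 1 ≤ n →
      ∃ f : Cfsg.SU (k + 2) F 2 →* G, ∀ i (h : i + 3 ≤ k + 2) a, f (blk (sh i h) a) = ψ (d + i) a := by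
    intro k hk
    induction k, hk using Nat.le_induction with
    | base => exact fun d hd => hbase d (by omega)
    | succ k hk ih =>
      intro d hd
      obtain ⟨f', hf'⟩ := ih (d + 1) (by omega)
      obtain ⟨g₀, hg₀⟩ := hbase d (by omega)
      have cen : ∀ {m : ℕ}, 3 ≤ m → ∀ (ι : ℕ) (hι : ι + m ≤ k + 2) (x : G),
          (∀ j, j + 3 ≤ m → ∀ b, Commute x (ψ (d + 1 + (ι + j)) b)) →
          ∀ h : Cfsg.SU m F 2, Commute x (f' (blk (sh ι hι) h)) := by
        intro m hm ι hι x hx h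
        have hS := eq_top_of_blocks hF hm ((Subgroup.centralizer {x}).comap (f'.comp (blk (sh ι hι))))
          fun j hj b => by
            show f' (blk (sh ι hι) (blk (sh j hj) b)) ∈ Subgroup.centralizer {x}
            rw [Subgroup.mem_centralizer_singleton_iff, blk_sh j ι hj hι b, hf' (ι + j) (by omega)]
            exact (hx j hj b).eq.symm
        have := hS.symm ▸ Subgroup.mem_top h
        exact (Subgroup.mem_centralizer_singleton_iff.1 this).symm
      let D : Amal F (k + 1) G :=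
        { hF := hF
          hk := by omega
          ρ := f'
          κ := g₀
          agree := fun a => by
            rw [show g₀ (up a) = ψ (d + 1) a from hg₀ 1 (by omega) a, hf' 0 (by omega) a]
          comm := fun s h => by
            have hx : g₀ (blk (sh 0 (by omega)) s) = ψ d (lo s) := by
              rw [← blk_sh 0 0 (show 0 + 2 ≤ 3 by omega) (show 0 + 3 ≤ 4 by omega) s]
              exact hg₀ 0 (by omega) (lo s)
            rw [hx]
            exact cen (by omega) 1 (by omega) _ (fun j hj b => h5 ⟨d, by omega⟩ ⟨d + 1 + (1 + j), by omega⟩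
              ⟨d + 1 + (1 + j) + 1, by omega⟩ rfl (Or.inl (by simp; omega)) _ (hlo d (by omega) s) _
              (hV _ (by omega) b)) h
          comm3 := fun a h => by
            rw [show g₀ (blk (sh 0 (by omega)) a) = ψ d a from hg₀ 0 (by omega) a]
            by_cases hk2 : k = 2
            · subst hk2
              have hh := blk_sh 1 1 (show 1 + 2 ≤ 3 by omega) (show 1 + 3 ≤ 2 + 2 by omega) h
              rw [show blk (sh 2 (by omega : 2 + 2 ≤ 2 + 1 + 1)) h = blk (sh 1 (show 1 + 3 ≤ 2 + 2 by omega)) (hi h)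
                from hh.symm, hf' 1 (by omega)]
              exact (Commute.symm (h5 ⟨d + 1 + 1 + 1, by omega⟩ ⟨d, by omega⟩ ⟨d + 1, by omega⟩ rfl
                (Or.inr (by simp)) _ (hhi _ (by omega) h) _ (hV d (by omega) a)))
            · exact cen (by omega) 2 (by omega) _ (fun j hj b => h6 ⟨d, by omega⟩ ⟨d + 1, by omega⟩
                ⟨d + 1 + (2 + j), by omega⟩ ⟨d + 1 + (2 + j) + 1, by omega⟩ rfl rfl (by simp) _
                (hV d (by omega) a) _ (hV _ (by omega) b)) h }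
      obtain ⟨f, hfr, hfk⟩ := D.exists_extend
      refine ⟨f, fun i h a => ?_⟩
      rcases Nat.eq_zero_or_pos i with rfl | hi
      · rw [← blk_sh 0 0 (show 0 + 3 ≤ 4 by omega) (show 0 + 4 ≤ k + 1 + 2 by omega) a]
        exact (hfk _).trans (hg₀ 0 (by omega) a)
      · obtain ⟨j, rfl⟩ : ∃ j, i = 1 + j := ⟨i - 1, by omega⟩
        rw [← blk_sh j 1 (by omega : j + 3 ≤ k + 2) (by omega) a]
        refine (hfr _).trans ?_
        show f' _ = _
        rw [hf' j, ← add_assoc]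
  obtain ⟨k, rfl⟩ : ∃ k, n = k + 1 := ⟨n - 1, by omega⟩
  obtain ⟨f, hf⟩ := hstep k (by omega) 0 (by omega)
  simp only [zero_add] at hf
  refine ⟨f, MonoidHom.range_eq_top.1 (top_le_iff.1 ?_)⟩
  rw [← hgen]
  refine sup_le (iSup_le fun i => ?_) (iSup₂_le fun i j => iSup_le fun hij => ?_)
  · by_cases h : (i : ℕ) + 1 < k + 1
    · rintro x hx
      have h' := hψ i h
      rw [show i = (⟨(i : ℕ), by omega⟩ : Fin (k + 1)) from rfl, ← h'.2.1] at hx
      obtain ⟨g, rfl⟩ := hx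
      exact ⟨_, hf i (by omega) (lo g)⟩
    · rintro x hx
      have h' := hψ (k - 1) (by omega)
      rw [show i = (⟨k - 1 + 1, by omega⟩ : Fin (k + 1)) from Fin.ext (by simp; omega), ← h'.2.2] at hx
      obtain ⟨g, rfl⟩ := hx
      exact ⟨_, hf (k - 1) (by omega) (hi g)⟩
  · have e : j = ⟨(i : ℕ) + 1, by omega⟩ := Fin.ext hij.symm
    rw [e]
    refine le_of_eq_of_le (hψ i (by omega)).1.symm ?_
    rintro _ ⟨a, rfl⟩
    exact ⟨_, hf i (by omega) a⟩

end Cfsg.Lib.Phan.Two
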