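import Cfsg.Agent.Lib.Phan.Gen
import Cfsg.Agent.Lib.Phan.GaugeExt

/-!
# The field with four elements and its two dimensional special unitary group

The group has order six: it consists of the diagonal and antidiagonal elements, and its automorphisms are monomial.
-/

set_option autoImplicit false
set_option linter.unusedSectionVars false

namespace Cfsg.Lib.Phan.Two

open Cfsg Cfsg.Lib.Linear Cfsg.Lib.Linear.Herm Cfsg.Lib.Phan
open scoped Matrix

variable {F : Type*} [Field F] [Fintype F]

set_option quotPrecheck false in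
local notation "G₂" => ↥(Cfsg.SU 2 F 2)

variable (hF : Fintype.card F = 2 ^ 2)
include hF

theorem two_zero : (2 : F) = 0 := by
  have h : ((2 ^ 2 : ℕ) : F) = 0 := by rw [← hF]; exact Nat.cast_card_eq_zero F
  push_cast at h
  exact mul_self_eq_zero.1 (by linear_combination h : (2 : F) * 2 = 0)

theorem cube {x : F} (hx : x ≠ 0) : x ^ 3 = 1 := by
  have := FiniteField.pow_card_sub_one_eq_one x hx
  rwa [hF] at this

theorem sq_sq (x : F) : (x ^ 2) ^ 2 = x := pow_q_q hF x

theorem nr_one_of_ne {x : F} (hx : x ≠ 0) : nr hF x = 1 := by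
  rw [nr, frob_apply]
  linear_combination cube hF hx

theorem exists_omega : ∃ w : F, w ^ 2 + w + 1 = 0 := by
  obtain ⟨μ, hμ, hμ2⟩ := exists_unit hF le_rfl
  refine ⟨μ, ?_⟩
  have h1 : μ ≠ 1 := fun e => hμ2 (by rw [e, one_mul])
  have : (μ - 1) * (μ ^ 2 + μ + 1) = 0 := by linear_combination hμ
  exact (mul_eq_zero.1 this).resolve_left (sub_ne_zero.2 h1)

/-- A primitive cube root of unity. -/
noncomputable def om : F := (exists_omega hF).choose

theorem om_eq : om hF ^ 2 + om hF + 1 = 0 := (exists_omega hF).choose_spec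

theorem om_cube : om hF ^ 3 = 1 := by linear_combination (om hF - 1) * om_eq hF

theorem om_ne_zero : om hF ≠ 0 := fun h => one_ne_zero (α := F) (by
  have := om_eq hF; rw [h] at this; linear_combination this)

theorem om_ne_one : om hF ≠ 1 := fun h => one_ne_zero (α := F) (by
  have := om_eq hF; rw [h] at this; linear_combination this - two_zero hF)

theorem om2_ne_one : om hF ^ 2 ≠ 1 := fun h => om_ne_one hF (by linear_combination om_cube hF - om hF * h)

theorem om2_ne_om : om hF ^ 2 ≠ om hF := fun h => one_ne_zero (α := F) (by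
  linear_combination om_eq hF - h - om hF * two_zero hF)

theorem cube_cases {x : F} (hx : x ^ 3 = 1) : x = 1 ∨ x = om hF ∨ x = om hF ^ 2 := by
  have : (x - 1) * ((x - om hF) * (x - om hF ^ 2)) = 0 := by
    linear_combination hx + (x - x ^ 2) * om_eq hF + (x - 1) * om_cube hF
  simp only [mul_eq_zero, sub_eq_zero] at this
  exact this

theorem exists_dd : ∃ g : G₂, mat g 0 0 = om hF ∧ mat g 0 1 = 0 ∧ mat g 1 0 = 0 ∧ mat g 1 1 = om hF ^ 2 := by
  obtain ⟨g, a, b, c, d⟩ := exists_su_two hF (a := om hF) (b := 0) (by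
    linear_combination om_cube hF)
  exact ⟨g, a, b, by simpa using c, d⟩

theorem exists_tt : ∃ g : G₂, mat g 0 0 = 0 ∧ mat g 0 1 = 1 ∧ mat g 1 0 = 1 ∧ mat g 1 1 = 0 := by
  obtain ⟨g, a, b, c, d⟩ := exists_su_two hF (a := (0 : F)) (b := 1) (by simp)
  exact ⟨g, a, b, by rw [c]; linear_combination -(two_zero hF), by simpa using d⟩

/-- The diagonal generator. -/
noncomputable def dd : G₂ := (exists_dd hF).choose

/-- The antidiagonal generator. -/
noncomputable def tt : G₂ := (exists_tt hF).choose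

theorem mat_dd : mat (dd hF) = !![om hF, 0; 0, om hF ^ 2] := by
  obtain ⟨a, b, c, d⟩ := (exists_dd hF).choose_spec
  ext i j
  fin_cases i <;> fin_cases j
  exacts [a, b, c, d]

theorem mat_tt : mat (tt hF) = !![0, 1; 1, 0] := by
  obtain ⟨a, b, c, d⟩ := (exists_tt hF).choose_spec
  ext i j
  fin_cases i <;> fin_cases j
  exacts [a, b, c, d]

omit hF in
theorem mat_one' {n : ℕ} : mat (1 : Cfsg.SU n F 2) = 1 := rfl

theorem mat_mul' {n : ℕ} (g h : Cfsg.SU n F 2) : mat (g * h) = mat g * mat h := rfl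

theorem mat_dd2 : mat (dd hF * dd hF) = !![om hF ^ 2, 0; 0, om hF] := by
  rw [mat_mul' hF, mat_dd]
  ext i j
  fin_cases i <;> fin_cases j <;> simp [Matrix.mul_apply, Fin.sum_univ_two]
  · ring
  · linear_combination om hF * om_cube hF

theorem mat_ddtt : mat (dd hF * tt hF) = !![0, om hF; om hF ^ 2, 0] := by
  rw [mat_mul' hF, mat_dd, mat_tt]
  ext i j
  fin_cases i <;> fin_cases j <;> simp [Matrix.mul_apply, Fin.sum_univ_two]

theorem mat_dd2tt : mat (dd hF * dd hF * tt hF) = !![0, om hF ^ 2; om hF, 0] := by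
  rw [mat_mul' hF, mat_dd2, mat_tt]
  ext i j
  fin_cases i <;> fin_cases j <;> simp [Matrix.mul_apply, Fin.sum_univ_two]

theorem su_two_shape (g : G₂) : mat g 0 1 = 0 ∨ mat g 0 0 = 0 := by
  by_contra h
  push Not at h
  have hd := su_two_det hF g
  refine one_ne_zero (α := F) ?_
  linear_combination two_zero hF - hd + cube hF h.1 + cube hF h.2

theorem su_two_list (g : G₂) : g = 1 ∨ g = dd hF ∨ g = dd hF * dd hF ∨ g = tt hF ∨ g = dd hF * tt hF ∨
    g = dd hF * dd hF * tt hF := by
  have hd := su_two_det hF g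
  rcases su_two_shape hF g with h | h
  · rw [h] at hd
    rcases cube_cases hF (x := mat g 0 0) (by linear_combination hd) with e | e | e
    · exact Or.inl (su_two_ext hF (by rw [e]; rfl) (by rw [h]; rfl))
    · exact Or.inr (Or.inl (su_two_ext hF (by rw [e, mat_dd]; rfl) (by rw [h, mat_dd]; rfl)))
    · exact Or.inr (Or.inr (Or.inl (su_two_ext hF (by rw [e, mat_dd2]; rfl) (by rw [h, mat_dd2]; rfl))))
  · rw [h] at hd
    rcases cube_cases hF (x := mat g 0 1) (by linear_combination hd) with e | e | e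
    · exact Or.inr (Or.inr (Or.inr (Or.inl (su_two_ext hF (by rw [h, mat_tt]; rfl) (by rw [e, mat_tt]; rfl)))))
    · exact Or.inr (Or.inr (Or.inr (Or.inr (Or.inl
        (su_two_ext hF (by rw [h, mat_ddtt]; rfl) (by rw [e, mat_ddtt]; rfl))))))
    · exact Or.inr (Or.inr (Or.inr (Or.inr (Or.inr
        (su_two_ext hF (by rw [h, mat_dd2tt]; rfl) (by rw [e, mat_dd2tt]; rfl))))))

theorem gen_le {S : Subgroup G₂} (hd : dd hF ∈ S) (ht : tt hF ∈ S) : S = ⊤ := by
  refine eq_top_iff.2 fun g _ => ?_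
  rcases su_two_list hF g with rfl | rfl | rfl | rfl | rfl | rfl
  exacts [one_mem _, hd, mul_mem hd hd, ht, mul_mem hd ht, mul_mem (mul_mem hd hd) ht]

/-- Maps agreeing on the two generators are equal. -/
theorem hom_ext {M : Type*} [Monoid M] {f g : G₂ →* M} (hd : f (dd hF) = g (dd hF)) (ht : f (tt hF) = g (tt hF)) :
    f = g := by
  refine MonoidHom.ext fun x => ?_
  rcases su_two_list hF x with rfl | rfl | rfl | rfl | rfl | rfl <;> simp [hd, ht]

theorem tt_tt : tt hF * tt hF = 1 := by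
  refine mat_ext ?_
  rw [mat_mul' hF, mat_tt, mat_one']
  ext i j
  fin_cases i <;> fin_cases j <;> simp [Matrix.mul_apply, Fin.sum_univ_two]

theorem dd_cube : dd hF * dd hF * dd hF = 1 := by
  refine mat_ext ?_
  rw [mat_mul' hF, mat_dd2, mat_dd, mat_one']
  ext i j
  fin_cases i <;> fin_cases j <;> simp [Matrix.mul_apply, Fin.sum_univ_two] <;> linear_combination om_cube hF

theorem tt_dd : tt hF * dd hF = dd hF * dd hF * tt hF := by
  refine mat_ext ?_
  rw [mat_dd2tt, mat_mul' hF, mat_tt, mat_dd]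
  ext i j
  fin_cases i <;> fin_cases j <;> simp [Matrix.mul_apply, Fin.sum_univ_two]

theorem dd_ne : dd hF ≠ 1 := fun h => om_ne_one hF (by
  have := congrArg (fun g => mat g 0 0) h
  simpa [mat_dd, mat_one'] using this)

theorem tt_ne : tt hF ≠ 1 := fun h => zero_ne_one (α := F) (by
  have := congrArg (fun g => mat g 0 0) h
  simpa [mat_tt, mat_one'] using this)

theorem card_su_two : Nat.card G₂ = 6 := by
  have h1 := Herm.card_SU hF (n := 2) (by norm_num)
  rw [Herm.card_GU hF] at h1
  simp [Finset.prod_range_succ, Nat.even_iff] at h1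
  omega

/-- The squaring automorphism. -/
noncomputable def sqAut : F ≃+* F :=
  RingEquiv.ofRingHom (frob hF) (frob hF) (RingHom.ext (frob_frob hF)) (RingHom.ext (frob_frob hF))

theorem sqAut_om : sqAut hF (om hF) = om hF ^ 2 := frob_apply hF _

/-- Automorphisms preserving the torus are monomial. -/
theorem exists_monomial (α : MulAut G₂) (hD : ∀ g, mat g 0 1 = 0 → mat (α g) 0 1 = 0) :
    ∃ (ν : F) (σ : F ≃+* F), ν ^ (2 + 1) = 1 ∧
      ∀ g, mat (α g) 0 0 = σ (mat g 0 0) ∧ mat (α g) 0 1 = ν * σ (mat g 0 1) := by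
  have a01 : mat (α (dd hF)) 0 1 = 0 := hD _ (by rw [mat_dd]; rfl)
  obtain ⟨σ, hσ⟩ : ∃ σ : F ≃+* F, mat (α (dd hF)) 0 0 = σ (om hF) := by
    have hd := su_two_det hF (α (dd hF))
    rw [a01] at hd
    rcases cube_cases hF (x := mat (α (dd hF)) 0 0) (by linear_combination hd) with e | e | e
    · exfalso
      refine dd_ne hF (α.injective ?_)
      rw [map_one]
      exact su_two_ext hF (by rw [e]; rfl) (by rw [a01]; rfl)
    · exact ⟨RingEquiv.refl F, e⟩
    · exact ⟨sqAut hF, by rw [e, sqAut_om]⟩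
  set β := α (tt hF) with hβ
  set γ := α (dd hF) with hγ
  obtain ⟨γ11, γ10⟩ := su_two_entries hF γ
  rw [a01] at γ10
  simp at γ10
  have b00 : mat β 0 0 = 0 := by
    refine (su_two_shape hF β).resolve_left fun b01 => ?_
    have hc : β * γ = γ * β := by
      refine su_two_ext hF ?_ ?_ <;>
      · show (mat β * mat γ) 0 _ = (mat γ * mat β) 0 _
        simp [Matrix.mul_apply, Fin.sum_univ_two, a01, b01, mul_comm]
    rw [hβ, hγ, ← map_mul, ← map_mul] at hc
    have h := congrArg (fun g => mat g 0 1) (α.injective hc)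
    simp [mat_mul' hF, mat_tt, mat_dd, Matrix.mul_apply, Fin.sum_univ_two] at h
    exact om2_ne_om hF h
  have hν : mat β 0 1 ^ (2 + 1) = 1 := by
    have hd := su_two_det hF β
    rw [b00] at hd
    linear_combination hd
  refine ⟨mat β 0 1, σ, hν, fun g => ?_⟩
  rcases su_two_list hF g with rfl | rfl | rfl | rfl | rfl | rfl <;>
    simp only [map_one, map_mul, mat_mul' hF, ← hβ, ← hγ] <;>
    refine ⟨?_, ?_⟩ <;>
    simp [Matrix.mul_apply, Fin.sum_univ_two, a01, b00, γ10, hσ, mat_dd, mat_tt, mat_one'] <;> ring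

end Cfsg.Lib.Phan.Two
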